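import Mathlib
import Cfsg.Agent.Transfer.PGroupNormal

/-!
# 2-groups with a unique involution: elementary facts

`Uniq t U` : `t` is the only involution which `U` may contain.  For a finite 2-group `U` with this
property and an element `t` that is central in the ambient group:
* `exists_pow` : every element of `U` other than `1`, `t` has a power of square `t`;
* `eq_or_eq_inv` : commuting elements of square `t` are equal or inverse to each other;
* `exists_normal` : if `U > ⟨t⟩` is normal in the 2-group `R`, some `z ∈ U` of square `t` has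
  `⟨z⟩` normal in `R`;
* `sq_of_inverts` : an element of `U` inverting some `w ∈ U` of square `t` has square `t`.
-/

set_option autoImplicit false

namespace Cfsg.Agent.TwoGenNine.QuatSub

open Subgroup

variable {Y : Type*} [Group Y]

/-- `t` is the only involution which `U` may contain. -/
def Uniq (t : Y) (U : Subgroup Y) : Prop := ∀ i ∈ U, i * i = 1 → i = 1 ∨ i = t

theorem Uniq.mono {t : Y} {U V : Subgroup Y} (h : Uniq t U) (hV : V ≤ U) : Uniq t V :=
  fun i hi => h i (hV hi)

/-- an element of a 2-group is killed by a power of 2 -/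
theorem exists_pow_eq_one {U : Subgroup Y} (hU : IsPGroup 2 U) {g : Y} (hg : g ∈ U) :
    ∃ k : ℕ, g ^ (2 ^ k) = 1 := by
  obtain ⟨k, hk⟩ := hU ⟨g, hg⟩
  refine ⟨k, ?_⟩
  have := congrArg Subtype.val hk
  simpa using this

/-- Every element of `U` other than `1` and `t` has a power `h` with `h * h = t`; more precisely
`h = g ^ 2 ^ n` (and `g` has order `2 ^ (n + 2)`). -/
theorem exists_pow {t : Y} {U : Subgroup Y} (hU : IsPGroup 2 U) (hu : Uniq t U) {g : Y}
    (hg : g ∈ U) (h1 : g ≠ 1) (h2 : g ≠ t) : ∃ n : ℕ, g ^ (2 ^ n) * g ^ (2 ^ n) = t := by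
  classical
  have hex := exists_pow_eq_one hU hg
  have hfind : g ^ (2 ^ Nat.find hex) = 1 := Nat.find_spec hex
  have hmin : ∀ m, m < Nat.find hex → g ^ (2 ^ m) ≠ 1 := fun m hm => Nat.find_min hex hm
  obtain ⟨k, hk⟩ : ∃ k, Nat.find hex = k := ⟨_, rfl⟩
  rw [hk] at hfind hmin
  match k, hfind, hmin with
  | 0, hf, _ => exact absurd (by simpa using hf) h1
  | 1, hf, _ =>
    have : g * g = 1 := by rw [← pow_two]; simpa using hf
    rcases hu g hg this with h | h
    · exact absurd h h1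
    · exact absurd h h2
  | (n + 2), hf, hm =>
    refine ⟨n, ?_⟩
    have e1 : g ^ (2 ^ n) * g ^ (2 ^ n) = g ^ (2 ^ (n + 1)) := by
      rw [← pow_add, pow_succ]; congr 1; ring
    have e2 : g ^ (2 ^ (n + 1)) * g ^ (2 ^ (n + 1)) = 1 := by
      rw [← pow_add, ← hf, pow_succ 2 (n + 1)]; congr 1; ring
    rw [e1]
    rcases hu _ (U.pow_mem hg _) e2 with h | h
    · exact absurd h (hm (n + 1) (by omega))
    · exact h

theorem inv_eq_mul {t w : Y} (ht : t * t = 1) (hw : w * w = t) : w⁻¹ = w * t := by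
  rw [inv_eq_iff_mul_eq_one, ← mul_assoc, hw, ht]

theorem inv_sq {t w : Y} (ht : t * t = 1) (hw : w * w = t) : w⁻¹ * w⁻¹ = t := by
  rw [← mul_inv_rev, hw, inv_eq_iff_mul_eq_one, ht]

theorem comm_t {t w : Y} (hw : w * w = t) : w * t = t * w := by
  rw [← hw, mul_assoc]

theorem ne_one_of_sq {t w : Y} (hne : t ≠ 1) (hw : w * w = t) : w ≠ 1 := by
  rintro rfl
  exact hne (by rw [← hw, one_mul])

theorem ne_t_of_sq {t w : Y} (hne : t ≠ 1) (ht : t * t = 1) (hw : w * w = t) : w ≠ t := by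
  rintro rfl
  exact hne (by rw [← hw, ht])

/-- Commuting elements of square `t` (the product being in `U`) are equal or inverse. -/
theorem eq_or_eq_inv {t w g : Y} {U : Subgroup Y} (hu : Uniq t U) (ht : t * t = 1)
    (hw : w * w = t) (hg : g * g = t) (hc : g * w = w * g) (hU : g * w ∈ U) :
    g = w ∨ g = w⁻¹ := by
  have h1 : (g * w) * (g * w) = 1 := by
    calc (g * w) * (g * w) = g * (w * g) * w := by group
      _ = (g * g) * (w * w) := by rw [← hc]; group
      _ = 1 := by rw [hw, hg, ht]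
  rcases hu _ hU h1 with h | h
  · right; exact eq_inv_of_mul_eq_one_left h
  · left
    have : g = t * w⁻¹ := by rw [← h]; group
    rw [this, inv_eq_mul ht hw, comm_t hw, ← mul_assoc, ht, one_mul]

theorem not_comm_of_inverts {t w v : Y} (hne : t ≠ 1) (hw : w * w = t)
    (hv : v * w * v⁻¹ = w⁻¹) : v * w ≠ w * v := by
  intro h
  have h2 : w = w⁻¹ := by rw [← hv, h]; group
  have h3 : w * w = 1 := by
    nth_rewrite 2 [h2]
    group
  exact hne (by rw [← hw, h3])

/-- if `v` inverts `w` and both have square `t` then `w` inverts `v` -/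
theorem inverts_symm {t w v : Y} (ht : t * t = 1) (hw : w * w = t) (hv : v * v = t)
    (h : v * w * v⁻¹ = w⁻¹) : w * v * w⁻¹ = v⁻¹ := by
  have e1 : v * w = w⁻¹ * v := by rw [← h]; group
  have e2 : v⁻¹ = v * t := inv_eq_mul ht hv
  have e3 : w⁻¹ = w * t := inv_eq_mul ht hw
  have e4 : w * v = v * w⁻¹ := by
    calc w * v = w * v * w * w⁻¹ := by group
      _ = w * (v * w) * w⁻¹ := by group
      _ = w * (w⁻¹ * v) * w⁻¹ := by rw [e1]
      _ = v * w⁻¹ := by group
  calc w * v * w⁻¹ = v * (w⁻¹ * w⁻¹) := by rw [e4]; group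
    _ = v * t := by rw [inv_sq ht hw]
    _ = v⁻¹ := e2.symm

/-- the product of two elements of square `t` inverting each other has square `t` -/
theorem mul_sq {t w v : Y} (ht : t * t = 1) (hw : w * w = t) (hv : v * v = t)
    (h : v * w * v⁻¹ = w⁻¹) : (w * v) * (w * v) = t := by
  have e1 : v * w = w⁻¹ * v := by rw [← h]; group
  calc (w * v) * (w * v) = w * (v * w) * v := by group
    _ = w * (w⁻¹ * v) * v := by rw [e1]
    _ = v * v := by group
    _ = t := hv

theorem mul_inverts {t w v : Y} (h : v * w * v⁻¹ = w⁻¹) : (w * v) * w * (w * v)⁻¹ = w⁻¹ := by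
  calc (w * v) * w * (w * v)⁻¹ = w * (v * w * v⁻¹) * w⁻¹ := by group
    _ = w⁻¹ := by rw [h]; group

/-- Between `U > ⟨t⟩` normalised by the 2-group `R` and the centre of `R / ⟨t⟩`: there is `z ∈ U`
with `z * z = t` and `⟨z⟩` normal in `R`. -/
theorem exists_normal [Finite Y] {t : Y} (hne : t ≠ 1) (ht : t * t = 1)
    (hc : ∀ g : Y, g * t = t * g) {U R : Subgroup Y} (hR : IsPGroup 2 R) (hUR : U ≤ R)
    (hu : Uniq t U) (htU : t ∈ U) (hn : ∀ r ∈ R, ∀ u ∈ U, r * u * r⁻¹ ∈ U)
    {w : Y} (hw : w ∈ U) (hw2 : w * w = t) :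
    ∃ z ∈ U, z * z = t ∧ ∀ r ∈ R, r * z * r⁻¹ = z ∨ r * z * r⁻¹ = z⁻¹ := by
  classical
  -- the quotient of `R` by `⟨t⟩`
  let T : Subgroup R := (zpowers t).subgroupOf R
  have htR : t ∈ R := hUR htU
  have hmemT : ∀ r : R, r ∈ T ↔ (r : Y) = 1 ∨ (r : Y) = t := by
    intro r
    rw [Subgroup.mem_subgroupOf, Subgroup.mem_zpowers_iff]
    constructor
    · rintro ⟨k, hk⟩
      rcases Int.even_or_odd' k with ⟨m, rfl | rfl⟩
      · left
        rw [← hk, zpow_mul, zpow_two, ht, one_zpow]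
      · right
        rw [← hk, zpow_add, zpow_mul, zpow_two, ht, one_zpow, one_mul, zpow_one]
    · rintro (h | h)
      · exact ⟨0, by rw [h, zpow_zero]⟩
      · exact ⟨1, by rw [h, zpow_one]⟩
  have hTn : T.Normal := by
    refine ⟨fun n hn' g => ?_⟩
    rw [hmemT] at hn' ⊢
    rcases hn' with h | h
    · left; simp [h]
    · right
      show (g : Y) * n * (g : Y)⁻¹ = t
      rw [h, hc]; group
  let V : Subgroup R := U.subgroupOf R
  have hVn : V.Normal := by
    refine ⟨fun n hn' g => ?_⟩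
    rw [Subgroup.mem_subgroupOf] at hn' ⊢
    exact hn g g.2 n hn'
  let K : Subgroup (R ⧸ T) := V.map (QuotientGroup.mk' T)
  have hKn : K.Normal := Subgroup.Normal.map hVn _ (QuotientGroup.mk'_surjective T)
  have hKne : K ≠ ⊥ := by
    intro hK
    have h1 : QuotientGroup.mk' T ⟨w, hUR hw⟩ ∈ K :=
      Subgroup.mem_map_of_mem _ (by rw [Subgroup.mem_subgroupOf]; exact hw)
    rw [hK, Subgroup.mem_bot, QuotientGroup.mk'_apply, QuotientGroup.eq_one_iff, hmemT] at h1
    rcases h1 with h | h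
    · exact ne_one_of_sq hne hw2 h
    · exact ne_t_of_sq hne ht hw2 h
  obtain ⟨q, hqK, hqc, hqo⟩ := Cfsg.Agent.Transfer.PGroupNormal.exists_mem_inf_center_orderOf
    (p := 2) (hR.to_quotient T) K hKne
  obtain ⟨z, hzV, hzq⟩ := Subgroup.mem_map.1 hqK
  rw [Subgroup.mem_subgroupOf] at hzV
  have hq1 : q ≠ 1 := by
    rintro rfl
    simp at hqo
  have hznT : z ∉ T := by
    intro h
    apply hq1
    rw [← hzq, QuotientGroup.mk'_apply, QuotientGroup.eq_one_iff]
    exact h
  have hz2T : z * z ∈ T := by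
    rw [← QuotientGroup.eq_one_iff]
    have h2 : q ^ 2 = 1 := by rw [← hqo]; exact pow_orderOf_eq_one q
    rw [pow_two] at h2
    rw [← hzq] at h2
    exact h2
  have hz2 : (z : Y) * z = t := by
    rcases (hmemT _).1 hz2T with h | h
    · exfalso
      have h' : (z : Y) * z = 1 := h
      exact hznT ((hmemT z).2 (hu z hzV h'))
    · exact h
  refine ⟨z, hzV, hz2, ?_⟩
  intro r hr
  have hcom : (⟨r, hr⟩ : R) * z * (⟨r, hr⟩ : R)⁻¹ * z⁻¹ ∈ T := by
    rw [← QuotientGroup.eq_one_iff]
    have h3 := (Subgroup.mem_center_iff.1 hqc) (QuotientGroup.mk' T ⟨r, hr⟩)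
    rw [← hzq] at h3
    have h4 : QuotientGroup.mk' T ((⟨r, hr⟩ : R) * z) = QuotientGroup.mk' T (z * ⟨r, hr⟩) := h3
    have h5 : QuotientGroup.mk' T ((⟨r, hr⟩ : R) * z * (⟨r, hr⟩ : R)⁻¹ * z⁻¹) = 1 := by
      rw [map_mul, map_mul, h4]
      rw [map_mul, map_inv, map_inv]
      group
    exact h5
  rcases (hmemT _).1 hcom with h | h
  · left
    have h' : r * (z : Y) * r⁻¹ * (z : Y)⁻¹ = 1 := h
    exact mul_inv_eq_one.1 h'
  · right
    have h' : r * (z : Y) * r⁻¹ * (z : Y)⁻¹ = t := h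
    have : r * (z : Y) * r⁻¹ = t * z := by rw [← h']; group
    rw [this, inv_eq_mul ht hz2, comm_t hz2]

/-- If `u ∈ U` inverts `w ∈ U`, `w * w = t`, then `u * u = t`. -/
theorem sq_of_inverts {t : Y} (hne : t ≠ 1) (ht : t * t = 1) (hc : ∀ g : Y, g * t = t * g)
    {U : Subgroup Y} (hU : IsPGroup 2 U) (hu : Uniq t U) {w u : Y} (hw : w ∈ U)
    (hw2 : w * w = t) (huU : u ∈ U) (h : u * w * u⁻¹ = w⁻¹) : u * u = t := by
  have hnc := not_comm_of_inverts hne hw2 h
  by_contra hut
  by_cases h1 : u * u = 1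
  · rcases hu u huU h1 with rfl | rfl
    · exact hnc (by simp)
    · exact hnc (hc w).symm
  · obtain ⟨n, hn⟩ := exists_pow hU hu (U.mul_mem huU huU) h1 hut
    -- `u * u` commutes with `w`
    have hcw : (u * u) * w = w * (u * u) := by
      have e1 : u * w = w⁻¹ * u := by rw [← h]; group
      have e2 : u * w⁻¹ = w * u := by
        have : u * w⁻¹ * u⁻¹ = w := by
          calc u * w⁻¹ * u⁻¹ = (u * w * u⁻¹)⁻¹ := by group
            _ = w := by rw [h, inv_inv]
        calc u * w⁻¹ = (u * w⁻¹ * u⁻¹) * u := by group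
          _ = w * u := by rw [this]
      calc (u * u) * w = u * (u * w) := by group
        _ = u * w⁻¹ * u := by rw [e1]; group
        _ = w * (u * u) := by rw [e2]; group
    have hcn : (u * u) ^ (2 ^ n) * w = w * (u * u) ^ (2 ^ n) :=
      (Commute.pow_left hcw (2 ^ n))
    have hcu : (u * u) ^ (2 ^ n) * u = u * (u * u) ^ (2 ^ n) := by
      have : Commute (u * u) u := (Commute.refl u).mul_left (Commute.refl u)
      exact this.pow_left _
    rcases eq_or_eq_inv hu ht hw2 hn hcn (U.mul_mem (U.pow_mem (U.mul_mem huU huU) _) hw) with h3 | h3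
    · rw [h3] at hcu
      exact hnc hcu.symm
    · rw [h3] at hcu
      apply hnc
      have : w⁻¹ * u * w = u := by rw [hcu]; group
      calc u * w = w * (w⁻¹ * u * w) := by group
        _ = w * u := by rw [this]

end Cfsg.Agent.TwoGenNine.QuatSub
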