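import Mathlib
import Cfsg.Agent.TwoGenNine.QuatSub
import Cfsg.Agent.TwoGenCore.W2Base

/-!
# Actions on five labelled points

`f : Fin 5 → D` labels five points of a set `D` on which `Y` acts.  `Acts f g σ` says that `g`
permutes the labelled points as `σ`.  `V5` is the normal four-group of the stabiliser of `0` in the
symmetric group on `Fin 5`.
-/

set_option autoImplicit false

namespace Cfsg.Agent.TwoGenNine.FiveLabel

open Subgroup Equiv

/-! ## The symmetric group of degree 5 -/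

abbrev P5 := Equiv.Perm (Fin 5)

def a5 : P5 := swap 1 2 * swap 3 4
def b5 : P5 := swap 1 3 * swap 2 4
def c5 : P5 := swap 1 4 * swap 2 3

/-- The four-group fixing `0`. -/
def V5 : Subgroup P5 where
  carrier := {σ | σ = 1 ∨ σ = a5 ∨ σ = b5 ∨ σ = c5}
  one_mem' := Or.inl rfl
  mul_mem' := by
    rintro a b (rfl | rfl | rfl | rfl) (rfl | rfl | rfl | rfl)
    · left; decide
    · right; left; decide
    · right; right; left; decide
    · right; right; right; decide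
    · right; left; decide
    · left; decide
    · right; right; right; decide
    · right; right; left; decide
    · right; right; left; decide
    · right; right; right; decide
    · left; decide
    · right; left; decide
    · right; right; right; decide
    · right; right; left; decide
    · right; left; decide
    · left; decide
  inv_mem' := by
    rintro a (rfl | rfl | rfl | rfl)
    · left; decide
    · right; left; decide
    · right; right; left; decide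
    · right; right; right; decide

theorem mem_V5 {σ : P5} : σ ∈ V5 ↔ σ = 1 ∨ σ = a5 ∨ σ = b5 ∨ σ = c5 := Iff.rfl

theorem a5_mem : a5 ∈ V5 := Or.inr (Or.inl rfl)
theorem b5_mem : b5 ∈ V5 := Or.inr (Or.inr (Or.inl rfl))
theorem c5_mem : c5 ∈ V5 := Or.inr (Or.inr (Or.inr rfl))

theorem V5_sq {σ : P5} (h : σ ∈ V5) : σ * σ = 1 := by
  rcases h with rfl | rfl | rfl | rfl <;> decide

theorem V5_comm {σ τ : P5} (h : σ ∈ V5) (h' : τ ∈ V5) : σ * τ = τ * σ := by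
  rcases h with rfl | rfl | rfl | rfl <;> rcases h' with rfl | rfl | rfl | rfl <;> decide

theorem V5_zero {σ : P5} (h : σ ∈ V5) : σ 0 = 0 := by
  rcases h with rfl | rfl | rfl | rfl <;> decide

theorem V5_fix {σ : P5} (h : σ ∈ V5) (h1 : σ ≠ 1) : ∀ i, σ i = i → i = 0 := by
  rcases h with rfl | rfl | rfl | rfl
  · exact absurd rfl h1
  · decide
  · decide
  · decide

theorem V5_even {σ : P5} (h : σ ∈ V5) : σ ∈ alternatingGroup (Fin 5) := by
  rw [Equiv.Perm.mem_alternatingGroup]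
  rcases h with rfl | rfl | rfl | rfl <;> decide

/-- `V5` acts regularly on the four points other than `0` -/
theorem V5_regular : ∀ i j : Fin 5, i ≠ 0 → j ≠ 0 → ∃ σ ∈ V5, σ i = j := by
  intro i j hi hj
  have h : ∀ i j : Fin 5, i ≠ 0 → j ≠ 0 → (1 : P5) i = j ∨ a5 i = j ∨ b5 i = j ∨ c5 i = j := by
    decide
  rcases h i j hi hj with h | h | h | h
  · exact ⟨1, V5.one_mem, h⟩
  · exact ⟨a5, a5_mem, h⟩
  · exact ⟨b5, b5_mem, h⟩
  · exact ⟨c5, c5_mem, h⟩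

theorem isPGroup_V5 : IsPGroup 2 V5 := by
  rintro ⟨σ, h⟩
  refine ⟨1, ?_⟩
  apply Subtype.ext
  simp only [pow_one, pow_two]
  exact V5_sq h

set_option maxRecDepth 100000 in
theorem mem_V5_aux : ∀ σ : P5, σ * σ = 1 → σ 0 = 0 → (∀ i, σ i = i → i = 0) →
    (σ = 1 ∨ σ = a5 ∨ σ = b5 ∨ σ = c5) := by decide

theorem mem_V5_of {σ : P5} (h2 : σ * σ = 1) (h0 : σ 0 = 0) (h : ∀ i, σ i = i → i = 0) :
    σ ∈ V5 := mem_V5_aux σ h2 h0 h

set_option maxRecDepth 100000 in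
theorem trans_aux : ∀ σ : P5, σ * σ = 1 → σ 0 = 0 → (σ = 1 ∨ σ = a5 ∨ σ = b5 ∨ σ = c5) ∨
    σ = swap 1 2 ∨ σ = swap 1 3 ∨ σ = swap 1 4 ∨ σ = swap 2 3 ∨ σ = swap 2 4 ∨ σ = swap 3 4 := by
  decide

/-- The product of two commuting transpositions of `1,...,4` lies in `V5`. -/
theorem mul_mem_V5 {σ τ : P5} (hσ : σ * σ = 1) (hτ : τ * τ = 1) (hστ : (σ * τ) * (σ * τ) = 1)
    (hσ0 : σ 0 = 0) (hτ0 : τ 0 = 0) (h1 : σ ∉ V5) (h2 : τ ∉ V5) : σ * τ ∈ V5 := by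
  have e1 := (trans_aux σ hσ hσ0).resolve_left h1
  have e2 := (trans_aux τ hτ hτ0).resolve_left h2
  rw [mem_V5]
  clear hσ hτ hσ0 hτ0 h1 h2
  revert hστ
  rcases e1 with rfl | rfl | rfl | rfl | rfl | rfl <;>
    rcases e2 with rfl | rfl | rfl | rfl | rfl | rfl <;> decide

set_option maxRecDepth 100000 in
theorem conj_aux : ∀ σ : P5, σ 0 = 0 →
    ((σ * a5 * σ⁻¹ = 1 ∨ σ * a5 * σ⁻¹ = a5 ∨ σ * a5 * σ⁻¹ = b5 ∨ σ * a5 * σ⁻¹ = c5) ∧
    (σ * b5 * σ⁻¹ = 1 ∨ σ * b5 * σ⁻¹ = a5 ∨ σ * b5 * σ⁻¹ = b5 ∨ σ * b5 * σ⁻¹ = c5) ∧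
    (σ * c5 * σ⁻¹ = 1 ∨ σ * c5 * σ⁻¹ = a5 ∨ σ * c5 * σ⁻¹ = b5 ∨ σ * c5 * σ⁻¹ = c5)) := by
  decide

/-- `V5` is normal in the stabiliser of `0`. -/
theorem conj_mem_V5 {σ τ : P5} (hσ : σ 0 = 0) (hτ : τ ∈ V5) : σ * τ * σ⁻¹ ∈ V5 := by
  obtain ⟨h1, h2, h3⟩ := conj_aux σ hσ
  rcases hτ with rfl | rfl | rfl | rfl
  · rw [mul_one, mul_inv_cancel]; exact V5.one_mem
  · exact h1
  · exact h2
  · exact h3

/-- The stabiliser of `0` in the alternating group permutes the involutions of `V5`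
transitively. -/
theorem exists_conj_V5 {σ τ : P5} (hσ : σ ∈ V5) (hσ1 : σ ≠ 1) (hτ : τ ∈ V5) (hτ1 : τ ≠ 1) :
    ∃ ρ ∈ alternatingGroup (Fin 5), ρ 0 = 0 ∧ ρ * σ * ρ⁻¹ = τ := by
  have h : ∀ σ τ : P5, (σ = a5 ∨ σ = b5 ∨ σ = c5) → (τ = a5 ∨ τ = b5 ∨ τ = c5) →
      ∃ ρ : P5, ρ ∈ alternatingGroup (Fin 5) ∧ ρ 0 = 0 ∧ ρ * σ * ρ⁻¹ = τ := by
    intro σ τ h1 h2
    simp only [Equiv.Perm.mem_alternatingGroup]
    rcases h1 with rfl | rfl | rfl <;> rcases h2 with rfl | rfl | rfl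
    · exact ⟨1, by decide⟩
    · exact ⟨swap 2 3 * swap 3 4, by decide⟩
    · exact ⟨swap 2 4 * swap 3 4, by decide⟩
    · exact ⟨swap 2 4 * swap 3 4, by decide⟩
    · exact ⟨1, by decide⟩
    · exact ⟨swap 2 3 * swap 3 4, by decide⟩
    · exact ⟨swap 2 3 * swap 3 4, by decide⟩
    · exact ⟨swap 2 4 * swap 3 4, by decide⟩
    · exact ⟨1, by decide⟩
  obtain ⟨ρ, h1, h2, h3⟩ := h σ τ (hσ.resolve_left hσ1) (hτ.resolve_left hτ1)
  exact ⟨ρ, h1, h2, h3⟩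

/-- two different involutions of `V5` -/
theorem exists_other {σ : P5} (hσ : σ ∈ V5) (hσ1 : σ ≠ 1) :
    ∃ τ ∈ V5, τ ≠ 1 ∧ τ ≠ σ := by
  rcases hσ.resolve_left hσ1 with rfl | rfl | rfl
  · exact ⟨b5, b5_mem, by decide, by decide⟩
  · exact ⟨a5, a5_mem, by decide, by decide⟩
  · exact ⟨a5, a5_mem, by decide, by decide⟩

/-- if `σ`, `τ` are different involutions of `V5` then every element of `V5` is in their span -/
theorem V5_span {σ τ ρ : P5} (hσ : σ ∈ V5) (hσ1 : σ ≠ 1) (hτ : τ ∈ V5) (hτ1 : τ ≠ 1)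
    (hne : σ ≠ τ) (hρ : ρ ∈ V5) : ρ = 1 ∨ ρ = σ ∨ ρ = τ ∨ ρ = σ * τ := by
  rcases hσ.resolve_left hσ1 with rfl | rfl | rfl <;>
    rcases hτ.resolve_left hτ1 with rfl | rfl | rfl <;>
    first
    | exact absurd rfl hne
    | (rcases hρ with rfl | rfl | rfl | rfl <;> decide)

end Cfsg.Agent.TwoGenNine.FiveLabel
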