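import Mathlib

/-!
# Maximal 2-subgroups of a subgroup

`SylIn T A` : `T` is a Sylow 2-subgroup of the subgroup `A`, as a statement about subgroups of the
ambient finite group.
-/

set_option autoImplicit false

namespace Cfsg.Agent.TwoGenNine.SylIn

open Subgroup Pointwise

variable {Y : Type*} [Group Y]

/-- `T` is a Sylow 2-subgroup of the subgroup `A`. -/
def SylIn (T A : Subgroup Y) : Prop :=
  T ≤ A ∧ IsPGroup 2 T ∧ ∀ Q : Subgroup Y, Q ≤ A → IsPGroup 2 Q → T ≤ Q → Q ≤ T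

theorem isPGroup_subgroupOf {Q A : Subgroup Y} (hQ : IsPGroup 2 Q) :
    IsPGroup 2 (Q.subgroupOf A) := hQ.comap_subtype

theorem sylIn_map {A : Subgroup Y} (P : Sylow 2 A) :
    SylIn ((P : Subgroup A).map A.subtype) A := by
  refine ⟨?_, P.2.map _, ?_⟩
  · rintro _ ⟨a, _, rfl⟩
    exact a.2
  · intro Q hQA hQ hle q hq
    have h1 : (P : Subgroup A) ≤ Q.subgroupOf A := by
      intro a ha
      exact hle ⟨a, ha, rfl⟩
    have h2 := P.is_maximal' (isPGroup_subgroupOf hQ) h1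
    have h3 : (⟨q, hQA hq⟩ : A) ∈ (P : Subgroup A) := by
      rw [← h2]
      exact hq
    exact ⟨_, h3, rfl⟩

theorem exists_sylIn [Finite Y] {A Q : Subgroup Y} (hQA : Q ≤ A) (hQ : IsPGroup 2 Q) :
    ∃ T, SylIn T A ∧ Q ≤ T := by
  obtain ⟨P, hP⟩ := (isPGroup_subgroupOf (A := A) hQ).exists_le_sylow
  exact ⟨_, sylIn_map P, fun q hq => ⟨⟨q, hQA hq⟩, hP hq, rfl⟩⟩

/-- every `SylIn` comes from a Sylow subgroup -/
theorem SylIn.exists_sylow {A T : Subgroup Y} (h : SylIn T A) :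
    ∃ P : Sylow 2 A, (P : Subgroup A).map A.subtype = T := by
  obtain ⟨P, hP⟩ := (isPGroup_subgroupOf (A := A) h.2.1).exists_le_sylow
  refine ⟨P, le_antisymm ?_ ?_⟩
  · exact h.2.2 _ (sylIn_map P).1 (sylIn_map P).2.1 (fun q hq => ⟨⟨q, h.1 hq⟩, hP hq, rfl⟩)
  · exact fun q hq => ⟨⟨q, h.1 hq⟩, hP hq, rfl⟩

theorem SylIn.conj_le [Finite Y] {A T Q : Subgroup Y} (h : SylIn T A) (hQA : Q ≤ A)
    (hQ : IsPGroup 2 Q) : ∃ a ∈ A, ∀ q ∈ Q, a * q * a⁻¹ ∈ T := by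
  obtain ⟨P, hP⟩ := h.exists_sylow
  obtain ⟨R, hR⟩ := (isPGroup_subgroupOf (A := A) hQ).exists_le_sylow
  obtain ⟨a, ha⟩ := MulAction.exists_smul_eq A R P
  refine ⟨a, a.2, fun q hq => ?_⟩
  have h1 : (⟨q, hQA hq⟩ : A) ∈ R := hR hq
  have h2 : a * (⟨q, hQA hq⟩ : A) * a⁻¹ ∈ (P : Subgroup A) := by
    rw [← ha, Sylow.coe_subgroup_smul]
    have := Subgroup.smul_mem_pointwise_smul (⟨q, hQA hq⟩ : A) (MulAut.conj a) (R : Subgroup A) h1
    simpa using this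
  rw [← hP]
  exact ⟨_, h2, rfl⟩

theorem SylIn.of_le {A C T : Subgroup Y} (h : SylIn T A) (hTC : T ≤ C) (hCA : C ≤ A) :
    SylIn T C :=
  ⟨hTC, h.2.1, fun Q hQ hQ2 hTQ => h.2.2 Q (hQ.trans hCA) hQ2 hTQ⟩

/-- the conjugate subgroup -/
def cj (g : Y) (Q : Subgroup Y) : Subgroup Y := Q.map (MulAut.conj g).toMonoidHom

theorem mem_cj {g y : Y} {Q : Subgroup Y} : y ∈ cj g Q ↔ g⁻¹ * y * g ∈ Q := by
  constructor
  · rintro ⟨q, hq, rfl⟩
    have : g⁻¹ * ((MulAut.conj g).toMonoidHom q) * g = q := by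
      simp [MulAut.conj_apply]; group
    rw [this]; exact hq
  · intro h
    exact ⟨_, h, by simp [MulAut.conj_apply]; group⟩

theorem conj_mem_cj {g q : Y} {Q : Subgroup Y} (h : q ∈ Q) : g * q * g⁻¹ ∈ cj g Q :=
  ⟨q, h, by simp⟩

theorem card_cj (g : Y) (Q : Subgroup Y) : Nat.card (cj g Q) = Nat.card Q :=
  (Nat.card_congr (Q.equivMapOfInjective (MulAut.conj g).toMonoidHom
    (MulAut.conj g).injective).toEquiv).symm

theorem isPGroup_cj {g : Y} {Q : Subgroup Y} (h : IsPGroup 2 Q) : IsPGroup 2 (cj g Q) :=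
  h.map _

/-- A Sylow 2-subgroup of `A` meets a normal subgroup of `A` in a Sylow 2-subgroup. -/
theorem SylIn.inf [Finite Y] {A N T : Subgroup Y} (h : SylIn T A) (hNA : N ≤ A)
    (hn : ∀ a ∈ A, ∀ n ∈ N, a * n * a⁻¹ ∈ N) : SylIn (T ⊓ N) N := by
  refine ⟨inf_le_right, h.2.1.to_le inf_le_left, ?_⟩
  intro Q hQN hQ hle
  obtain ⟨a, ha, haQ⟩ := h.conj_le (hQN.trans hNA) hQ
  have h1 : cj a Q ≤ T ⊓ N := by
    rintro _ ⟨q, hq, rfl⟩
    exact ⟨haQ q hq, hn a ha q (hQN hq)⟩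
  have h2 : Nat.card Q ≤ Nat.card (T ⊓ N : Subgroup Y) := by
    rw [← card_cj a Q]
    exact Subgroup.card_le_of_le h1
  exact (Subgroup.eq_of_le_of_card_ge hle h2).ge

theorem SylIn.conj {A T : Subgroup Y} (h : SylIn T A) {g : Y}
    (hg : ∀ a, a ∈ A ↔ g * a * g⁻¹ ∈ A) : SylIn (cj g T) A := by
  refine ⟨?_, isPGroup_cj h.2.1, ?_⟩
  · rintro _ ⟨q, hq, rfl⟩
    exact (hg q).1 (h.1 hq)
  · intro Q hQA hQ hle
    have h1 : T ≤ cj g⁻¹ Q := by
      intro x hx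
      rw [mem_cj]
      have := hle (conj_mem_cj (g := g) hx)
      simpa using this
    have h2 : cj g⁻¹ Q ≤ A := by
      intro x hx
      rw [mem_cj] at hx
      have := hQA hx
      rw [hg]
      simpa using this
    have h3 := h.2.2 _ h2 (isPGroup_cj hQ) h1
    intro q hq
    rw [mem_cj]
    apply h3
    rw [mem_cj]
    have : (g⁻¹)⁻¹ * (g⁻¹ * q * g) * g⁻¹ = q := by group
    rw [this]; exact hq

/-- two Sylow 2-subgroups of `A` are conjugate in `A` -/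
theorem SylIn.exists_cj_eq [Finite Y] {A T T' : Subgroup Y} (h : SylIn T A) (h' : SylIn T' A) :
    ∃ a ∈ A, cj a T' = T := by
  obtain ⟨a, ha, haT⟩ := h.conj_le h'.1 h'.2.1
  refine ⟨a, ha, ?_⟩
  have h1 : cj a T' ≤ T := by
    rintro _ ⟨q, hq, rfl⟩
    exact haT q hq
  have h2 : SylIn (cj a T') A := h'.conj (by
    intro x
    constructor
    · intro hx; exact A.mul_mem (A.mul_mem ha hx) (A.inv_mem ha)
    · intro hx
      have := A.mul_mem (A.mul_mem (A.inv_mem ha) hx) ha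
      have e : a⁻¹ * (a * x * a⁻¹) * a = x := by group
      rwa [e] at this)
  exact le_antisymm h1 (h2.2.2 T h.1 h.2.1 h1)

/-- normaliser growth: a proper 2-subgroup is properly contained in its normaliser -/
theorem exists_normalizer [Finite Y] {T S : Subgroup Y} (hS : IsPGroup 2 S) (hTS : T ≤ S)
    (hne : T ≠ S) : ∃ s ∈ S, s ∉ T ∧ ∀ x, x ∈ T ↔ s * x * s⁻¹ ∈ T := by
  have hlt : T.subgroupOf S < ⊤ := by
    rw [lt_top_iff_ne_top]
    intro h
    apply hne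
    rw [Subgroup.subgroupOf_eq_top] at h
    exact le_antisymm hTS h
  haveI : Group.IsNilpotent S := hS.isNilpotent
  have hnc := Group.normalizerCondition_of_isNilpotent (G := S) (T.subgroupOf S) hlt
  obtain ⟨s, hs, hs'⟩ := SetLike.exists_of_lt hnc
  refine ⟨s, s.2, fun h => hs' h, ?_⟩
  have key : ∀ s : S, s ∈ Subgroup.normalizer ((T.subgroupOf S : Subgroup S) : Set S) →
      ∀ x ∈ T, (s : Y) * x * (s : Y)⁻¹ ∈ T := by
    intro s hs x hx
    have h1 := (Subgroup.mem_normalizer_iff.1 hs (⟨x, hTS hx⟩ : S)).1 hx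
    exact h1
  intro x
  constructor
  · exact key s hs x
  · intro hx
    have h2 := key s⁻¹ (Subgroup.inv_mem _ hs) _ hx
    have e : ((s⁻¹ : S) : Y) * ((s : Y) * x * (s : Y)⁻¹) * ((s⁻¹ : S) : Y)⁻¹ = x := by
      simp; group
    rwa [e] at h2

end Cfsg.Agent.TwoGenNine.SylIn
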