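import Mathlib
import Cfsg.Agent.TwoGenNine.FiveLabel
import Cfsg.Agent.TwoGenNine.SylIn

/-!
# Elements permuting five labelled points
-/

set_option autoImplicit false

namespace Cfsg.Agent.TwoGenNine.FiveAct

open Subgroup Equiv FiveLabel SylIn QuatSub

variable {Y : Type*} [Group Y] {D : Type*} [MulAction Y D]

/-- `g` permutes the labelled points as `σ`. -/
def Acts (f : Fin 5 → D) (g : Y) (σ : P5) : Prop := ∀ i, g • f i = f (σ i)

theorem Acts.one (f : Fin 5 → D) : Acts f (1 : Y) 1 := fun i => by simp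

theorem Acts.mul {f : Fin 5 → D} {g h : Y} {σ τ : P5} (hg : Acts f g σ) (hh : Acts f h τ) :
    Acts f (g * h) (σ * τ) := fun i => by
  rw [mul_smul, hh i, hg (τ i), Perm.mul_apply]

theorem Acts.inv {f : Fin 5 → D} {g : Y} {σ : P5} (hg : Acts f g σ) : Acts f g⁻¹ σ⁻¹ := fun i => by
  rw [inv_smul_eq_iff, hg (σ⁻¹ i)]
  simp

theorem Acts.conj {f : Fin 5 → D} {g h : Y} {σ τ : P5} (hg : Acts f g σ) (hh : Acts f h τ) :
    Acts f (g * h * g⁻¹) (σ * τ * σ⁻¹) := (hg.mul hh).mul hg.inv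

theorem Acts.unique {f : Fin 5 → D} (hf : Function.Injective f) {g : Y} {σ τ : P5}
    (h : Acts f g σ) (h' : Acts f g τ) : σ = τ := by
  ext i
  have : f (σ i) = f (τ i) := by rw [← h i, ← h' i]
  rw [hf this]

theorem Acts.sq {f : Fin 5 → D} {g : Y} {σ : P5} (h : Acts f g σ) : Acts f (g * g) (σ * σ) :=
  h.mul h

/-- the elements inducing a permutation in `P` on the labelled points -/
def ActSub (f : Fin 5 → D) (P : Subgroup P5) : Subgroup Y where
  carrier := {g | ∃ σ ∈ P, Acts f g σ}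
  one_mem' := ⟨1, P.one_mem, Acts.one f⟩
  mul_mem' := by
    rintro a b ⟨σ, hσ, ha⟩ ⟨τ, hτ, hb⟩
    exact ⟨σ * τ, P.mul_mem hσ hτ, ha.mul hb⟩
  inv_mem' := by
    rintro a ⟨σ, hσ, ha⟩
    exact ⟨σ⁻¹, P.inv_mem hσ, ha.inv⟩

theorem mem_ActSub {f : Fin 5 → D} {P : Subgroup P5} {g : Y} :
    g ∈ (ActSub f P : Subgroup Y) ↔ ∃ σ ∈ P, Acts f g σ := Iff.rfl

/-- the setwise stabiliser of the labelled points -/
abbrev Mf (f : Fin 5 → D) : Subgroup Y := ActSub f ⊤

/-- the elements acting as a member of the four-group `V5` -/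
abbrev Bf (f : Fin 5 → D) : Subgroup Y := ActSub f V5

/-- the pointwise stabiliser of the labelled points -/
def Kf (f : Fin 5 → D) : Subgroup Y where
  carrier := {g | ∀ i, g • f i = f i}
  one_mem' := fun i => one_smul _ _
  mul_mem' := by
    intro a b ha hb i
    rw [mul_smul, hb i, ha i]
  inv_mem' := by
    intro a ha i
    rw [inv_smul_eq_iff, ha i]

theorem mem_Kf {f : Fin 5 → D} {g : Y} : g ∈ (Kf f : Subgroup Y) ↔ ∀ i, g • f i = f i := Iff.rfl

theorem acts_one_iff {f : Fin 5 → D} {g : Y} : Acts f g 1 ↔ g ∈ (Kf f : Subgroup Y) := Iff.rfl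

theorem Kf_le (f : Fin 5 → D) (P : Subgroup P5) : (Kf f : Subgroup Y) ≤ ActSub f P :=
  fun _ hg => ⟨1, P.one_mem, hg⟩

theorem ActSub_mono (f : Fin 5 → D) {P Q : Subgroup P5} (h : P ≤ Q) :
    (ActSub f P : Subgroup Y) ≤ ActSub f Q := fun _ ⟨σ, hσ, hg⟩ => ⟨σ, h hσ, hg⟩

theorem Kf_conj {f : Fin 5 → D} {a k : Y} (ha : a ∈ (Mf f : Subgroup Y))
    (hk : k ∈ (Kf f : Subgroup Y)) : a * k * a⁻¹ ∈ (Kf f : Subgroup Y) := by
  obtain ⟨σ, -, hσ⟩ := ha
  have := hσ.conj (acts_one_iff.2 hk)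
  rw [mul_one, mul_inv_cancel] at this
  exact this

theorem Bf_conj {f : Fin 5 → D} {a b : Y} {σ : P5} (ha : Acts f a σ) (h0 : σ 0 = 0)
    (hb : b ∈ (Bf f : Subgroup Y)) : a * b * a⁻¹ ∈ (Bf f : Subgroup Y) := by
  obtain ⟨τ, hτ, hb⟩ := hb
  exact ⟨_, conj_mem_V5 h0 hτ, ha.conj hb⟩

/-- two elements with the same action differ by an element of `Kf f` -/
theorem mul_inv_mem_Kf {f : Fin 5 → D} {g h : Y} {σ : P5} (hg : Acts f g σ) (hh : Acts f h σ) :
    g * h⁻¹ ∈ (Kf f : Subgroup Y) := by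
  have := hg.mul hh.inv
  rw [mul_inv_cancel] at this
  exact this

/-- the homomorphism to the permutations of the labels -/
noncomputable def permHom (f : Fin 5 → D) (hf : Function.Injective f) (P : Subgroup P5)
    (A : Subgroup Y) (hA : A ≤ ActSub f P) : A →* P where
  toFun a := ⟨(hA a.2).choose, (hA a.2).choose_spec.1⟩
  map_one' := by
    apply Subtype.ext
    exact (hA (1 : A).2).choose_spec.2.unique hf (Acts.one f)
  map_mul' := by
    intro a b
    apply Subtype.ext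
    exact (hA (a * b).2).choose_spec.2.unique hf
      ((hA a.2).choose_spec.2.mul (hA b.2).choose_spec.2)

theorem permHom_acts {f : Fin 5 → D} (hf : Function.Injective f) {P : Subgroup P5}
    {A : Subgroup Y} (hA : A ≤ ActSub f P) (a : A) :
    Acts f (a : Y) (permHom f hf P A hA a : P5) := (hA a.2).choose_spec.2

/-- A Sylow 2-subgroup of `A` induces on the labelled points everything that `A` induces, if this
is a 2-group. -/
theorem SylIn_surj [Finite Y] {f : Fin 5 → D} (hf : Function.Injective f) {P : Subgroup P5}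
    (hP : IsPGroup 2 P) {A T : Subgroup Y} (hA : A ≤ ActSub f P)
    (hs : ∀ σ ∈ P, ∃ a ∈ A, Acts f a σ) (hT : SylIn.SylIn T A) :
    ∀ σ ∈ P, ∃ q ∈ T, Acts f q σ := by
  obtain ⟨S, hS⟩ := hT.exists_sylow
  have hsurj : Function.Surjective (permHom f hf P A hA) := by
    rintro ⟨σ, hσ⟩
    obtain ⟨a, ha, haσ⟩ := hs σ hσ
    refine ⟨⟨a, ha⟩, Subtype.ext ?_⟩
    exact (permHom_acts hf hA ⟨a, ha⟩).unique hf haσ
  intro σ hσ
  have htop : (S.mapSurjective hsurj : Subgroup P) = ⊤ := by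
    have hP' : IsPGroup 2 (⊤ : Subgroup P) := hP.of_equiv Subgroup.topEquiv.symm
    exact ((S.mapSurjective hsurj).is_maximal' hP' le_top).symm
  have h1 : (⟨σ, hσ⟩ : P) ∈ (S.mapSurjective hsurj : Subgroup P) := by
    rw [htop]; exact Subgroup.mem_top _
  rw [Sylow.coe_mapSurjective] at h1
  obtain ⟨s, hs1, hs2⟩ := h1
  refine ⟨s, ?_, ?_⟩
  · rw [← hS]; exact ⟨s, hs1, rfl⟩
  · have := permHom_acts hf hA s
    rw [hs2] at this
    exact this

/-- a 2-group in `Mf f` fixes one of the labelled points -/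
theorem exists_fixed [Finite Y] {f : Fin 5 → D} (hf : Function.Injective f) {S : Subgroup Y}
    (hS : IsPGroup 2 S) (hSM : S ≤ Mf f) : ∃ i, ∀ s ∈ S, s • f i = f i := by
  classical
  let φ := permHom f hf ⊤ S hSM
  letI : MulAction S (Fin 5) := MulAction.compHom (Fin 5) (((⊤ : Subgroup P5).subtype).comp φ)
  have hdvd : ¬ 2 ∣ Nat.card (Fin 5) := by simp
  obtain ⟨i, hi⟩ := hS.nonempty_fixed_point_of_prime_not_dvd_card (Fin 5) hdvd
  refine ⟨i, fun s hs => ?_⟩
  have h1 := hi ⟨s, hs⟩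
  have h2 : ((φ ⟨s, hs⟩ : P5)) i = i := h1
  have h3 := permHom_acts hf hSM ⟨s, hs⟩ i
  rw [h3]
  exact congrArg f h2

/-- relabelling -/
theorem Acts.relabel {f : Fin 5 → D} {g : Y} {σ : P5} (h : Acts f g σ) (τ : P5) :
    Acts (f ∘ τ) g (τ⁻¹ * σ * τ) := fun i => by
  show g • f (τ i) = f (τ ((τ⁻¹ * σ * τ) i))
  rw [h (τ i)]
  simp [Perm.mul_apply]

theorem Kf_relabel (f : Fin 5 → D) (τ : P5) : (Kf (f ∘ τ) : Subgroup Y) = Kf f := by
  ext g
  rw [mem_Kf, mem_Kf]
  constructor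
  · intro h i
    have := h (τ⁻¹ i)
    simpa using this
  · intro h i
    exact h (τ i)

theorem Mf_relabel_le (f : Fin 5 → D) (τ : P5) : (Mf f : Subgroup Y) ≤ Mf (f ∘ τ) :=
  fun _ ⟨_, _, hg⟩ => ⟨_, Subgroup.mem_top _, hg.relabel τ⟩

theorem Mf_relabel (f : Fin 5 → D) (τ : P5) : (Mf (f ∘ τ) : Subgroup Y) = Mf f := by
  apply le_antisymm
  · have := Mf_relabel_le (Y := Y) (f ∘ τ) τ⁻¹
    have e : (f ∘ τ) ∘ (τ⁻¹ : P5) = f := by
      ext i; simp
    rw [e] at this
    exact this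
  · exact Mf_relabel_le f τ

/-- an element stabilising the set of labelled points permutes them -/
theorem mem_Mf_of [Finite Y] {f : Fin 5 → D} (hf : Function.Injective f) {g : Y}
    (h : ∀ i, ∃ j, g • f i = f j) : g ∈ (Mf f : Subgroup Y) := by
  choose s hs using h
  have hinj : Function.Injective s := by
    intro i j hij
    apply hf
    have : g • f i = g • f j := by rw [hs i, hs j, hij]
    exact smul_left_cancel g this
  have hbij : Function.Bijective s := Finite.injective_iff_bijective.1 hinj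
  exact ⟨Equiv.ofBijective s hbij, Subgroup.mem_top _, fun i => by
    rw [Equiv.ofBijective_apply]; exact hs i⟩

end Cfsg.Agent.TwoGenNine.FiveAct
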