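import Mathlib
import Cfsg.Agent.TwoGenNine.FiveAct

/-!
# Elements with five fixed points (S1728, (5.4), (5.5))

`Five t f w` : `w * w = t`, the fixed points of `w` are the five labelled points `f i`, some `x` of
square `t` inverts `w` and fixes all these points, and for every such `x` the group
`C(w) ∩ C(x)` induces at least the alternating group on the five points and contains no involution
other than `t`.
-/

set_option autoImplicit false

namespace Cfsg.Agent.TwoGenNine.FiveBasic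

open Subgroup Equiv FiveLabel SylIn QuatSub FiveAct
open Cfsg.Agent.TwoGenCore.W2Base (Inv Base Bad BadInv NonIso)

variable {Y : Type*} [Group Y] {D : Type*} [MulAction Y D]

/-- the part of `Base D t` used here -/
structure Cen (D : Type*) [MulAction Y D] (t : Y) : Prop where
  central : ∀ g : Y, g * t = t * g
  ne : t ≠ 1
  sq : t * t = 1
  triv : ∀ a : D, t • a = a
  one : ∀ i : Y, i * i = 1 → i ≠ 1 → i ≠ t → ∃! a : D, i • a = a

theorem Cen.of_base {t : Y} (h : Base D t) : Cen D t :=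
  ⟨h.central, h.ne, h.sq, h.triv, h.one⟩

/-- the five type -/
structure Five (t : Y) (f : Fin 5 → D) (w : Y) : Prop where
  inj : Function.Injective f
  fix : ∀ a, w • a = a ↔ ∃ i, f i = a
  sq : w * w = t
  inv : ∃ x, x * x = t ∧ x * w * x⁻¹ = w⁻¹ ∧ x ∈ (Kf f : Subgroup Y)
  alt : ∀ v, v * v = t → v * w * v⁻¹ = w⁻¹ → v ∈ (Kf f : Subgroup Y) →
    ∀ σ ∈ alternatingGroup (Fin 5), ∃ c, c * w = w * c ∧ c * v = v * c ∧ Acts f c σ
  uniq : ∀ v, v * v = t → v * w * v⁻¹ = w⁻¹ → v ∈ (Kf f : Subgroup Y) →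
    ∀ i, i * i = 1 → i * w = w * i → i * v = v * i → i = 1 ∨ i = t

/-- the elements commuting with `w` and `v` -/
def cen (w v : Y) : Subgroup Y where
  carrier := {c | c * w = w * c ∧ c * v = v * c}
  one_mem' := by simp
  mul_mem' := by
    rintro a b ⟨ha, ha'⟩ ⟨hb, hb'⟩
    constructor
    · rw [mul_assoc, hb, ← mul_assoc, ha, mul_assoc]
    · rw [mul_assoc, hb', ← mul_assoc, ha', mul_assoc]
  inv_mem' := by
    rintro a ⟨ha, ha'⟩
    constructor
    · rw [inv_mul_eq_iff_eq_mul, ← mul_assoc, ha, mul_assoc, mul_inv_cancel, mul_one]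
    · rw [inv_mul_eq_iff_eq_mul, ← mul_assoc, ha', mul_assoc, mul_inv_cancel, mul_one]

theorem mem_cen {w v c : Y} : c ∈ cen w v ↔ c * w = w * c ∧ c * v = v * c := Iff.rfl

section

variable {t : Y} (hC : Cen D t)
include hC

theorem Cen.t_mem_Kf (f : Fin 5 → D) : t ∈ (Kf f : Subgroup Y) := fun _ => hC.triv _

theorem Cen.uniq_Kf {f : Fin 5 → D} (hf : Function.Injective f) : Uniq t (Kf f : Subgroup Y) := by
  intro i hi hi2
  by_contra hcon
  push Not at hcon
  obtain ⟨a, -, ha⟩ := hC.one i hi2 hcon.1 hcon.2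
  have h0 := ha _ (hi 0)
  have h1 := ha _ (hi 1)
  have : (0 : Fin 5) = 1 := hf (h0.trans h1.symm)
  exact absurd this (by decide)

/-- involutions other than `t` fixing `f 0` act as elements of `V5` -/
theorem Cen.invol_acts {f : Fin 5 → D} (hf : Function.Injective f) {i : Y} {σ : P5}
    (hi2 : i * i = 1) (hi1 : i ≠ 1) (hit : i ≠ t) (h : Acts f i σ) (h0 : σ 0 = 0) :
    σ ∈ V5 ∧ σ ≠ 1 := by
  obtain ⟨a, -, ha⟩ := hC.one i hi2 hi1 hit
  have hfix : ∀ j, σ j = j → j = 0 := by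
    intro j hj
    have h1 := ha (f j) (by show i • f j = f j; rw [h j, hj])
    have h2 := ha (f 0) (by show i • f 0 = f 0; rw [h 0, h0])
    exact hf (h1.trans h2.symm)
  refine ⟨mem_V5_of ?_ h0 hfix, ?_⟩
  · have h2 := h.sq
    rw [hi2] at h2
    exact h2.unique hf (Acts.one f)
  · rintro rfl
    exact absurd (hfix 1 rfl) (by decide)

/-- every involution of `Mf f` fixes a labelled point; if it is `f 0` it acts in `V5` -/
theorem Cen.invol_mem_Bf {f : Fin 5 → D} (hf : Function.Injective f) {i : Y}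
    (hi2 : i * i = 1) (hi : i ∈ (Mf f : Subgroup Y)) (h0 : i • f 0 = f 0) :
    i ∈ (Bf f : Subgroup Y) := by
  by_cases h1 : i = 1
  · rw [h1]; exact Subgroup.one_mem _
  by_cases ht : i = t
  · rw [ht]; exact Kf_le f _ (hC.t_mem_Kf f)
  obtain ⟨σ, -, hσ⟩ := hi
  refine ⟨σ, (hC.invol_acts hf hi2 h1 ht hσ ?_).1, hσ⟩
  exact hf (by rw [← hσ 0, h0])

/-- (L2) the quaternion groups in `C(w) ∩ C(v)` -/
theorem Five.two_group {f : Fin 5 → D} {w v : Y} (h : Five t f w) (hv : v * v = t)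
    (hvw : v * w * v⁻¹ = w⁻¹) (hvK : v ∈ (Kf f : Subgroup Y)) {Q : Subgroup Y}
    (hQ : IsPGroup 2 Q) (hQc : Q ≤ cen w v) : ∀ q ∈ Q, q ∈ (Kf f : Subgroup Y) → q = 1 ∨ q = t := by
  intro q hq hqK
  by_contra hcon
  push Not at hcon
  have hu : Uniq t (Kf f : Subgroup Y) := hC.uniq_Kf h.inj
  have hwK : w ∈ (Kf f : Subgroup Y) := fun i => (h.fix _).2 ⟨i, rfl⟩
  have hQ' : IsPGroup 2 (Q ⊓ Kf f : Subgroup Y) := hQ.to_le inf_le_left
  obtain ⟨n, hn⟩ := exists_pow hQ' (hu.mono inf_le_right) ⟨hq, hqK⟩ hcon.1 hcon.2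
  have hz : q ^ (2 ^ n) ∈ cen w v := Subgroup.pow_mem _ (hQc hq) _
  have hzK : q ^ (2 ^ n) ∈ (Kf f : Subgroup Y) := Subgroup.pow_mem _ hqK _
  have hnc := not_comm_of_inverts hC.ne h.sq hvw
  rcases eq_or_eq_inv hu hC.sq h.sq hn hz.1 (Subgroup.mul_mem _ hzK hwK) with h3 | h3
  · rw [h3] at hz
    exact hnc hz.2.symm
  · rw [h3] at hz
    apply hnc
    have h4 := hz.2
    calc v * w = w * (w⁻¹ * v) * w := by group
      _ = w * (v * w⁻¹) * w := by rw [h4]
      _ = w * v := by group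

/-- in a 2-subgroup of `C(w) ∩ C(v)` the elements outside `⟨t⟩` acting as involutions have
square `t`, and two of them with different actions in `V5` anticommute -/
theorem Five.sq_of_acts {f : Fin 5 → D} {w v : Y} (h : Five t f w) (hv : v * v = t)
    (hvw : v * w * v⁻¹ = w⁻¹) (hvK : v ∈ (Kf f : Subgroup Y)) {Q : Subgroup Y}
    (hQ : IsPGroup 2 Q) (hQc : Q ≤ cen w v) {q : Y} (hq : q ∈ Q) {σ : P5} (hσ : Acts f q σ)
    (h1 : σ ≠ 1) (h2 : σ * σ = 1) : q * q = t := by
  have hqq : q * q ∈ (Kf f : Subgroup Y) := by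
    have := hσ.sq
    rw [h2] at this
    exact this
  rcases h.two_group hC hv hvw hvK hQ hQc _ (Q.mul_mem hq hq) hqq with h3 | h3
  · exfalso
    rcases h.uniq v hv hvw hvK q h3 (hQc hq).1 (hQc hq).2 with h4 | h4
    · rw [h4] at hσ
      exact h1 (hσ.unique h.inj (Acts.one f))
    · have h5 : q ∈ (Kf f : Subgroup Y) := by rw [h4]; exact hC.t_mem_Kf f
      exact h1 (hσ.unique h.inj (acts_one_iff.2 h5))
  · exact h3

theorem Five.anticomm {f : Fin 5 → D} {w v : Y} (h : Five t f w) (hv : v * v = t)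
    (hvw : v * w * v⁻¹ = w⁻¹) (hvK : v ∈ (Kf f : Subgroup Y)) {Q : Subgroup Y}
    (hQ : IsPGroup 2 Q) (hQc : Q ≤ cen w v) {q r : Y} (hq : q ∈ Q) (hr : r ∈ Q) {σ τ : P5}
    (hσ : Acts f q σ) (hτ : Acts f r τ) (hσV : σ ∈ V5) (hτV : τ ∈ V5)
    (h1 : σ ≠ 1) (h2 : τ ≠ 1) (h3 : σ ≠ τ) : q * r = r * q * t := by
  have e1 := h.sq_of_acts hC hv hvw hvK hQ hQc hq hσ h1 (V5_sq hσV)
  have e2 := h.sq_of_acts hC hv hvw hvK hQ hQc hr hτ h2 (V5_sq hτV)
  have hστ : σ * τ ≠ 1 := by
    intro h4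
    apply h3
    rw [mul_eq_one_iff_eq_inv] at h4
    rw [h4, inv_eq_iff_mul_eq_one]
    exact V5_sq hτV
  have e3 := h.sq_of_acts hC hv hvw hvK hQ hQc (Q.mul_mem hq hr) (hσ.mul hτ) hστ
    (V5_sq (V5.mul_mem hσV hτV))
  have e4 : q⁻¹ = q * t := inv_eq_mul hC.sq e1
  have e5 : r⁻¹ = r * t := inv_eq_mul hC.sq e2
  have e6 : (q * r) * (q * r) * r⁻¹ * q⁻¹ = q * r := by group
  calc q * r = (q * r) * (q * r) * r⁻¹ * q⁻¹ := by group
    _ = t * (r * t) * (q * t) := by rw [e3, e4, e5]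
    _ = (t * r) * (t * q) * t := by group
    _ = (r * t) * (t * q) * t := by rw [hC.central r]
    _ = r * (t * t) * q * t := by group
    _ = r * q * t := by rw [hC.sq, mul_one]

/-- (L2) a quaternion group in `C(w) ∩ C(v)` containing a given 2-group -/
theorem Five.exists_quat [Finite Y] {f : Fin 5 → D} {w v : Y} (h : Five t f w) (hv : v * v = t)
    (hvw : v * w * v⁻¹ = w⁻¹) (hvK : v ∈ (Kf f : Subgroup Y)) {Q₀ : Subgroup Y}
    (hQ₀ : IsPGroup 2 Q₀) (hQ₀c : Q₀ ≤ cen w v ⊓ Bf f) :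
    ∃ Q, Q₀ ≤ Q ∧ Q ≤ cen w v ⊓ Bf f ∧ IsPGroup 2 Q ∧ ∀ σ ∈ V5, ∃ q ∈ Q, Acts f q σ := by
  obtain ⟨Q, hQ, hQQ⟩ := exists_sylIn hQ₀c hQ₀
  refine ⟨Q, hQQ, hQ.1, hQ.2.1, ?_⟩
  refine SylIn_surj h.inj isPGroup_V5 (A := cen w v ⊓ Bf f) inf_le_right ?_ hQ
  intro σ hσ
  obtain ⟨c, hc1, hc2, hc3⟩ := h.alt v hv hvw hvK σ (V5_even hσ)
  exact ⟨c, ⟨⟨hc1, hc2⟩, ⟨σ, hσ, hc3⟩⟩, hc3⟩

/-- such a group is a Sylow subgroup of `C(w) ∩ C(v) ∩ Bf f` -/
theorem Five.sylIn_of_surj {f : Fin 5 → D} {w v : Y} (h : Five t f w) (hv : v * v = t)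
    (hvw : v * w * v⁻¹ = w⁻¹) (hvK : v ∈ (Kf f : Subgroup Y)) {Q : Subgroup Y}
    (hQ : IsPGroup 2 Q) (hQc : Q ≤ cen w v ⊓ Bf f) (hs : ∀ σ ∈ V5, ∃ q ∈ Q, Acts f q σ) :
    t ∈ Q ∧ SylIn Q (cen w v ⊓ Bf f) := by
  have htQ : t ∈ Q := by
    obtain ⟨q, hq, hqa⟩ := hs a5 a5_mem
    rw [← h.sq_of_acts hC hv hvw hvK hQ (hQc.trans inf_le_left) hq hqa (by decide) (by decide)]
    exact Q.mul_mem hq hq
  refine ⟨htQ, hQc, hQ, ?_⟩
  intro R hR hR2 hle r hr
  obtain ⟨σ, hσ, hrσ⟩ := (hR hr).2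
  obtain ⟨q, hq, hqσ⟩ := hs σ hσ
  have h1 : r * q⁻¹ ∈ (Kf f : Subgroup Y) := mul_inv_mem_Kf hrσ hqσ
  have h2 : r * q⁻¹ ∈ R := R.mul_mem hr (R.inv_mem (hle hq))
  rcases h.two_group hC hv hvw hvK hR2 (hR.trans inf_le_left) _ h2 h1 with h3 | h3
  · rw [mul_inv_eq_one] at h3
    rw [h3]; exact hq
  · have : r = t * q := by rw [← h3]; group
    rw [this]; exact Q.mul_mem htQ hq

/-- (5.4) an element of square `t` inverting `w` and fixing the five points of `w` is again of the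
five type, with the same points -/
theorem Five.of_inverts [Finite Y] {f : Fin 5 → D}
    (h5 : ∀ v : Y, BadInv D t v → NonIso t v → ∃ f' : Fin 5 → D, Five t f' v)
    {w v : Y} (h : Five t f w) (hv : v * v = t)
    (hvw : v * w * v⁻¹ = w⁻¹) (hvK : v ∈ (Kf f : Subgroup Y)) : Five t f v := by
  classical
  obtain ⟨Q, -, hQc, hQ, hs⟩ := h.exists_quat hC hv hvw hvK (Q₀ := ⊥) IsPGroup.of_bot bot_le
  obtain ⟨k, hk, hka⟩ := hs a5 a5_mem
  obtain ⟨l, hl, hlb⟩ := hs b5 b5_mem
  have hQc' := hQc.trans inf_le_left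
  have hk2 := h.sq_of_acts hC hv hvw hvK hQ hQc' hk hka (by decide) (by decide)
  have hl2 := h.sq_of_acts hC hv hvw hvK hQ hQc' hl hlb (by decide) (by decide)
  have hkl := h.anticomm hC hv hvw hvK hQ hQc' hk hl hka hlb a5_mem b5_mem (by decide) (by decide)
    (by decide)
  have hkw := (hQc' hk).1
  have hkv := (hQc' hk).2
  have hlv := (hQc' hl).2
  have hwv : w * v * w⁻¹ = v⁻¹ := inverts_symm hC.sq h.sq hv hvw
  -- `w * k` is an involution inverting `v`
  have hwK : w ∈ (Kf f : Subgroup Y) := fun i => (h.fix _).2 ⟨i, rfl⟩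
  have prod_inv : ∀ {g u : Y} {τ : P5}, g ∈ (Kf f : Subgroup Y) → g * g = t → u * u = t →
      u * g = g * u → Acts f u τ → τ ≠ 1 → Inv t (g * u) := by
    intro g u τ hg hg2 hu2 hgu hu hτ
    have hacts : Acts f (g * u) τ := by
      have := (acts_one_iff.2 hg).mul hu
      rwa [one_mul] at this
    refine ⟨?_, ?_, ?_⟩
    · calc g * u * (g * u) = g * (u * g) * u := by group
        _ = (g * g) * (u * u) := by rw [hgu]; group
        _ = 1 := by rw [hg2, hu2, hC.sq]
    · intro h1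
      rw [h1] at hacts
      exact hτ (hacts.unique h.inj (Acts.one f))
    · intro h1
      rw [h1] at hacts
      exact hτ (hacts.unique h.inj (acts_one_iff.2 (hC.t_mem_Kf f)))
  have hwk : Inv t (w * k) := prod_inv hwK h.sq hk2 hkw hka (by decide)
  have hvk : Inv t (v * k) := prod_inv hvK hv hk2 hkv hka (by decide)
  have hvl : Inv t (v * l) := prod_inv hvK hv hl2 hlv hlb (by decide)
  have hbad : BadInv D t v := by
    refine ⟨⟨hv, f 0, f 1, ?_, hvK 0, hvK 1⟩, w * k, hwk, ?_⟩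
    · intro h01
      exact absurd (h.inj h01) (by decide)
    · calc w * k * v * (w * k)⁻¹ = w * (k * v * k⁻¹) * w⁻¹ := by group
        _ = w * v * w⁻¹ := by rw [hkv]; group
        _ = v⁻¹ := hwv
  have hkinv := inv_eq_mul hC.sq hk2
  have hni : NonIso t v := by
    refine ⟨v * k, v * l, hvk, hvl, ?_, ?_, ?_, ?_, ?_⟩
    · rw [mul_assoc, hkv]
    · rw [mul_assoc, hlv]
    · -- the commutator of `v k` and `v l` is `t`
      have e1 : v * k * (v * l) * (v * k)⁻¹ * (v * l)⁻¹ = t := by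
        rw [inv_eq_of_mul_eq_one_right hvk.1, inv_eq_of_mul_eq_one_right hvl.1]
        have e2 : v * k * (v * l) = v * l * (v * k) * t := by
          calc v * k * (v * l) = v * (k * v) * l := by group
            _ = v * v * (k * l) := by rw [hkv]; group
            _ = v * v * (l * k * t) := by rw [hkl]
            _ = v * (v * l) * k * t := by group
            _ = v * (l * v) * k * t := by rw [hlv]
            _ = v * l * (v * k) * t := by group
        calc v * k * (v * l) * (v * k) * (v * l)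
            = v * l * (v * k) * t * (v * k) * (v * l) := by rw [e2]
          _ = v * l * (v * k) * (t * (v * k)) * (v * l) := by group
          _ = v * l * (v * k) * ((v * k) * t) * (v * l) := by rw [hC.central]
          _ = v * l * ((v * k) * (v * k)) * (t * (v * l)) := by group
          _ = v * l * (t * (v * l)) := by rw [hvk.1, mul_one]
          _ = v * l * ((v * l) * t) := by rw [hC.central (v * l)]
          _ = (v * l) * (v * l) * t := by group
          _ = t := by rw [hvl.1, one_mul]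
      rw [e1, ← hv]
      exact Subgroup.mul_mem _ (Subgroup.mem_zpowers v) (Subgroup.mem_zpowers v)
    · intro h1
      have h2 : l = k := mul_left_cancel h1
      rw [h2] at hlb
      exact absurd (hka.unique h.inj hlb) (by decide)
    · intro h1
      have h2 : l = k * t := by
        rw [mul_assoc] at h1
        exact mul_left_cancel h1
      have h3 : Acts f l a5 := by
        rw [h2]
        have := hka.mul (acts_one_iff.2 (hC.t_mem_Kf f))
        rwa [mul_one] at this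
      exact absurd (h3.unique h.inj hlb) (by decide)
  obtain ⟨f', h'⟩ := h5 v hbad hni
  -- the labels of `f'` are those of `f`
  have hex : ∀ i, ∃ j, f' j = f i := fun i => (h'.fix _).1 (hvK i)
  choose τ hτ using hex
  have hτinj : Function.Injective τ := by
    intro i j hij
    apply h.inj
    rw [← hτ i, ← hτ j, hij]
  let T : P5 := Equiv.ofBijective τ (Finite.injective_iff_bijective.1 hτinj)
  have hT : ∀ i, f' (T i) = f i := fun i => by
    show f' (τ i) = f i
    exact hτ i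
  have hTf : f = f' ∘ T := by
    ext i; exact (hT i).symm
  have hK : (Kf f : Subgroup Y) = Kf f' := by rw [hTf]; exact Kf_relabel f' T
  refine ⟨h.inj, ?_, hv, ?_, ?_, ?_⟩
  · intro a
    rw [h'.fix a]
    constructor
    · rintro ⟨i, rfl⟩
      exact ⟨T⁻¹ i, by rw [← hT]; simp⟩
    · rintro ⟨i, rfl⟩
      exact ⟨T i, hT i⟩
  · obtain ⟨x, h1, h2, h3⟩ := h'.inv
    exact ⟨x, h1, h2, by rw [hK]; exact h3⟩
  · intro u hu huv huK σ hσ
    rw [hK] at huK
    obtain ⟨c, h1, h2, h3⟩ := h'.alt u hu huv huK (T * σ * T⁻¹) (by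
      have : (alternatingGroup (Fin 5)).Normal := inferInstance
      exact this.conj_mem σ hσ T)
    refine ⟨c, h1, h2, ?_⟩
    intro i
    rw [← hT i, h3 (T i), ← hT (σ i)]
    simp [Perm.mul_apply]
  · intro u hu huv huK
    rw [hK] at huK
    exact h'.uniq u hu huv huK

theorem Five.inv_five [Finite Y] {f : Fin 5 → D}
    (h5 : ∀ v : Y, BadInv D t v → NonIso t v → ∃ f' : Fin 5 → D, Five t f' v)
    {w : Y} (h : Five t f w) : Five t f w⁻¹ := by
  obtain ⟨x, hx, hxw, hxK⟩ := h.inv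
  have hx5 := h.of_inverts hC h5 hx hxw hxK
  have hwK : w ∈ (Kf f : Subgroup Y) := fun i => (h.fix _).2 ⟨i, rfl⟩
  refine hx5.of_inverts hC h5 (inv_sq hC.sq h.sq) ?_ (Subgroup.inv_mem _ hwK)
  have h1 := inverts_symm hC.sq h.sq hx hxw
  rw [inv_inv]
  calc w⁻¹ * x * w = w⁻¹ * (w * x⁻¹ * w⁻¹) * w := by
        have : w * x⁻¹ * w⁻¹ = x := by
          calc w * x⁻¹ * w⁻¹ = (w * x * w⁻¹)⁻¹ := by group
            _ = x := by rw [h1, inv_inv]
        rw [this]
    _ = x⁻¹ := by group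

/-- (5.5) in a 2-group fixing the five points of `w ∈ U` all elements of square `t` are of the
five type -/
theorem Five.all [Finite Y] {f : Fin 5 → D}
    (h5 : ∀ v : Y, BadInv D t v → NonIso t v → ∃ f' : Fin 5 → D, Five t f' v)
    {w : Y} (h : Five t f w) {U : Subgroup Y} (hU : IsPGroup 2 U) (hUK : U ≤ Kf f) (hw : w ∈ U) :
    ∀ u ∈ U, u * u = t → Five t f u := by
  have hu : Uniq t U := (hC.uniq_Kf h.inj).mono hUK
  have htU : t ∈ U := by rw [← h.sq]; exact U.mul_mem hw hw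
  obtain ⟨z, hz, hz2, hzn⟩ := exists_normal hC.ne hC.sq hC.central hU le_rfl hu htU
    (fun r hr u hu => U.mul_mem (U.mul_mem hr hu) (U.inv_mem hr)) hw h.sq
  have key : ∀ {a b : Y}, Five t f a → a ∈ U → b ∈ U → b * b = t →
      (b * a * b⁻¹ = a ∨ b * a * b⁻¹ = a⁻¹) → Five t f b := by
    intro a b ha haU hbU hb2 hba
    rcases hba with hba | hba
    · have hc : b * a = a * b := by
        calc b * a = (b * a * b⁻¹) * b := by group
          _ = a * b := by rw [hba]
      rcases eq_or_eq_inv hu hC.sq ha.sq hb2 hc (U.mul_mem hbU haU) with rfl | rfl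
      · exact ha
      · exact ha.inv_five hC h5
    · exact ha.of_inverts hC h5 hb2 hba (hUK hbU)
  have hz5 : Five t f z := by
    apply key h hw hz hz2
    rcases hzn w hw with h1 | h1
    · left
      have : w * z = z * w := by
        calc w * z = (w * z * w⁻¹) * w := by group
          _ = z * w := by rw [h1]
      rw [← this]; group
    · right
      exact inverts_symm hC.sq hz2 h.sq h1
  intro u huU hu2
  exact key hz5 hz huU hu2 (hzn u huU)

end

end Cfsg.Agent.TwoGenNine.FiveBasic
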