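import Mathlib
import Cfsg.Agent.TwoGenNine.FiveBasic

/-!
# The output of section 5A of S1728

`RawFive D t w` is what the Aschbacher criterion and Bender's theorem give for an element `w` of
`𝒲₋` such that `C(w) / ⟨w⟩` has non-isolated involutions.  `RawFive → Five` is proved in
`TwoGenNine/RawToFive.lean`.
-/

set_option autoImplicit false

namespace Cfsg.Agent.TwoGenNine.RawFive

open Subgroup
open Cfsg.Agent.TwoGenCore.W2Base (Inv Base Bad BadInv NonIso)

/-- The subgroup generated by the involutions other than `t` which commute with `w`. -/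
def invGen {Y : Type*} [Group Y] (t w : Y) : Subgroup Y :=
  closure {i : Y | Inv t i ∧ i * w = w * i}

structure RawFive {Y : Type*} [Group Y] (D : Type*) [MulAction Y D] (t w : Y) : Prop where
  bad : BadInv D t w
  ni : NonIso t w
  /-- `w` has exactly five fixed points -/
  card : Nat.card {a : D // w • a = a} = 5
  /-- `C(w)` is transitive on the fixed points of `w` -/
  trans : ∀ a b : D, w • a = a → w • b = b → ∃ c : Y, c * w = w * c ∧ c • a = b
  /-- `O` is the core of `C(w)`; the group generated by the involutions of `C(w)` acts on the fixed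
  points of `w` with kernel contained in `O ⟨w⟩` -/
  core : ∃ O : Subgroup Y, Odd (Nat.card O) ∧
    (∀ g : Y, (g * w * g⁻¹ = w ∨ g * w * g⁻¹ = w⁻¹) → ∀ o ∈ O, g * o * g⁻¹ ∈ O) ∧
    (∀ o ∈ O, o * w = w * o) ∧
    (∀ o ∈ O, ∀ a : D, w • a = a → o • a = a) ∧
    ∀ m ∈ invGen t w, (∀ a : D, w • a = a → m • a = a) → ∃ o ∈ O, ∃ k : ℤ, m = o * w ^ k

end Cfsg.Agent.TwoGenNine.RawFive
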