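import Cfsg.Agent.TwoGenNine.Quot

/-!
# The last configuration of S1728: the hypotheses pass to the core-free quotient
-/

set_option autoImplicit false

open scoped Pointwise

namespace Cfsg.Agent.TwoGenNine.QuotHyp

open Subgroup
open Cfsg.Agent.TwoGenNine.Setup
open Cfsg.Agent.TwoGenNine.Basic
open Cfsg.Agent.TwoGenNine.Core
open Cfsg.Agent.TwoGenNine.Quot

variable {Y : Type*} [Group Y] {D : Type*} [MulAction Y D]

/-- Core-freeness: an element of `K_Φ` commuting with an element of order 4 of `X` is in `X`. -/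
def CF (D : Type*) [MulAction Y D] (t : Y) (X : Subgroup Y) : Prop :=
  ∀ x ∈ X, x ≠ 1 → x ≠ t → ∀ g ∈ KX D X, g * x = x * g → g ∈ X

/-- Decomposition into the 2-part and the odd part. -/
theorem exists_two_odd {G : Type*} [Group G] [Finite G] (g : G) : ∃ a b : G, a ∈ zpowers g ∧
    b ∈ zpowers g ∧ g = a * b ∧ (∃ k, a ^ (2 ^ k) = 1) ∧ Odd (orderOf b) := by
  obtain ⟨k, m, hm, hkm⟩ := Nat.exists_eq_two_pow_mul_odd (orderOf_pos g).ne'
  have hcop : IsCoprime ((2 : ℤ) ^ k) (m : ℤ) := by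
    have : Nat.Coprime (2 ^ k) m := Nat.Coprime.pow_left _ (Nat.coprime_two_left.mpr hm)
    have := Nat.isCoprime_iff_coprime.mpr this
    simpa using this
  obtain ⟨u, v, huv⟩ := hcop
  have hg : g ^ ((2 : ℤ) ^ k * m) = 1 := by
    have : ((2 : ℤ) ^ k * m) = ((orderOf g : ℕ) : ℤ) := by rw [hkm]; push_cast; ring
    rw [this, zpow_natCast, pow_orderOf_eq_one]
  refine ⟨g ^ (v * m), g ^ (u * 2 ^ k), zpow_mem (mem_zpowers g) _, zpow_mem (mem_zpowers g) _,
    ?_, ⟨k, ?_⟩, ?_⟩
  · rw [← zpow_add, add_comm, huv, zpow_one]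
  · rw [← zpow_natCast, ← zpow_mul]
    have : v * m * ((2 ^ k : ℕ) : ℤ) = (2 ^ k * m) * v := by push_cast; ring
    rw [this, zpow_mul, hg, one_zpow]
  · have h1 : (g ^ (u * 2 ^ k)) ^ m = 1 := by
      rw [← zpow_natCast, ← zpow_mul]
      have : u * 2 ^ k * (m : ℤ) = (2 ^ k * m) * u := by ring
      rw [this, zpow_mul, hg, one_zpow]
    exact hm.of_dvd_nat (orderOf_dvd_of_pow_eq_one h1)

variable {t : Y} {X P : Subgroup Y} {j : Y} (h : Hyp D t X P j)
include h

theorem pow_four {x : Y} (hx : x ∈ X) : x ^ (2 ^ 2) = 1 := by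
  obtain ⟨⟩ : True := trivial
  by_cases h1 : x = 1
  · rw [h1, one_pow]
  by_cases h2 : x = t
  · rw [h2, show (2 : ℕ) ^ 2 = 2 * 2 by norm_num, pow_mul, pow_two t, h.t2, one_pow]
  · rw [show (2 : ℕ) ^ 2 = 2 * 2 by norm_num, pow_mul, pow_two x, h.sq x hx h1 h2, pow_two,
      h.t2]

variable [Finite Y] {α : D} (hα : ∀ d, (d ∈ FX D X ∧ d ∈ FX D P) ↔ d = α)

omit h [Finite Y] in
theorem two_of_mem_Om (hodd : Odd (Nat.card (Om D t X))) {g : Y} (hg : g ∈ Om D t X)
    (h2 : ∃ n, g ^ (2 ^ n) = 1) : g = 1 :=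
  eq_one_of_odd_of_two (odd_of_mem hodd hg) h2

omit [Finite Y] in
theorem X_inf_Om (hodd : Odd (Nat.card (Om D t X))) {x : Y} (hx : x ∈ X) (hxO : x ∈ Om D t X) :
    x = 1 := two_of_mem_Om hodd hxO ⟨2, pow_four h hx⟩

omit [Finite Y] in
theorem P_inf_Om (hodd : Odd (Nat.card (Om D t X))) {x : Y} (hx : x ∈ P) (hxO : x ∈ Om D t X) :
    x = 1 := two_of_mem_Om hodd hxO ⟨2, pow_four h.symm hx⟩

omit [Finite Y] in
/-- The number of fixed points of `O` is odd. -/
theorem odd_card_FX_Om [Finite D] : Odd (Nat.card (FX D (Om D t X))) := by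
  have hO := X_le_NO h
  let act : MulAction X (FX D (Om D t X)) :=
    MulAction.compHom _ (Subgroup.inclusion hO)
  have hX := isPGroup_X h
  have hmod := hX.card_modEq_card_fixedPoints (FX D (Om D t X))
  have hfix : Nat.card (MulAction.fixedPoints X (FX D (Om D t X))) = 5 := by
    rw [← h.five, ← Nat.card_coe_set_eq]
    refine Nat.card_congr ⟨fun d => ⟨(d : FX D (Om D t X)), ?_⟩,
      fun d => ⟨⟨d, FX_le d.2⟩, ?_⟩, ?_, ?_⟩
    · intro x hx
      have := d.2 ⟨x, hx⟩
      exact congrArg Subtype.val this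
    · intro x
      exact Subtype.ext (d.2 x x.2)
    · intro d; rfl
    · intro d; rfl
  rw [hfix] at hmod
  have h2 : Nat.card (FX D (Om D t X)) % 2 = 1 := hmod
  exact Nat.odd_iff.mpr h2

include hα

theorem hyp_quot [Finite D] :
    ∃ (τ i : QO (Om D t X)), Hyp (FX D (Om D t X)) τ (bar (Om D t X) X) (bar (Om D t X) P) i ∧
      CF (FX D (Om D t X)) τ (bar (Om D t X) X) ∧
      τ = QuotientGroup.mk ⟨t, t_mem_NO h⟩ ∧ i = QuotientGroup.mk ⟨j, j_mem_NO h hα⟩ := by
  have hodd := odd_Om h hα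
  have hXN := X_le_NO h
  have hPN := P_le_NO h
  have htN := t_mem_NO h
  have hjN := j_mem_NO h hα
  have hXO : ∀ x ∈ X, x ∈ Om D t X → x = 1 := fun x hx hxO => X_inf_Om h hodd hx hxO
  have hPO : ∀ x ∈ P, x ∈ Om D t X → x = 1 := fun x hx hxO => P_inf_Om h hodd hx hxO
  -- equality of images of elements of `X`
  have hXeq : ∀ x y : NO (Om D t X), (x : Y) ∈ X → (y : Y) ∈ X →
      (QuotientGroup.mk x : QO (Om D t X)) = QuotientGroup.mk y → (x : Y) = y := by
    intro x y hx hy he
    rw [mk_eq_mk] at he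
    have := hXO _ (X.mul_mem (X.inv_mem hx) hy) he
    rw [inv_mul_eq_one] at this
    exact this
  have hFX : ∀ d : FX D (Om D t X), d ∈ FX (FX D (Om D t X)) (bar (Om D t X) X) ↔ (d : D) ∈ FX D X :=
    fun d => mem_FX_bar hXN
  refine ⟨QuotientGroup.mk ⟨t, htN⟩, QuotientGroup.mk ⟨j, hjN⟩, ?_, ?_, rfl, rfl⟩
  · refine
    { tc := ?_, t2 := ?_, t1 := ?_, tD := ?_, one := ?_, card := ?_, tX := ?_, sq := ?_, five := ?_,
      fix := ?_, syl := ?_, alt := ?_, j2 := ?_, j1 := ?_, jt := ?_, memP := ?_, comm := ?_, disj := ?_ }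
    · -- tc
      intro q
      obtain ⟨n, rfl⟩ := QuotientGroup.mk_surjective q
      rw [← QuotientGroup.mk_mul, ← QuotientGroup.mk_mul]
      congr 1
      exact Subtype.ext (h.tc n)
    · -- t2
      rw [← QuotientGroup.mk_mul, Quot.mk_eq_one]
      change t * t ∈ _
      rw [h.t2]; exact one_mem _
    · -- t1
      intro h0
      rw [Quot.mk_eq_one] at h0
      exact h.t1 (hXO t h.tX h0)
    · -- tD
      intro d
      apply Subtype.ext
      rw [coe_smulQ]
      exact h.tD d
    · -- one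
      intro q hq2 hq1 hqt
      obtain ⟨n, rfl⟩ := QuotientGroup.mk_surjective q
      rw [← QuotientGroup.mk_mul, Quot.mk_eq_one] at hq2
      change (n : Y) * n ∈ _ at hq2
      -- odd power
      obtain ⟨m, hm⟩ := odd_of_mem hodd hq2
      have hi : ((n : Y) ^ (2 * m + 1)) * ((n : Y) ^ (2 * m + 1)) = 1 := by
        have : ((n : Y) ^ (2 * m + 1)) * ((n : Y) ^ (2 * m + 1)) = ((n : Y) * n) ^ (2 * m + 1) := by
          rw [← pow_add, ← pow_two, ← pow_mul]; congr 1; ring
        rw [this, ← hm, pow_orderOf_eq_one]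
      have hnm : (n : Y)⁻¹ * (n : Y) ^ (2 * m + 1) ∈ Om D t X := by
        have : (n : Y)⁻¹ * (n : Y) ^ (2 * m + 1) = ((n : Y) * n) ^ m := by
          rw [pow_succ', inv_mul_cancel_left, ← pow_two, ← pow_mul]
        rw [this]; exact pow_mem hq2 m
      have hmk : (QuotientGroup.mk n : QO (Om D t X)) = QuotientGroup.mk (n ^ (2 * m + 1)) := by
        rw [mk_eq_mk]; exact hnm
      rw [hmk] at hq1 hqt
      obtain ⟨d, hd⟩ := h.one ((n : Y) ^ (2 * m + 1)) hi (by
        intro h0
        apply hq1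
        rw [Quot.mk_eq_one]
        change (n : Y) ^ (2 * m + 1) ∈ _
        rw [h0]; exact one_mem _) (by
        intro h0
        apply hqt
        rw [mk_eq_mk]
        change ((n : Y) ^ (2 * m + 1))⁻¹ * t ∈ _
        rw [h0, inv_mul_cancel]; exact one_mem _)
      -- a fixed point in `Fix O`
      obtain ⟨e, he⟩ : ∃ e : FX D (Om D t X), (n ^ (2 * m + 1)) • e = e := by
        classical
        have hdf : Odd (Nat.card (FX D (Om D t X))) := odd_card_FX_Om h
        have hfin := Fintype.ofFinite (FX D (Om D t X))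
        rw [Nat.card_eq_fintype_card] at hdf
        exact Equiv.Perm.exists_fixed_point_of_prime (p := 2) (n := 1) hdf.not_two_dvd_nat
          (σ := MulAction.toPermHom (NO (Om D t X)) (FX D (Om D t X)) (n ^ (2 * m + 1))) (by
          rw [pow_one, pow_two, ← map_mul]
          have : (n ^ (2 * m + 1)) * (n ^ (2 * m + 1)) = 1 := Subtype.ext hi
          rw [this, map_one])
      refine ⟨e, fun e' => ?_⟩
      rw [hmk]
      have hed : (e : D) = d := (hd e).1 (congrArg Subtype.val he)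
      constructor
      · intro he'
        apply Subtype.ext
        rw [hed]
        exact (hd e').1 (congrArg Subtype.val he')
      · rintro rfl
        exact he
    · -- card
      rw [← h.card]
      symm
      refine Nat.card_congr (Equiv.ofBijective (fun x : X => ⟨QuotientGroup.mk ⟨x, hXN x.2⟩,
        mem_bar.2 ⟨⟨x, hXN x.2⟩, x.2, rfl⟩⟩) ⟨?_, ?_⟩)
      · intro x y hxy
        exact Subtype.ext (hXeq ⟨x, hXN x.2⟩ ⟨y, hXN y.2⟩ x.2 y.2 (congrArg Subtype.val hxy))
      · rintro ⟨q, hq⟩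
        obtain ⟨n, hn, rfl⟩ := mem_bar.1 hq
        exact ⟨⟨n, hn⟩, rfl⟩
    · -- tX
      exact mem_bar.2 ⟨⟨t, htN⟩, h.tX, rfl⟩
    · -- sq
      intro q hq hq1 hqt
      obtain ⟨n, hn, rfl⟩ := mem_bar.1 hq
      rw [← QuotientGroup.mk_mul]
      congr 1
      apply Subtype.ext
      apply h.sq n hn
      · intro h0
        apply hq1
        rw [Quot.mk_eq_one, h0]; exact one_mem _
      · intro h0
        apply hqt
        congr 1
        exact Subtype.ext h0
    · -- five
      rw [← h.five, ← Nat.card_coe_set_eq, ← Nat.card_coe_set_eq]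
      refine Nat.card_congr ⟨fun d => ⟨(d : FX D (Om D t X)), (hFX _).1 d.2⟩,
        fun d => ⟨⟨d, FX_le d.2⟩, (hFX _).2 d.2⟩, ?_, ?_⟩
      · intro d; rfl
      · intro d; rfl
    · -- fix
      intro q hq hq1 hqt d hd
      obtain ⟨n, hn, rfl⟩ := mem_bar.1 hq
      rw [hFX]
      apply h.fix n hn
      · intro h0
        apply hq1
        rw [Quot.mk_eq_one, h0]; exact one_mem _
      · intro h0
        apply hqt
        congr 1
        exact Subtype.ext h0
      · exact congrArg Subtype.val hd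
    · -- syl
      intro R hXR hR hRf
      let f := QuotientGroup.mk' ((Om D t X).subgroupOf (NO (Om D t X)))
      let L : Subgroup (NO (Om D t X)) := R.comap f
      have hsur := MonoidHom.subgroupComap_surjective_of_surjective f R
        (QuotientGroup.mk'_surjective _)
      -- a Sylow subgroup of `L` containing `X`
      have hXL : X.subgroupOf (NO (Om D t X)) ≤ L := by
        intro n hn
        exact hXR (mem_bar.2 ⟨n, hn, rfl⟩)
      have hXp : IsPGroup 2 ((X.subgroupOf (NO (Om D t X))).subgroupOf L) := by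
        apply IsPGroup.comap_of_injective _ L.subtype L.subtype_injective
        exact (isPGroup_X h).comap_of_injective _ (NO (Om D t X)).subtype_injective
      obtain ⟨S, hS⟩ := hXp.exists_le_sylow
      have hSX : ∀ s ∈ S, ((s : NO (Om D t X)) : Y) ∈ X := by
        intro s hs
        refine h.syl (((S : Subgroup L).map L.subtype).map (NO (Om D t X)).subtype) ?_
          ((S.2.map _).map _) ?_ ⟨s, ⟨s, hs, rfl⟩, rfl⟩
        · intro x hx
          exact ⟨⟨x, hXN hx⟩, ⟨⟨⟨x, hXN hx⟩, hXL hx⟩, hS hx, rfl⟩, rfl⟩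
        · rintro _ ⟨_, ⟨r, -, rfl⟩, rfl⟩ d hd
          have hr : f r ∈ R := r.2
          exact congrArg Subtype.val (hRf _ hr ⟨d, FX_le hd⟩ ((hFX _).2 hd))
      have htop : (S.mapSurjective hsur : Subgroup R) = ⊤ := by
        have := (S.mapSurjective hsur).3 (Q := ⊤) (by
          intro x
          obtain ⟨k, hk⟩ := hR x
          exact ⟨k, Subtype.ext hk⟩) le_top
        exact this.symm
      intro r hr
      have h1 : (⟨r, hr⟩ : R) ∈ (S.mapSurjective hsur : Subgroup R) := by rw [htop]; trivial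
      rw [Sylow.coe_mapSurjective] at h1
      obtain ⟨s, hs, hsr⟩ := h1
      refine mem_bar.2 ⟨s, hSX s hs, ?_⟩
      exact congrArg Subtype.val hsr
    · -- alt
      intro a ha b hb c hc hab hbc hca
      rw [hFX] at ha hb hc
      obtain ⟨g, hg, h1, h2, h3, h4⟩ := h.alt a ha b hb c hc (fun e => hab (Subtype.ext e))
        (fun e => hbc (Subtype.ext e)) (fun e => hca (Subtype.ext e))
      have hgN : g ∈ NO (Om D t X) := comm_mem_NO h hg
      refine ⟨QuotientGroup.mk ⟨g, hgN⟩, ?_, ?_, ?_, ?_, ?_⟩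
      · intro q hq
        obtain ⟨n, hn, rfl⟩ := mem_bar.1 hq
        rw [← QuotientGroup.mk_mul, ← QuotientGroup.mk_mul]
        congr 1
        exact Subtype.ext (hg n hn)
      · exact Subtype.ext h1
      · exact Subtype.ext h2
      · exact Subtype.ext h3
      · intro d hd hda hdb hdc
        rw [hFX] at hd
        exact Subtype.ext (h4 d hd (fun e => hda (Subtype.ext e)) (fun e => hdb (Subtype.ext e))
          (fun e => hdc (Subtype.ext e)))
    · -- j2
      rw [← QuotientGroup.mk_mul, Quot.mk_eq_one]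
      change j * j ∈ _
      rw [h.j2]; exact one_mem _
    · -- j1
      intro h0
      rw [Quot.mk_eq_one] at h0
      exact h.j1 (two_of_mem_Om hodd h0 ⟨1, by rw [pow_one, pow_two]; exact h.j2⟩)
    · -- jt
      intro h0
      rw [mk_eq_mk] at h0
      change j⁻¹ * t ∈ _ at h0
      rw [h.jinv] at h0
      have h1 := two_of_mem_Om hodd h0 ⟨1, by
        rw [pow_one, pow_two, ← h.tc j, mul_assoc, ← mul_assoc j t j, ← h.tc j, mul_assoc t j j, h.j2,
          mul_one, h.t2]⟩
      apply h.jt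
      calc j = j * t * t := by rw [mul_assoc, h.t2, mul_one]
        _ = t := by rw [h1, one_mul]
    · -- memP
      intro q
      constructor
      · intro hq
        obtain ⟨n, hn, rfl⟩ := mem_bar.1 hq
        refine mem_bar.2 ⟨⟨j, hjN⟩ * n * ⟨j, hjN⟩, (h.memP _).1 hn, rfl⟩
      · intro hq
        obtain ⟨n, hn, hnq⟩ := mem_bar.1 hq
        refine mem_bar.2 ⟨⟨j, hjN⟩ * n * ⟨j, hjN⟩, (h.memX _).1 hn, ?_⟩
        rw [QuotientGroup.mk_mul, QuotientGroup.mk_mul, hnq]
        have hjj : (QuotientGroup.mk ⟨j, hjN⟩ : QO (Om D t X)) * QuotientGroup.mk ⟨j, hjN⟩ = 1 := by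
          rw [← QuotientGroup.mk_mul, Quot.mk_eq_one]
          change j * j ∈ _
          rw [h.j2]; exact one_mem _
        calc (QuotientGroup.mk ⟨j, hjN⟩ : QO (Om D t X)) * (QuotientGroup.mk ⟨j, hjN⟩ * q *
              QuotientGroup.mk ⟨j, hjN⟩) * QuotientGroup.mk ⟨j, hjN⟩
            = (QuotientGroup.mk ⟨j, hjN⟩ * QuotientGroup.mk ⟨j, hjN⟩) * q *
              (QuotientGroup.mk ⟨j, hjN⟩ * QuotientGroup.mk ⟨j, hjN⟩) := by group
          _ = q := by rw [hjj, one_mul, mul_one]
    · -- comm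
      intro q hq r hr
      obtain ⟨n, hn, rfl⟩ := mem_bar.1 hq
      obtain ⟨m, hm, rfl⟩ := mem_bar.1 hr
      rw [← QuotientGroup.mk_mul, ← QuotientGroup.mk_mul]
      congr 1
      exact Subtype.ext (h.comm n hn m hm)
    · -- disj
      intro q hq hq'
      obtain ⟨n, hn, rfl⟩ := mem_bar.1 hq
      obtain ⟨m, hm, hmn⟩ := mem_bar.1 hq'
      rw [mk_eq_mk] at hmn
      have h1 : (m : Y)⁻¹ * n = 1 := two_of_mem_Om hodd hmn ⟨2, by
        have hc : Commute ((m : Y)⁻¹) n := (Commute.inv_left (h.comm n hn m hm).symm)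
        rw [hc.mul_pow, pow_four h hn, inv_pow, pow_four h.symm hm, inv_one, one_mul]⟩
      have h2 : (m : Y) = n := inv_mul_eq_one.mp h1
      rcases h.disj n hn (h2 ▸ hm) with h3 | h3
      · left
        rw [Quot.mk_eq_one, h3]; exact one_mem _
      · right
        congr 1
        exact Subtype.ext h3
  · -- CF
    intro q hq hq1 hqt g hg hgq
    obtain ⟨x, hx, rfl⟩ := mem_bar.1 hq
    obtain ⟨n, rfl⟩ := QuotientGroup.mk_surjective g
    have hx1 : (x : Y) ≠ 1 := by
      intro h0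
      apply hq1
      rw [Quot.mk_eq_one, h0]; exact one_mem _
    have hxt : (x : Y) ≠ t := by
      intro h0
      apply hqt
      congr 1
      exact Subtype.ext h0
    have hcop : (Nat.card ((Om D t X).subgroupOf (NO (Om D t X)))).Coprime 2 := by
      rw [Nat.card_congr (Subgroup.subgroupOfEquivOfLe le_normalizer).toEquiv]
      exact Nat.coprime_two_right.mpr hodd
    have hxp : IsPGroup 2 (zpowers x) := by
      intro ⟨r, hr⟩
      refine ⟨2, ?_⟩
      apply Subtype.ext
      apply Subtype.ext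
      change ((r : NO (Om D t X)) : Y) ^ (2 ^ 2) = 1
      apply pow_four h
      obtain ⟨k, rfl⟩ := mem_zpowers_iff.mp hr
      exact X.zpow_mem hx k
    obtain ⟨m, hm, hmn⟩ := Cfsg.Agent.PLocal.CoprimeLift.exists_commuting_lift
      ((Om D t X).subgroupOf (NO (Om D t X))) (zpowers x) hcop hxp n (by
        intro r hr
        obtain ⟨k, rfl⟩ := mem_zpowers_iff.mp hr
        have : (QuotientGroup.mk (x ^ k * n * (x ^ k)⁻¹ * n⁻¹) : QO (Om D t X)) = 1 := by
          rw [QuotientGroup.mk_mul, QuotientGroup.mk_mul, QuotientGroup.mk_mul, QuotientGroup.mk_inv,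
            QuotientGroup.mk_inv, QuotientGroup.mk_zpow]
          have hc : Commute (QuotientGroup.mk n : QO (Om D t X)) (QuotientGroup.mk x) := hgq
          rw [← (hc.zpow_right k).eq]
          group
        rwa [QuotientGroup.eq_one_iff] at this)
    have hmx := hmn x (mem_zpowers x)
    have hmnx : ((m * n : NO (Om D t X)) : Y) ∈ CK D X x := by
      rw [mem_CK]
      refine ⟨(congrArg Subtype.val hmx).symm, ?_⟩
      intro d hd
      have h1 : (n : Y) • d = d := congrArg Subtype.val (hg ⟨d, FX_le hd⟩ ((hFX _).2 hd))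
      change ((m : Y) * (n : Y)) • d = d
      rw [mul_smul, h1]
      exact Om_le_KX t X hm d hd
    have hmk : (QuotientGroup.mk n : QO (Om D t X)) = QuotientGroup.mk (m * n) := by
      rw [QuotientGroup.mk_mul, (QuotientGroup.eq_one_iff m).mpr hm, one_mul]
    rw [hmk]
    -- decompose `m * n`
    set g : Y := ((m * n : NO (Om D t X)) : Y) with hgdef
    obtain ⟨a, b, ha, hb, hab, ha2, hbo⟩ : ∃ a b : Y, a ∈ zpowers g ∧ b ∈ zpowers g ∧ g = a * b ∧
        (∃ k, a ^ (2 ^ k) = 1) ∧ Odd (orderOf b) := exists_two_odd g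
    have haC : a ∈ CK D X x := (zpowers_le.mpr hmnx) ha
    have hbC : b ∈ CK D X x := (zpowers_le.mpr hmnx) hb
    have hbO : b ∈ Om D t X := subset_closure ⟨x, hx, hx1, hxt, hbC, hbo⟩
    have haX : a ∈ X := by
      rw [mem_CK] at haC
      rcases two_mem h hx hx1 hxt haC.2 haC.1 ha2 with rfl | rfl | rfl | rfl
      · exact X.one_mem
      · exact h.tX
      · exact hx
      · exact X.mul_mem hx h.tX
    refine mem_bar.2 ⟨⟨a, hXN haX⟩, haX, ?_⟩
    rw [mk_eq_mk]
    change a⁻¹ * g ∈ _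
    rw [hab, inv_mul_cancel_left]
    exact hbO

end Cfsg.Agent.TwoGenNine.QuotHyp
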