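import Cfsg.Agent.TwoGenNine.StabDef
import Cfsg.Agent.TwoGenNine.QuotHyp

/-!
# The last configuration of S1728: centralisers of elements of order 4 of `X` stabilise the nine points
-/

set_option autoImplicit false

open scoped Pointwise

namespace Cfsg.Agent.TwoGenNine.StabCent

open Subgroup
open Cfsg.Agent.TwoGenNine.Setup
open Cfsg.Agent.TwoGenNine.Basic
open Cfsg.Agent.TwoGenNine.Core
open Cfsg.Agent.TwoGenNine.StabDef

/-- A `2`-subgroup of `S N`, `N` of odd order normalised by `S`, is conjugate into `S` by an element of `N`. -/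
theorem exists_conj_le_odd {M : Type*} [Group M] [Finite M] {S Q N : Subgroup M} (hS : IsPGroup 2 S)
    (hQ : IsPGroup 2 Q) (hN : Odd (Nat.card N)) (hm : ∀ d : M, ∃ s ∈ S, ∃ n ∈ N, d = s * n) :
    ∃ n ∈ N, ∀ q ∈ Q, n * q * n⁻¹ ∈ S := by
  have h2 : Fact (Nat.Prime 2) := ⟨Nat.prime_two⟩
  have hd : Disjoint S N := by
    rw [disjoint_iff_inf_le]
    intro y hy
    obtain ⟨hyS, hyN⟩ := mem_inf.1 hy
    rw [mem_bot]
    obtain ⟨k, hk⟩ := hS ⟨y, hyS⟩
    exact eq_one_of_odd_of_two (odd_of_mem hN hyN) ⟨k, congrArg Subtype.val hk⟩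
  have hc : IsComplement' S N := by
    refine isComplement'_of_disjoint_and_mul_eq_univ hd ?_
    rw [Set.eq_univ_iff_forall]
    intro d
    obtain ⟨s, hs, n, hn, rfl⟩ := hm d
    exact ⟨s, hs, n, hn, rfl⟩
  have hidx : S.index = Nat.card N := hc.symm.index_eq_card
  have hnd : ¬ 2 ∣ S.index := by
    rw [hidx, ← even_iff_two_dvd, Nat.not_even_iff_odd]
    exact hN
  let T : Sylow 2 M := hS.toSylow hnd
  have hT : (T : Subgroup M) = S := rfl
  obtain ⟨T', hT'⟩ := hQ.exists_le_sylow
  obtain ⟨g, hg⟩ := MulAction.exists_smul_eq M T' T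
  obtain ⟨s, hs, n, hn, rfl⟩ := hm g
  refine ⟨n, hn, fun q hq => ?_⟩
  have h3 : s * n * q * (s * n)⁻¹ ∈ S := by
    rw [← hT, ← hg, Sylow.coe_subgroup_smul]
    exact ⟨q, hT' hq, rfl⟩
  have h4 : n * q * n⁻¹ = s⁻¹ * (s * n * q * (s * n)⁻¹) * s := by group
  rw [h4]
  exact mul_mem (mul_mem (inv_mem hs) h3) hs

variable {Y : Type*} [Group Y] {D : Type*} [MulAction Y D]

/-- Two fixed-point-free involutions of a set with four elements which agree on one point agree. -/
theorem agree {F : Set D} (h5 : F.ncard = 5) {α : D} (hα : α ∈ F) {σ τ : Y} (hσ : ∀ d ∈ F, σ • d ∈ F)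
    (hτ : ∀ d ∈ F, τ • d ∈ F) (hσσ : ∀ d ∈ F, σ • σ • d = d) (hττ : ∀ d ∈ F, τ • τ • d = d)
    (hσα : ∀ d ∈ F, σ • d = d ↔ d = α) (hτα : ∀ d ∈ F, τ • d = d ↔ d = α) {d : D} (hd : d ∈ F) (hdα : d ≠ α)
    (he : σ • d = τ • d) : ∀ f ∈ F, σ • f = τ • f := by
  intro f hf
  by_contra hne
  have hfα : f ≠ α := by
    rintro rfl
    apply hne
    rw [(hσα f hf).2 rfl, (hτα f hf).2 rfl]
  have hfd : f ≠ d := by
    rintro rfl
    exact hne he
  have iσ : ∀ a b : D, σ • a = σ • b → a = b := fun a b h => MulAction.injective σ h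
  have iτ : ∀ a b : D, τ • a = τ • b → a = b := fun a b h => MulAction.injective τ h
  have sα := (hσα α hα).2 rfl
  have tα := (hτα α hα).2 rfl
  have e1 : σ • d ≠ d := fun h => hdα ((hσα d hd).1 h)
  have e2 : σ • d ≠ α := fun h => hdα (iσ _ _ (h.trans sα.symm))
  have e3 : f ≠ σ • d := by
    intro h
    apply hne
    rw [h, hσσ d hd, he, hττ d hd]
  have s1 : σ • f ≠ f := fun h => hfα ((hσα f hf).1 h)
  have s2 : σ • f ≠ α := fun h => hfα (iσ _ _ (h.trans sα.symm))
  have s3 : σ • f ≠ d := fun h => e3 (iσ _ _ (by rw [h, hσσ d hd]))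
  have s4 : σ • f ≠ σ • d := fun h => hfd (iσ _ _ h)
  have t1 : τ • f ≠ f := fun h => hfα ((hτα f hf).1 h)
  have t2 : τ • f ≠ α := fun h => hfα (iτ _ _ (h.trans tα.symm))
  have t3 : τ • f ≠ d := fun h => e3 (iτ _ _ (by rw [h, he, hττ d hd]))
  have t4 : τ • f ≠ σ • d := fun h => hfd (iτ _ _ (by rw [h, he]))
  have hmem : τ • f ∈ [α, d, σ • d, f, σ • f] := by
    refine mem_list_of_ncard (S := F) ?_ ?_ (by rw [h5]; rfl) (by simp) (hτ f hf)
    · simp only [List.nodup_cons, List.mem_cons, List.not_mem_nil, or_false, not_or,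
        List.nodup_nil, and_true, not_false_eq_true]
      exact ⟨⟨fun e => hdα e.symm, fun e => e2 e.symm, fun e => hfα e.symm, fun e => s2 e.symm⟩,
        ⟨fun e => e1 e.symm, fun e => hfd e.symm, fun e => s3 e.symm⟩,
        ⟨fun e => e3 e.symm, fun e => s4 e.symm⟩, fun e => s1 e.symm⟩
    · intro e he'
      simp only [List.mem_cons, List.not_mem_nil, or_false] at he'
      rcases he' with rfl | rfl | rfl | rfl | rfl
      · exact hα
      · exact hd
      · exact hσ _ hd
      · exact hf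
      · exact hσ _ hf
  simp only [List.mem_cons, List.not_mem_nil, or_false] at hmem
  rcases hmem with h | h | h | h | h
  · exact t2 h
  · exact t3 h
  · exact t4 h
  · exact t1 h
  · exact hne h.symm

variable {t : Y} {X P : Subgroup Y} {j : Y} {α : D}

/-- `P` acts regularly on the four points of `Fix X` different from `α`. -/
theorem exists_smul_eq (F : Full D t X P j α) {d e : D} (hd : d ∈ FX D X) (hdα : d ≠ α) (he : e ∈ FX D X)
    (heα : e ≠ α) : ∃ p ∈ P, p • d = e := by
  have h := F.hyp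
  obtain ⟨k, hk, hk1, hkt⟩ := h.symm.exists_mem
  obtain ⟨l, hl, hl1, hlt, hlk⟩ := h.symm.exists_not_comm hk hk1 hkt
  have hPX : ∀ p ∈ P, ∀ d ∈ FX D X, p • d ∈ FX D X := fun p hp d hd =>
    smul_mem_FX_of_comm (fun x hx => (h.comm x hx p hp).symm) hd
  have hfix : ∀ p ∈ P, p ≠ 1 → p ≠ t → ∀ d ∈ FX D X, p • d = d → d = α := fun p hp hp1 hpt d hd hpd =>
    eq_alpha h.symm (hα_symm F.alpha) hp hp1 hpt hd hpd
  have hα' : ∀ p ∈ P, p • α = α := fun p hp => (alphaP F.alpha) p hp
  have hpα : ∀ p ∈ P, p • d ≠ α := fun p hp h0 => hdα (MulAction.injective p (by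
    show p • d = p • α
    rw [h0, hα' p hp]))
  have hkl1 : k * l ≠ 1 := by
    intro h0
    apply hlk
    rw [h0, eq_inv_of_mul_eq_one_left h0]; group
  have hklt : k * l ≠ t := by
    intro h0
    apply hlk
    have : l = k⁻¹ * t := by rw [← h0]; group
    rw [this, ← h.tc k⁻¹, ← mul_assoc, ← h.tc k]; group
  have hne : ∀ p ∈ P, ∀ q ∈ P, q⁻¹ * p ≠ 1 → q⁻¹ * p ≠ t → p • d ≠ q • d := by
    intro p hp q hq h1 h2 h3
    apply hdα
    refine hfix (q⁻¹ * p) (mul_mem (inv_mem hq) hp) h1 h2 d hd ?_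
    rw [mul_smul, h3, inv_smul_smul]
  have hmem : e ∈ [α, d, k • d, l • d, (k * l) • d] := by
    refine mem_list_of_ncard (S := FX D X) ?_ ?_ (by rw [h.five]; rfl) (by simp) he
    · have hkli : k⁻¹ * (k * l) = l := by group
      have ktk : k⁻¹ = k * t := by
        rw [inv_eq_iff_mul_eq_one, ← mul_assoc, h.symm.sq k hk hk1 hkt, h.t2]
      simp only [List.nodup_cons, List.mem_cons, List.not_mem_nil, or_false, not_or,
        List.nodup_nil, and_true, not_false_eq_true]
      refine ⟨⟨fun e => hdα e.symm, fun e => hpα k hk e.symm, fun e => hpα l hl e.symm,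
        fun e => hpα _ (mul_mem hk hl) e.symm⟩,
        ⟨fun e => hdα (hfix k hk hk1 hkt d hd e.symm), fun e => hdα (hfix l hl hl1 hlt d hd e.symm),
          fun e => hdα (hfix _ (mul_mem hk hl) hkl1 hklt d hd e.symm)⟩,
        ⟨fun e => ?_, fun e => ?_⟩, fun e => ?_⟩
      · refine hne k hk l hl ?_ ?_ e
        · intro h0
          apply hlk
          rw [inv_mul_eq_one] at h0
          rw [h0]
        · intro h0
          apply hlk
          rw [inv_mul_eq_iff_eq_mul] at h0
          rw [h0, ← mul_assoc, mul_assoc l t, h.tc l, ← mul_assoc]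
      · refine hne k hk (k * l) (mul_mem hk hl) ?_ ?_ e
        · intro h0
          apply hl1
          rw [inv_mul_eq_one] at h0
          exact mul_eq_left.mp h0
        · intro h0
          apply hlt
          rw [inv_mul_eq_iff_eq_mul, mul_assoc, left_eq_mul] at h0
          rw [eq_inv_of_mul_eq_one_left h0, h.tinv]
      · refine hne l hl (k * l) (mul_mem hk hl) ?_ ?_ e
        · intro h0
          apply hk1
          rw [inv_mul_eq_one] at h0
          exact mul_eq_right.mp h0
        · intro h0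
          apply hkt
          rw [inv_mul_eq_iff_eq_mul, mul_assoc, ← h.tc l, ← mul_assoc] at h0
          have := (right_eq_mul.mp h0)
          rw [eq_inv_of_mul_eq_one_left this, h.tinv]
    · intro f hf
      simp only [List.mem_cons, List.not_mem_nil, or_false] at hf
      rcases hf with rfl | rfl | rfl | rfl | rfl
      · exact alphaX F.alpha
      · exact hd
      · exact hPX k hk d hd
      · exact hPX l hl d hd
      · exact hPX _ (mul_mem hk hl) d hd
  simp only [List.mem_cons, List.not_mem_nil, or_false] at hmem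
  rcases hmem with h0 | h0 | h0 | h0 | h0
  · exact absurd h0 heα
  · exact ⟨1, one_mem _, by rw [h0, one_smul]⟩
  · exact ⟨k, hk, h0.symm⟩
  · exact ⟨l, hl, h0.symm⟩
  · exact ⟨k * l, mul_mem hk hl, h0.symm⟩

/-- An element of `C(x)` preserves `Fix X`. -/
theorem smul_mem_of_comm (h : Hyp D t X P j) {x g : Y} (hx : x ∈ X) (hx1 : x ≠ 1) (hxt : x ≠ t)
    (hg : g * x = x * g) {d : D} (hd : d ∈ FX D X) : g • d ∈ FX D X := by
  apply h.fix x hx hx1 hxt
  rw [smul_smul, ← hg, mul_smul, hd x hx]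

/-- An element of `C(X)` stabilises the nine points. -/
theorem mem_N0_of_comm [Finite Y] (F : Full D t X P j α) {a : Y} (ha : ∀ x ∈ X, a * x = x * a) :
    a ∈ N0 D X P := by
  apply mem_N0_of
  rintro d (hd | hd)
  · exact Or.inl (smul_mem_FX_of_comm ha hd)
  · by_cases hdα : d = α
    · left
      rw [hdα]
      exact smul_mem_FX_of_comm ha (alphaX F.alpha)
    · right
      rw [F.triv a ha d hd hdα]
      exact hd

/-- the group `P⟨x⟩` -/
def PX (h : Hyp D t X P j) {x : Y} (hx : x ∈ X) (hx1 : x ≠ 1) (hxt : x ≠ t) : Subgroup Y where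
  carrier := {y | y ∈ P ∨ y * x ∈ P}
  mul_mem' := by
    have hxx := h.sq x hx hx1 hxt
    rintro y z (hy | hy) (hz | hz)
    · exact Or.inl (mul_mem hy hz)
    · right
      rw [mul_assoc]
      exact mul_mem hy hz
    · right
      have : y * z * x = y * x * z := by rw [mul_assoc, ← h.comm x hx z hz, ← mul_assoc]
      rw [this]
      exact mul_mem hy hz
    · left
      have h1 := h.comm x hx _ hz
      have h2 : y * z = (y * x) * (z * x) * t := by
        calc y * z = y * (z * x) * x * (x⁻¹ * x⁻¹) := by group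
          _ = y * (x * (z * x)) * (x * x)⁻¹ := by rw [h1]; group
          _ = (y * x) * (z * x) * t := by rw [hxx, h.tinv]; group
      rw [h2]
      exact mul_mem (mul_mem hy hz) h.tP
  one_mem' := Or.inl (one_mem _)
  inv_mem' := by
    have hxx := h.sq x hx hx1 hxt
    rintro y (hy | hy)
    · exact Or.inl (inv_mem hy)
    · right
      have h1 := h.comm x hx _ (inv_mem hy)
      have h2 : y⁻¹ * x = (y * x)⁻¹ * t := by
        calc y⁻¹ * x = x * (y * x)⁻¹ * x := by group
          _ = (y * x)⁻¹ * (x * x) := by rw [h1]; group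
          _ = (y * x)⁻¹ * t := by rw [hxx]
      rw [h2]
      exact mul_mem (inv_mem hy) h.tP

theorem mem_PX (h : Hyp D t X P j) {x : Y} (hx : x ∈ X) (hx1 : x ≠ 1) (hxt : x ≠ t) {y : Y} :
    y ∈ PX h hx hx1 hxt ↔ y ∈ P ∨ y * x ∈ P := Iff.rfl

theorem x_mem_PX (h : Hyp D t X P j) {x : Y} (hx : x ∈ X) (hx1 : x ≠ 1) (hxt : x ≠ t) :
    x ∈ PX h hx hx1 hxt := by
  right
  rw [h.sq x hx hx1 hxt]
  exact h.tP

theorem PX_comm (h : Hyp D t X P j) {x : Y} (hx : x ∈ X) (hx1 : x ≠ 1) (hxt : x ≠ t) {y : Y}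
    (hy : y ∈ PX h hx hx1 hxt) : y * x = x * y := by
  rcases hy with hy | hy
  · exact (h.comm x hx y hy).symm
  · have h1 := h.comm x hx _ hy
    calc y * x = x⁻¹ * (x * (y * x)) := by group
      _ = x⁻¹ * (y * x * x) := by rw [h1]
      _ = x⁻¹ * (y * x) * x := by group
      _ = x⁻¹ * (x * (y * x)) * x * x⁻¹ := by rw [h1]; group
      _ = x * y := by
        have h2 : y * x * x⁻¹ = y := by group
        have h3 : x⁻¹ * (y * x) = (y * x) * x⁻¹ := by
          rw [inv_mul_eq_iff_eq_mul, ← mul_assoc, h1, mul_inv_cancel_right]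
        calc x⁻¹ * (x * (y * x)) * x * x⁻¹ = y * x := by group
          _ = x * (x⁻¹ * (y * x)) := by group
          _ = x * y := by rw [h3, h2]

theorem isPGroup_PX (h : Hyp D t X P j) {x : Y} (hx : x ∈ X) (hx1 : x ≠ 1) (hxt : x ≠ t) :
    IsPGroup 2 (PX h hx hx1 hxt) := by
  rintro ⟨y, hy⟩
  refine ⟨2, Subtype.ext ?_⟩
  show y ^ 2 ^ 2 = 1
  have hx4 : x ^ (2 ^ 2) = 1 := QuotHyp.pow_four h hx
  rcases hy with hy' | hy'
  · exact QuotHyp.pow_four h.symm hy'
  · have h1 := QuotHyp.pow_four h.symm hy'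
    have hc : Commute y x := PX_comm h hx hx1 hxt (Or.inr hy')
    rw [hc.mul_pow, hx4, mul_one] at h1
    exact h1

variable [Finite Y]

omit [Finite Y] in
/-- Elements of `P⟨x⟩` normalise `O_x`. -/
theorem conj_mem_Ox (h : Hyp D t X P j) {x : Y} (hx : x ∈ X) (hx1 : x ≠ 1) (hxt : x ≠ t) {p : Y}
    (hp : p ∈ PX h hx hx1 hxt) {g : Y} (hg : g ∈ Ox D X x) : p * g * p⁻¹ ∈ Ox D X x := by
  -- `p` preserves `Fix X`
  have hpx := PX_comm h hx hx1 hxt hp
  have hK : ∀ g, g ∈ CK D X x → p * g * p⁻¹ ∈ CK D X x := by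
    intro g hg
    rw [mem_CK] at hg ⊢
    refine ⟨?_, ?_⟩
    · have c1 : Commute p x := hpx
      have c2 : Commute g x := hg.1
      exact ((c1.mul_left c2).mul_left c1.inv_left).eq
    · intro d hd
      have h1 : p⁻¹ • d ∈ FX D X := smul_mem_of_comm h hx hx1 hxt
        ((show Commute p x from hpx).inv_left).eq hd
      rw [mul_smul, mul_smul, hg.2 _ h1, smul_inv_smul]
  rw [Ox] at hg ⊢
  induction hg using closure_induction with
  | mem y hy =>
    refine subset_closure ⟨hK y hy.1, ?_⟩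
    have : orderOf (p * y * p⁻¹) = orderOf y := by
      have := orderOf_injective (MulAut.conj p).toMonoidHom (MulAut.conj p).injective y
      simpa [MulAut.conj_apply] using this
    rw [this]; exact hy.2
  | one => rw [mul_one, mul_inv_cancel]; exact one_mem _
  | mul a b ha hb h1 h2 =>
    have := mul_mem h1 h2
    rwa [show p * a * p⁻¹ * (p * b * p⁻¹) = p * (a * b) * p⁻¹ by group] at this
  | inv a ha h1 =>
    have := inv_mem h1
    rwa [show (p * a * p⁻¹)⁻¹ = p * a⁻¹ * p⁻¹ by group] at this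

/-- the group `P⟨x⟩ O_x` -/
def MM (h : Hyp D t X P j) {x : Y} (hx : x ∈ X) (hx1 : x ≠ 1) (hxt : x ≠ t) : Subgroup Y where
  carrier := {y | ∃ s ∈ PX h hx hx1 hxt, ∃ n ∈ Ox D X x, y = s * n}
  mul_mem' := by
    rintro y z ⟨s, hs, n, hn, rfl⟩ ⟨s', hs', n', hn', rfl⟩
    refine ⟨s * s', mul_mem hs hs', s'⁻¹ * n * s' * n', mul_mem ?_ hn', by group⟩
    have := conj_mem_Ox h hx hx1 hxt (inv_mem hs') hn
    rwa [inv_inv] at this
  one_mem' := ⟨1, one_mem _, 1, one_mem _, (mul_one 1).symm⟩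
  inv_mem' := by
    rintro y ⟨s, hs, n, hn, rfl⟩
    refine ⟨s⁻¹, inv_mem hs, s * n⁻¹ * s⁻¹, conj_mem_Ox h hx hx1 hxt hs (inv_mem hn), by group⟩

/-- an element of `C(x)` fixing `α` conjugates `P⟨x⟩` into `P⟨x⟩ O_x` -/
theorem conj_mem_MM (F : Full D t X P j α) {x : Y} (hx : x ∈ X) (hx1 : x ≠ 1) (hxt : x ≠ t) {g : Y}
    (hg : g * x = x * g) (hgα : g • α = α) {s : Y} (hs : s ∈ PX F.hyp hx hx1 hxt) :
    g * s * g⁻¹ ∈ MM F.hyp hx hx1 hxt := by
  have h := F.hyp
  have hα := F.alpha
  -- reduction to `s ∈ P`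
  have key : ∀ p ∈ P, g * p * g⁻¹ ∈ MM F.hyp hx hx1 hxt := by
    intro p hp
    by_cases hp1 : p = 1
    · rw [hp1, mul_one, mul_inv_cancel]; exact one_mem _
    by_cases hpt : p = t
    · rw [hpt, ← h.tc g, mul_inv_cancel_right]
      exact ⟨t, Or.inl h.tP, 1, one_mem _, (mul_one t).symm⟩
    have hgF : ∀ d ∈ FX D X, g • d ∈ FX D X := fun d hd => smul_mem_of_comm h hx hx1 hxt hg hd
    have hgi : g⁻¹ * x = x * g⁻¹ := (show Commute g x from hg).inv_left.eq
    have hgiF : ∀ d ∈ FX D X, g⁻¹ • d ∈ FX D X := fun d hd => smul_mem_of_comm h hx hx1 hxt hgi hd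
    have hPX : ∀ p ∈ P, ∀ d ∈ FX D X, p • d ∈ FX D X := fun p hp d hd =>
      smul_mem_FX_of_comm (fun x hx => (h.comm x hx p hp).symm) hd
    have hfixp : ∀ p ∈ P, p ≠ 1 → p ≠ t → ∀ d ∈ FX D X, p • d = d ↔ d = α := by
      intro p hp hp1 hpt d hd
      constructor
      · exact eq_alpha h.symm (hα_symm hα) hp hp1 hpt hd
      · rintro rfl
        exact (alphaP hα) p hp
    have hpp : ∀ p ∈ P, p ≠ 1 → p ≠ t → ∀ d : D, p • p • d = d := by
      intro p hp hp1 hpt d
      rw [smul_smul, h.symm.sq p hp hp1 hpt, h.tD]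
    set σ : Y := g * p * g⁻¹ with hσ
    have hσF : ∀ d ∈ FX D X, σ • d ∈ FX D X := by
      intro d hd
      rw [hσ, mul_smul, mul_smul]
      exact hgF _ (hPX p hp _ (hgiF d hd))
    have hσσ : ∀ d ∈ FX D X, σ • σ • d = d := by
      intro d hd
      rw [hσ, mul_smul, mul_smul, mul_smul, mul_smul, inv_smul_smul, hpp p hp hp1 hpt, smul_inv_smul]
    have hgiα : g⁻¹ • α = α := by rw [inv_smul_eq_iff, hgα]
    have hσα : ∀ d ∈ FX D X, σ • d = d ↔ d = α := by
      intro d hd
      rw [hσ, mul_smul, mul_smul]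
      constructor
      · intro h0
        have h1 : p • g⁻¹ • d = g⁻¹ • d := by rw [eq_inv_smul_iff, h0]
        have h2 := (hfixp p hp hp1 hpt _ (hgiF d hd)).1 h1
        rw [inv_smul_eq_iff, hgα] at h2
        exact h2
      · rintro rfl
        rw [hgiα, (alphaP hα) p hp, hgα]
    -- a point of `Fix X` different from `α`
    obtain ⟨d, hd, hdα⟩ : ∃ d ∈ FX D X, d ≠ α := by
      by_contra hcon
      push Not at hcon
      have h1 : (FX D X).ncard ≤ 1 := by
        calc (FX D X).ncard ≤ ({α} : Set D).ncard := Set.ncard_le_ncard (fun d hd => hcon d hd) (Set.toFinite _)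
          _ = 1 := Set.ncard_singleton α
      rw [h.five] at h1
      norm_num at h1
    have hσdα : σ • d ≠ α := by
      intro h0
      apply hdα
      have h1 := hσσ d hd
      rw [h0, (hσα α (alphaX hα)).2 rfl] at h1
      exact h1.symm
    obtain ⟨p', hp', hpd⟩ := exists_smul_eq F hd hdα (hσF d hd) hσdα
    have hp'1 : p' ≠ 1 := by
      rintro rfl
      rw [one_smul] at hpd
      exact hdα ((hσα d hd).1 hpd.symm)
    have hp't : p' ≠ t := by
      rintro rfl
      rw [h.tD] at hpd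
      exact hdα ((hσα d hd).1 hpd.symm)
    have hagree := agree h.five (alphaX hα) hσF (hPX p' hp') hσσ (fun d _ => hpp p' hp' hp'1 hp't d) hσα
      (hfixp p' hp' hp'1 hp't) hd hdα hpd.symm
    -- `c = p'⁻¹ σ ∈ C(x) ∩ K_Φ`
    have hc : p'⁻¹ * σ ∈ CK D X x := by
      rw [mem_CK]
      constructor
      · have c1 : Commute p' x := (h.comm x hx p' hp').symm
        have c2 : Commute g x := hg
        have c3 : Commute p x := (h.comm x hx p hp).symm
        exact (c1.inv_left.mul_left ((c2.mul_left c3).mul_left c2.inv_left)).eq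
      · intro f hf
        rw [mul_smul, hagree f hf, inv_smul_smul]
    obtain ⟨a, b, ha, hb, hab, ha2, hbo⟩ := QuotHyp.exists_two_odd (p'⁻¹ * σ)
    have haC : a ∈ CK D X x := by
      obtain ⟨k, rfl⟩ := mem_zpowers_iff.1 ha
      exact zpow_mem hc k
    have hbC : b ∈ CK D X x := by
      obtain ⟨k, rfl⟩ := mem_zpowers_iff.1 hb
      exact zpow_mem hc k
    have haS : a ∈ PX h hx hx1 hxt := by
      rw [mem_CK] at haC
      rcases two_mem h hx hx1 hxt haC.2 haC.1 ha2 with rfl | rfl | rfl | rfl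
      · exact one_mem _
      · exact Or.inl h.tP
      · exact x_mem_PX h hx hx1 hxt
      · exact mul_mem (x_mem_PX h hx hx1 hxt) (Or.inl h.tP)
    refine ⟨p' * a, mul_mem (Or.inl hp') haS, b, subset_closure ⟨hbC, hbo⟩, ?_⟩
    rw [mul_assoc, ← hab, mul_inv_cancel_left]
  rcases hs with hs | hs
  · exact key s hs
  · have h1 : g * s * g⁻¹ = (g * (s * x) * g⁻¹) * x⁻¹ := by
      have : g⁻¹ * x⁻¹ = x⁻¹ * g⁻¹ := (show Commute g x from hg).inv_inv.eq
      calc g * s * g⁻¹ = g * (s * x) * (x⁻¹ * g⁻¹) := by group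
        _ = (g * (s * x) * g⁻¹) * x⁻¹ := by rw [← this]; group
    rw [h1]
    refine mul_mem (key _ hs) ?_
    exact inv_mem ⟨x, x_mem_PX h hx hx1 hxt, 1, one_mem _, (mul_one x).symm⟩

/-- An element of `C(x)` fixing `α` stabilises the nine points. -/
theorem mem_N0_of_fix (F : Full D t X P j α) {x : Y} (hx : x ∈ X) (hx1 : x ≠ 1) (hxt : x ≠ t) {g : Y}
    (hg : g * x = x * g) (hgα : g • α = α) : g ∈ N0 D X P := by
  have h := F.hyp
  have hα := F.alpha
  set M := MM h hx hx1 hxt with hM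
  set S := PX h hx hx1 hxt with hS
  have hSM : S ≤ M := fun s hs => ⟨s, hs, 1, one_mem _, (mul_one s).symm⟩
  have hOM : Ox D X x ≤ M := fun n hn => ⟨1, one_mem _, n, hn, (one_mul n).symm⟩
  have hQM : S.map (MulAut.conj g).toMonoidHom ≤ M := by
    rintro _ ⟨s, hs, rfl⟩
    exact conj_mem_MM F hx hx1 hxt hg hgα hs
  have hodd := odd_Ox h hx hx1 hxt
  obtain ⟨o, ho, ho'⟩ := exists_conj_le_odd (M := M) (S := S.subgroupOf M)
    (Q := (S.map (MulAut.conj g).toMonoidHom).subgroupOf M) (N := (Ox D X x).subgroupOf M)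
    ((isPGroup_PX h hx hx1 hxt).of_equiv (subgroupOfEquivOfLe hSM).symm)
    (((isPGroup_PX h hx hx1 hxt).map _).of_equiv (subgroupOfEquivOfLe hQM).symm) (by
      rw [Nat.card_congr (subgroupOfEquivOfLe hOM).toEquiv]
      exact hodd) (by
      rintro ⟨d, s, hs, n, hn, rfl⟩
      exact ⟨⟨s, hSM hs⟩, mem_subgroupOf.2 hs, ⟨n, hOM hn⟩, mem_subgroupOf.2 hn, rfl⟩)
  have hoO : (o : Y) ∈ Ox D X x := mem_subgroupOf.1 ho
  -- `o` fixes the nine points
  have hoOm : (o : Y) ∈ Om D t X :=
    (by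
      have : Ox D X x ≤ Om D t X := by
        rw [Ox, closure_le]
        rintro g ⟨hg, hgo⟩
        exact subset_closure ⟨x, hx, hx1, hxt, hg, hgo⟩
      exact this hoO)
  have hoX : ∀ d ∈ FX D X, (o : Y) • d = d := Om_le_KX t X hoOm
  have hoP : ∀ d ∈ FX D P, (o : Y) • d = d := Om_le_KX t P (Om_eq h hα ▸ hoOm)
  have hoN : (o : Y) ∈ N0 D X P := by
    apply mem_N0_of
    rintro d (hd | hd)
    · rw [hoX d hd]; exact Or.inl hd
    · rw [hoP d hd]; exact Or.inr hd
  -- `y = o g` normalises `P⟨x⟩` and `P`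
  set y : Y := o * g with hy
  have hyS : ∀ s ∈ S, y * s * y⁻¹ ∈ S := by
    intro s hs
    have h1 := ho' ⟨g * s * g⁻¹, hQM ⟨s, hs, rfl⟩⟩ (mem_subgroupOf.2 ⟨s, hs, rfl⟩)
    have h2 : (o : Y) * (g * s * g⁻¹) * (o : Y)⁻¹ ∈ S := mem_subgroupOf.1 h1
    have h3 : y * s * y⁻¹ = (o : Y) * (g * s * g⁻¹) * (o : Y)⁻¹ := by rw [hy]; group
    rw [h3]; exact h2
  have hox : (o : Y) * x = x * o := (mem_CK.1 (Ox_le_CK X x hoO)).1
  have hyx : y * x = x * y := ((show Commute (o : Y) x from hox).mul_left (show Commute g x from hg)).eq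
  have hyP : ∀ p ∈ P, y * p * y⁻¹ ∈ P := by
    intro p hp
    by_cases hp1 : p = 1
    · rw [hp1, mul_one, mul_inv_cancel]; exact one_mem _
    by_cases hpt : p = t
    · rw [hpt, ← h.tc y, mul_inv_cancel_right]; exact h.tP
    rcases hyS p (Or.inl hp) with h1 | h1
    · exact h1
    · exfalso
      have hxx := h.sq x hx hx1 hxt
      set q : Y := y * p * y⁻¹ with hq
      have hqq : q * q = t := by
        calc q * q = y * (p * p) * y⁻¹ := by rw [hq]; group
          _ = t := by rw [h.symm.sq p hp hp1 hpt, ← h.tc y, mul_inv_cancel_right]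
      have hqx : q * x = x * q := by
        have c1 : Commute y x := hyx
        have c2 : Commute p x := (h.comm x hx p hp).symm
        exact ((c1.mul_left c2).mul_left c1.inv_left).eq
      have hr : q * x * (q * x) = 1 := by
        calc q * x * (q * x) = q * (x * q) * x := by group
          _ = (q * q) * (x * x) := by rw [← hqx]; group
          _ = 1 := by rw [hqq, hxx, h.t2]
      have hr1 : q * x = 1 ∨ q * x = t := by
        by_contra hcon
        push Not at hcon
        have := h.symm.sq _ h1 hcon.1 hcon.2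
        rw [hr] at this
        exact h.t1 this.symm
      -- `q ∈ X`
      have hqX : q ∈ X := by
        rcases hr1 with h2 | h2
        · rw [eq_inv_of_mul_eq_one_left h2]; exact inv_mem hx
        · have : q = t * x⁻¹ := by rw [← h2]; group
          rw [this]; exact mul_mem h.tX (inv_mem hx)
      -- `q` is a power of `x`, so `p = q`
      have hyq : y * q = q * y := by
        rcases hr1 with h2 | h2
        · rw [eq_inv_of_mul_eq_one_left h2]
          exact (show Commute y x from hyx).inv_right.eq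
        · have : q = t * x⁻¹ := by rw [← h2]; group
          rw [this]
          exact ((show Commute y t from (h.tc y).symm).mul_right (show Commute y x from hyx).inv_right).eq
      have hpq : p = q := by
        calc p = y⁻¹ * q * y := by rw [hq]; group
          _ = q := by rw [mul_assoc, ← hyq, inv_mul_cancel_left]
      rcases h.disj p (by rw [hpq]; exact hqX) hp with h3 | h3
      · exact hp1 h3
      · exact hpt h3
  have hyN : y ∈ N0 D X P := by
    have hn : y ∈ normalizer (P : Set Y) := Subgroup.mem_normalizer_fintype hyP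
    apply mem_N0_of
    rintro d (hd | hd)
    · exact Or.inl (smul_mem_of_comm h hx hx1 hxt hyx hd)
    · right
      apply smul_mem_FX _ hd
      intro p hp
      rw [mem_normalizer_iff] at hn
      rw [SetLike.mem_coe.symm, ] at hp
      refine (hn _).2 ?_
      have : y * (y⁻¹ * p * y) * y⁻¹ = p := by group
      rw [this]
      exact hp
  have : g = (o : Y)⁻¹ * y := by rw [hy, inv_mul_cancel_left]
  rw [this]
  exact mul_mem (inv_mem hoN) hyN

/-- **[SN]** The centraliser of an element of order 4 of `X` stabilises the nine points. -/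
theorem centralizer_le (F : Full D t X P j α) {x : Y} (hx : x ∈ X) (hx1 : x ≠ 1) (hxt : x ≠ t) :
    centralizer {x} ≤ N0 D X P := by
  intro g hg
  rw [mem_centralizer_singleton_iff] at hg
  have h := F.hyp
  have hα := F.alpha
  by_cases hgα : g • α = α
  · exact mem_N0_of_fix F hx hx1 hxt hg hgα
  have hgi : g⁻¹ * x = x * g⁻¹ := (show Commute g x from hg).inv_left.eq
  have hβ : g⁻¹ • α ∈ FX D X := smul_mem_of_comm h hx hx1 hxt hgi (alphaX hα)
  have hβα : g⁻¹ • α ≠ α := by
    intro h0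
    apply hgα
    rw [inv_smul_eq_iff] at h0
    exact h0.symm
  -- a third point
  obtain ⟨γ, hγ, hγα, hγβ⟩ : ∃ γ ∈ FX D X, γ ≠ α ∧ γ ≠ g⁻¹ • α := by
    by_contra hcon
    push Not at hcon
    have h1 : (FX D X).ncard ≤ 2 := by
      calc (FX D X).ncard ≤ ({α, g⁻¹ • α} : Set D).ncard := by
            refine Set.ncard_le_ncard (fun d hd => ?_) (Set.toFinite _)
            by_cases h1 : d = α
            · exact Or.inl h1
            · exact Or.inr (hcon d hd h1)
        _ ≤ 2 := (Set.ncard_insert_le _ _).trans (by rw [Set.ncard_singleton])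
    rw [h.five] at h1
    norm_num at h1
  obtain ⟨a, ha, ha1, -⟩ := h.alt α (alphaX hα) _ hβ γ hγ hβα.symm hγβ.symm hγα
  have hga : g * a ∈ N0 D X P := by
    refine mem_N0_of_fix F hx hx1 hxt ?_ ?_
    · exact ((show Commute g x from hg).mul_left (show Commute a x from ha x hx)).eq
    · rw [mul_smul, ha1, smul_inv_smul]
  have haN := mem_N0_of_comm F ha
  have : g = (g * a) * a⁻¹ := by group
  rw [this]
  exact mul_mem hga (inv_mem haN)

/-- **[SI]** The stabiliser of the nine points has odd index. -/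
theorem odd_index (h : Hyp D t X P j) (S : Sylow 2 Y) (hj : j ∈ S)
    (hS : ∀ s ∈ S, (∀ x ∈ X, s * x * s⁻¹ ∈ X) ∨ (∀ x ∈ X, s * x * s⁻¹ ∈ P)) : Odd (N0 D X P).index := by
  have key : ∀ s ∈ S, ∀ d ∈ FX D X, s • d ∈ Sg D X P := by
    intro s hs d hd
    rcases hS s hs with h1 | h1
    · left
      have hn : s ∈ normalizer (X : Set Y) := Subgroup.mem_normalizer_fintype h1
      apply smul_mem_FX _ hd
      intro x hx
      rw [mem_normalizer_iff] at hn
      refine (hn _).2 ?_
      have : s * (s⁻¹ * x * s) * s⁻¹ = x := by group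
      rw [this]
      exact hx
    · right
      -- `s X s⁻¹ = P`
      have hcard : Nat.card P = Nat.card X := by rw [h.card, h.symm.card]
      have hmap : X.map (MulAut.conj s).toMonoidHom = P := by
        apply Subgroup.eq_of_le_of_card_ge
        · rintro _ ⟨x, hx, rfl⟩
          exact h1 x hx
        · rw [Subgroup.card_map_of_injective (MulAut.conj s).injective, hcard]
      intro p hp
      rw [← hmap] at hp
      obtain ⟨x, hx, hxp⟩ := hp
      have hxp' : s * x * s⁻¹ = p := hxp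
      rw [← hxp', mul_smul, mul_smul, inv_smul_smul, hd x hx]
  have hSN : (S : Subgroup Y) ≤ N0 D X P := by
    intro s hs
    apply mem_N0_of
    rintro d (hd | hd)
    · exact key s hs d hd
    · have h1 := (h.FXP d).1 hd
      have h2 := key (s * j) (mul_mem hs hj) (j • d) h1
      rw [mul_smul, h.jsmul] at h2
      exact h2
  have h1 : (N0 D X P).index ∣ (S : Subgroup Y).index := Subgroup.index_dvd_of_le hSN
  have h2 : ¬ 2 ∣ (S : Subgroup Y).index := S.not_dvd_index
  rw [← Nat.not_even_iff_odd, even_iff_two_dvd]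
  exact fun h3 => h2 (h3.trans h1)

end Cfsg.Agent.TwoGenNine.StabCent
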