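import Cfsg.Agent.TwoGenNine.StabCover
import Cfsg.Agent.TwoGenNine.StabCent
import Cfsg.Agent.NineCore.Base

/-!
# The last configuration of S1728 does not occur
-/

set_option autoImplicit false
set_option linter.unusedSectionVars false

namespace Cfsg.Agent.TwoGenNine.Close

open Subgroup Cfsg
open Cfsg.Agent.NineCore.Proj Cfsg.Agent.NineCore.NoTarget
open Cfsg.Agent.TwoGenNine.StabDef

universe u v

/-- `Full` for the centraliser of an involution of a simple group is impossible (given the odd order theorem). -/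
theorem false_of_full (ft : FTStatement.{u}) {G : Type u} [Group G] [Finite G] [IsSimpleGroup G] {z : G}
    (hz : orderOf z = 2) {D : Type v} [MulAction (centralizer ({z} : Set G)) D]
    {X P : Subgroup (centralizer ({z} : Set G))} {j : centralizer ({z} : Set G)} {α : D}
    (F : Full D ⟨z, mem_self z⟩ X P j α) (S : Sylow 2 (centralizer ({z} : Set G))) (hj : j ∈ S)
    (hS : ∀ s ∈ S, (∀ x ∈ X, s * x * s⁻¹ ∈ X) ∨ (∀ x ∈ X, s * x * s⁻¹ ∈ P)) : False := by
  have htN : (⟨z, mem_self z⟩ : centralizer ({z} : Set G)) ∈ N0 D X P :=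
    mem_N0_of fun d hd => by rw [F.hyp.tD]; exact hd
  obtain ⟨C, _, K, f, hf, hodd, hft⟩ := StabCover.exists_cover F htN
  obtain ⟨x, hx, hx1, hxt⟩ := F.hyp.exists_mem
  have hxN : x ∈ N0 D X P := StabCent.centralizer_le F hx hx1 hxt (mem_centralizer_singleton_iff.2 rfl)
  exact Cfsg.Agent.TwoGenNineE.Glue.false_of_cover ft Cfsg.Agent.NineCore.Base.sfStatement
    Cfsg.Agent.NineCore.Base.baseNine hz K f hf hodd htN hft (StabCent.odd_index F.hyp S hj hS) hxN
    (F.hyp.sq x hx hx1 hxt) (StabCent.centralizer_le F hx hx1 hxt)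

end Cfsg.Agent.TwoGenNine.Close
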