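import Cfsg.Agent.TwoGenNine.Core

/-!
# The last configuration of S1728: the stabiliser of the nine points

Definitions and the interface `Full` between the count (`Parity`) and the identification of the
stabiliser of the nine points.
-/

set_option autoImplicit false

open scoped Pointwise

namespace Cfsg.Agent.TwoGenNine.StabDef

open Subgroup
open Cfsg.Agent.TwoGenNine.Setup
open Cfsg.Agent.TwoGenNine.Basic
open Cfsg.Agent.TwoGenNine.Core

variable {Y : Type*} [Group Y] (D : Type*) [MulAction Y D]

/-- The nine points. -/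
def Sg (X P : Subgroup Y) : Set D := FX D X ∪ FX D P

/-- The setwise stabiliser of the nine points. -/
def N0 (X P : Subgroup Y) : Subgroup Y where
  carrier := {y | ∀ d : D, y • d ∈ Sg D X P ↔ d ∈ Sg D X P}
  one_mem' := fun d => by rw [one_smul]
  mul_mem' := fun {a b} ha hb d => by rw [mul_smul, ha, hb]
  inv_mem' := fun {a} ha d => by rw [← ha, smul_inv_smul]

variable {D}

theorem mem_N0 {X P : Subgroup Y} {y : Y} :
    y ∈ N0 D X P ↔ ∀ d : D, y • d ∈ Sg D X P ↔ d ∈ Sg D X P := Iff.rfl

/-- It suffices that `y` maps the nine points to the nine points. -/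
theorem mem_N0_of [Finite Y] {X P : Subgroup Y} {y : Y}
    (hy : ∀ d ∈ Sg D X P, y • d ∈ Sg D X P) : y ∈ N0 D X P := by
  have hpow : ∀ n : ℕ, ∀ d ∈ Sg D X P, y ^ n • d ∈ Sg D X P := by
    intro n
    induction n with
    | zero => intro d hd; rwa [pow_zero, one_smul]
    | succ n ih =>
      intro d hd
      rw [pow_succ, mul_smul]
      exact ih _ (hy d hd)
  have hinv : ∀ d ∈ Sg D X P, y⁻¹ • d ∈ Sg D X P := by
    intro d hd
    have : y⁻¹ = y ^ (orderOf y - 1) := by
      rw [← one_mul (y ^ (orderOf y - 1)), ← inv_mul_cancel y, mul_assoc, ← pow_succ',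
        Nat.sub_add_cancel (orderOf_pos y), pow_orderOf_eq_one, mul_one]
    rw [this]
    exact hpow _ d hd
  intro d
  constructor
  · intro hd
    have := hinv _ hd
    rwa [inv_smul_smul] at this
  · exact hy d

/-- The interface: `Hyp`, the common point `α`, and `C_Y(X)` fixes `Fix P ∖ α` pointwise. -/
structure Full (D : Type*) [MulAction Y D] (t : Y) (X P : Subgroup Y) (j : Y) (α : D) : Prop where
  hyp : Hyp D t X P j
  alpha : ∀ d, (d ∈ FX D X ∧ d ∈ FX D P) ↔ d = α
  triv : ∀ g : Y, (∀ x ∈ X, g * x = x * g) → ∀ d ∈ FX D P, d ≠ α → g • d = d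

namespace Full

variable {t : Y} {X P : Subgroup Y} {j : Y} {α : D} (F : Full D t X P j α)
include F

theorem symm : Full D t P X j α where
  hyp := F.hyp.symm
  alpha := hα_symm F.alpha
  triv := by
    intro g hg d hd hdα
    have h := F.hyp
    have h1 : ∀ x ∈ X, (j * g * j) * x = x * (j * g * j) := by
      intro x hx
      have h2 := hg (j * x * j) ((h.memX x).1 hx)
      calc j * g * j * x = j * g * j * x * (j * j) := by rw [h.j2, mul_one]
        _ = j * (g * (j * x * j)) * j := by group
        _ = j * ((j * x * j) * g) * j := by rw [h2]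
        _ = (j * j) * x * (j * g * j) := by group
        _ = x * (j * g * j) := by rw [h.j2, one_mul]
    have h3 := F.triv _ h1 (j • d) ((h.FXX d).1 hd) (by
      intro h0
      apply hdα
      have h4 := smul_j h F.alpha
      rw [← h.jsmul d, h0, h4])
    rw [mul_smul, mul_smul, h.jsmul] at h3
    have h4 := congrArg (fun e => j • e) h3
    simpa only [h.jsmul] using h4

end Full

end Cfsg.Agent.TwoGenNine.StabDef
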