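import Cfsg.Agent.TwoGenNine.CoreFree
import Cfsg.Agent.TwoGenNine.StabDef

/-!
# The last configuration of S1728: `Hyp` implies `Full`
-/

set_option autoImplicit false

open scoped Pointwise

namespace Cfsg.Agent.TwoGenNine.FullMain

open Subgroup
open Cfsg.Agent.TwoGenNine.Setup
open Cfsg.Agent.TwoGenNine.Basic
open Cfsg.Agent.TwoGenNine.Core
open Cfsg.Agent.TwoGenNine.Quot
open Cfsg.Agent.TwoGenNine.QuotHyp
open Cfsg.Agent.TwoGenNine.Labels
open Cfsg.Agent.TwoGenNine.StabDef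

variable {Y : Type*} [Group Y] [Finite Y] {D : Type*} [Finite D] [MulAction Y D]

theorem triv {t : Y} {X P : Subgroup Y} {j : Y} (h : Hyp D t X P j) {α : D}
    (hα : ∀ d, (d ∈ FX D X ∧ d ∈ FX D P) ↔ d = α) {g : Y} (hg : ∀ x ∈ X, g * x = x * g) {d : D}
    (hd : d ∈ FX D P) (hdα : d ≠ α) : g • d = d := by
  obtain ⟨τ, i, hQ, hCF, rfl, rfl⟩ := hyp_quot h hα
  have hXN := X_le_NO h
  have hPN := P_le_NO h
  have hPO : FX D P ⊆ FX D (Om D t X) := by
    intro e he y hy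
    rw [Om_eq h hα] at hy
    exact Om_le_KX t P hy e he
  have hα' : ∀ e : FX D (Om D t X), (e ∈ FX (FX D (Om D t X)) (bar (Om D t X) X) ∧
      e ∈ FX (FX D (Om D t X)) (bar (Om D t X) P)) ↔ e = ⟨α, hPO (alphaP hα)⟩ := by
    intro e
    rw [mem_FX_bar hXN, mem_FX_bar hPN, hα, Subtype.ext_iff]
  obtain ⟨β, p, q, a, k, A⟩ := exists_AK hQ hCF hα'
  have hgN : g ∈ NO (Om D t X) := comm_mem_NO h hg
  have h1 := CoreFree.triv A (g := QuotientGroup.mk ⟨g, hgN⟩) (by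
    intro q hq
    obtain ⟨n, hn, rfl⟩ := mem_bar.1 hq
    rw [← QuotientGroup.mk_mul, ← QuotientGroup.mk_mul]
    congr 1
    exact Subtype.ext (hg n hn)) (d := ⟨d, hPO hd⟩) ((mem_FX_bar hPN).2 hd) (fun h0 => hdα
      (congrArg Subtype.val h0))
  exact congrArg Subtype.val h1

/-- **Main theorem of the count**: `C_Y(X)` fixes `Fix P ∖ α` pointwise. -/
theorem full {t : Y} {X P : Subgroup Y} {j : Y} (h : Hyp D t X P j) : ∃ α, Full D t X P j α := by
  obtain ⟨α, hα⟩ := exists_alpha h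
  exact ⟨α, h, hα, fun g hg d hd hdα => triv h hα hg hd hdα⟩

end Cfsg.Agent.TwoGenNine.FullMain
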