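import Cfsg.Agent.TwoGenNine.SwapMain
import Cfsg.Agent.TwoGenCore.ExistsBad

/-!
# S1728: the fusion data `Fus` for `Y = C_G(t)` in a simple group `G`
-/

set_option autoImplicit false

namespace Cfsg.Agent.TwoGenNine.FusG

open Subgroup SylIn SwapMain
open Cfsg.Agent.TwoGenCore.ExistsBad (tc mem_cent exists_conj_ne)

universe u

/-- the group generated by two involutions `a`, `b` with `(ab)⁴ = 1` is a 2-group -/
theorem isPGroup_closure_pair {X : Type*} [Group X] {a b : X} (ha : a * a = 1) (hb : b * b = 1)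
    (hab : (a * b * a * b) * (a * b * a * b) = 1) : IsPGroup 2 (closure {a, b} : Subgroup X) := by
  have hz : IsPGroup 2 (zpowers (a * b)) := by
    rintro ⟨g, hg⟩
    obtain ⟨m, rfl⟩ := Subgroup.mem_zpowers_iff.1 hg
    refine ⟨2, Subtype.ext ?_⟩
    show ((a * b) ^ m) ^ (2 ^ 2) = 1
    have h4 : (a * b) ^ (4 : ℕ) = 1 := by
      rw [← hab]
      simp only [pow_succ, pow_zero, one_mul, mul_assoc]
    calc ((a * b) ^ m) ^ (2 ^ 2) = ((a * b) ^ (4 : ℕ)) ^ m := by
          rw [← zpow_natCast, ← zpow_natCast, ← zpow_mul, ← zpow_mul, mul_comm]; norm_num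
      _ = 1 := by rw [h4, one_zpow]
  have ha2 : IsPGroup 2 (zpowers a) := by
    rintro ⟨g, hg⟩
    obtain ⟨m, rfl⟩ := Subgroup.mem_zpowers_iff.1 hg
    refine ⟨1, Subtype.ext ?_⟩
    show (a ^ m) ^ (2 ^ 1) = 1
    have h4 : a ^ (2 : ℕ) = 1 := by rw [pow_two, ha]
    calc (a ^ m) ^ (2 ^ 1) = (a ^ (2 : ℕ)) ^ m := by
          rw [← zpow_natCast, ← zpow_natCast, ← zpow_mul, ← zpow_mul, mul_comm]; norm_num
      _ = 1 := by rw [h4, one_zpow]
  have hainv : a⁻¹ = a := inv_eq_of_mul_eq_one_right ha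
  have hbinv : b⁻¹ = b := inv_eq_of_mul_eq_one_right hb
  have hconj : ∀ m : ℤ, a * (a * b) ^ m * a⁻¹ = (a * b) ^ (-m) := by
    intro m
    have e1 : a * (a * b) * a⁻¹ = (a * b)⁻¹ := by
      rw [mul_inv_rev, hainv, hbinv, ← mul_assoc a a b, ha, one_mul]
    calc a * (a * b) ^ m * a⁻¹ = (a * (a * b) * a⁻¹) ^ m := (conj_zpow).symm
      _ = (a * b) ^ (-m) := by rw [e1, inv_zpow, zpow_neg]
  have hnorm : zpowers a ≤ Subgroup.normalizer ((zpowers (a * b) : Subgroup X) : Set X) := by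
    rw [Subgroup.zpowers_le, Subgroup.mem_normalizer_iff]
    intro g
    constructor
    · intro hg
      obtain ⟨m, rfl⟩ := Subgroup.mem_zpowers_iff.1 hg
      rw [hconj]
      exact Subgroup.zpow_mem _ (Subgroup.mem_zpowers _) _
    · intro hg
      obtain ⟨m, hm⟩ := Subgroup.mem_zpowers_iff.1 hg
      have h1 : g = a * (a * b) ^ m * a⁻¹ := by
        rw [hm, hainv]
        calc g = (a * a) * g * (a * a) := by rw [ha]; group
          _ = a * (a * g * a) * a := by group
      rw [h1, hconj]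
      exact Subgroup.zpow_mem _ (Subgroup.mem_zpowers _) _
  refine (IsPGroup.to_sup_of_normal_left' hz ha2 hnorm).to_le ?_
  rw [Subgroup.closure_le]
  rintro g (rfl | rfl)
  · exact (le_sup_right : zpowers g ≤ _) (Subgroup.mem_zpowers g)
  · have h1 : a * (a * g) ∈ (zpowers (a * g) ⊔ zpowers a : Subgroup X) :=
      Subgroup.mul_mem _ ((le_sup_right : zpowers a ≤ _) (Subgroup.mem_zpowers a))
        ((le_sup_left : zpowers (a * g) ≤ _) (Subgroup.mem_zpowers _))
    rwa [← mul_assoc, ha, one_mul] at h1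

/-- a 2-subgroup is conjugate into a given Sylow 2-subgroup -/
theorem exists_conj_mem {X : Type*} [Group X] [Finite X] (S : Sylow 2 X) {V : Subgroup X}
    (hV : IsPGroup 2 V) : ∃ c : X, ∀ v ∈ V, c * v * c⁻¹ ∈ S := by
  obtain ⟨Q, hQ⟩ := hV.exists_le_sylow
  obtain ⟨c, hc⟩ := MulAction.exists_smul_eq X Q S
  refine ⟨c, fun v hv => ?_⟩
  have h1 : c * v * c⁻¹ ∈ ((c • Q : Sylow 2 X) : Subgroup X) := by
    rw [Sylow.coe_subgroup_smul]
    have := Subgroup.smul_mem_pointwise_smul v (MulAut.conj c) (Q : Subgroup X) (hQ hv)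
    simpa using this
  rw [hc] at h1
  exact h1

variable {G : Type u} [Group G] [Finite G]

/-- the conjugates of `t` in `C_G(t)` -/
def conjSet (t : G) : Set (centralizer ({t} : Set G)) := {τ | ∃ g : G, g * t * g⁻¹ = (τ : G)}

theorem fus [IsSimpleGroup G] (hnc : ∃ a b : G, a * b ≠ b * a) {S : Sylow 2 G} {t : G}
    (htS : t ∈ S) (ht : orderOf t = 2) (htc : ∀ s ∈ S, Commute s t)
    (S' : Sylow 2 (centralizer ({t} : Set G))) :
    Fus (tc t) (S' : Subgroup (centralizer ({t} : Set G))) (conjSet t) := by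
  have htt : t * t = 1 := by rw [← pow_two, ← ht, pow_orderOf_eq_one]
  have ht1 : t ≠ 1 := by rintro rfl; simp at ht
  have hSY : (S : Subgroup G) ≤ Subgroup.centralizer ({t} : Set G) := fun s hs => mem_cent (htc s hs)
  refine ⟨?_, ?_, ?_⟩
  · rintro τ ⟨g, hg⟩
    constructor
    · apply Subtype.ext
      show (τ : G) * τ = 1
      rw [← hg]
      calc g * t * g⁻¹ * (g * t * g⁻¹) = g * (t * t) * g⁻¹ := by group
        _ = 1 := by rw [htt]; group
    · rintro rfl
      apply ht1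
      have h1 : g * t * g⁻¹ = 1 := hg
      calc t = g⁻¹ * (g * t * g⁻¹) * g := by group
        _ = 1 := by rw [h1]; group
  · obtain ⟨g, hgS, hgt⟩ := exists_conj_ne hnc S htS ht
    obtain ⟨c, hc⟩ := exists_conj_mem S' (S.subtype hSY).2
    have h1 := hc ⟨g * t * g⁻¹, hSY hgS⟩ (by
      show (⟨g * t * g⁻¹, hSY hgS⟩ : centralizer ({t} : Set G)) ∈ (S : Subgroup G).subgroupOf _
      exact hgS)
    refine ⟨_, ⟨(c : G) * g, ?_⟩, h1, ?_⟩
    · show (c : G) * g * t * ((c : G) * g)⁻¹ = (c : G) * (g * t * g⁻¹) * (c : G)⁻¹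
      group
    · intro h2
      apply hgt
      have h3 : (c : G) * (g * t * g⁻¹) * (c : G)⁻¹ = t := congrArg Subtype.val h2
      have hct : (c : G) * t = t * c := Subgroup.mem_centralizer_singleton_iff.mp c.2
      calc g * t * g⁻¹ = (c : G)⁻¹ * ((c : G) * (g * t * g⁻¹) * (c : G)⁻¹) * c := by group
        _ = (c : G)⁻¹ * (t * c) := by rw [h3]; group
        _ = t := by rw [← hct]; group
  · rintro τ ⟨g, hg⟩ hτt a b ha hb haτ hbτ hab
    have haτ' : (a : G) * τ = τ * a := congrArg Subtype.val haτ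
    have hbτ' : (b : G) * τ = τ * b := congrArg Subtype.val hbτ
    have ha' : (a : G) * a = 1 := congrArg Subtype.val ha
    have hb' : (b : G) * b = 1 := congrArg Subtype.val hb
    have hab' : (a : G) * b * a * b = t := congrArg Subtype.val hab
    have hmem : ∀ v : G, v * τ = τ * v → g⁻¹ * v * g ∈ centralizer ({t} : Set G) := by
      intro v hv
      rw [Subgroup.mem_centralizer_singleton_iff]
      have e : g⁻¹ * (τ : G) * g = t := by rw [← hg]; group
      calc g⁻¹ * v * g * t = g⁻¹ * v * g * (g⁻¹ * (τ : G) * g) := by rw [e]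
        _ = g⁻¹ * (v * τ) * g := by group
        _ = g⁻¹ * (τ * v) * g := by rw [hv]
        _ = (g⁻¹ * (τ : G) * g) * (g⁻¹ * v * g) := by group
        _ = t * (g⁻¹ * v * g) := by rw [e]
    let a1 : centralizer ({t} : Set G) := ⟨g⁻¹ * a * g, hmem a haτ'⟩
    let b1 : centralizer ({t} : Set G) := ⟨g⁻¹ * b * g, hmem b hbτ'⟩
    have ha1 : a1 * a1 = 1 := by
      apply Subtype.ext
      show g⁻¹ * a * g * (g⁻¹ * a * g) = 1
      calc g⁻¹ * a * g * (g⁻¹ * a * g) = g⁻¹ * (a * a) * g := by group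
        _ = 1 := by rw [ha']; group
    have hb1 : b1 * b1 = 1 := by
      apply Subtype.ext
      show g⁻¹ * b * g * (g⁻¹ * b * g) = 1
      calc g⁻¹ * b * g * (g⁻¹ * b * g) = g⁻¹ * (b * b) * g := by group
        _ = 1 := by rw [hb']; group
    have hab1 : ((a1 * b1 * a1 * b1 : centralizer ({t} : Set G)) : G) = g⁻¹ * t * g := by
      show g⁻¹ * a * g * (g⁻¹ * b * g) * (g⁻¹ * a * g) * (g⁻¹ * b * g) = g⁻¹ * t * g
      calc g⁻¹ * a * g * (g⁻¹ * b * g) * (g⁻¹ * a * g) * (g⁻¹ * b * g)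
          = g⁻¹ * (a * b * a * b) * g := by group
        _ = g⁻¹ * t * g := by rw [hab']
    have hab2 : (a1 * b1 * a1 * b1) * (a1 * b1 * a1 * b1) = 1 := by
      apply Subtype.ext
      rw [Subgroup.coe_mul, hab1]
      show g⁻¹ * t * g * (g⁻¹ * t * g) = 1
      calc g⁻¹ * t * g * (g⁻¹ * t * g) = g⁻¹ * (t * t) * g := by group
        _ = 1 := by rw [htt]; group
    obtain ⟨c, hc⟩ := exists_conj_mem S' (isPGroup_closure_pair ha1 hb1 hab2)
    have hcomm : ∀ z : centralizer ({t} : Set G), (z : G) * t = t * z := fun z =>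
      Subgroup.mem_centralizer_singleton_iff.mp z.2
    have hprod : c * a1 * c⁻¹ * (c * b1 * c⁻¹) * (c * a1 * c⁻¹) * (c * b1 * c⁻¹)
        = c * (a1 * b1 * a1 * b1) * c⁻¹ := by group
    have key : ∀ z : centralizer ({t} : Set G), (z : G) * t = t * z → 
        c * (a1 * b1 * a1 * b1) * c⁻¹ = z → g⁻¹ * t * g = (c : G)⁻¹ * z * c := by
      intro z _ h2
      have h3 : (c : G) * (g⁻¹ * t * g) * (c : G)⁻¹ = z := by
        rw [← h2, ← hab1]; rfl
      rw [← h3]; group
    refine ⟨_, hc a1 (Subgroup.subset_closure (by simp)), _,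
      hc b1 (Subgroup.subset_closure (by simp)), ?_, ?_, ?_, ?_, ?_⟩
    · calc c * a1 * c⁻¹ * (c * a1 * c⁻¹) = c * (a1 * a1) * c⁻¹ := by group
        _ = 1 := by rw [ha1]; group
    · calc c * b1 * c⁻¹ * (c * b1 * c⁻¹) = c * (b1 * b1) * c⁻¹ := by group
        _ = 1 := by rw [hb1]; group
    · rw [hprod]
      calc c * (a1 * b1 * a1 * b1) * c⁻¹ * (c * (a1 * b1 * a1 * b1) * c⁻¹)
          = c * ((a1 * b1 * a1 * b1) * (a1 * b1 * a1 * b1)) * c⁻¹ := by group
        _ = 1 := by rw [hab2]; group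
    · rw [hprod]
      intro h2
      have h3 := key 1 (hcomm 1) h2
      apply ht1
      have h4 : g⁻¹ * t * g = 1 := by rw [h3]; simp
      calc t = g * (g⁻¹ * t * g) * g⁻¹ := by group
        _ = 1 := by rw [h4]; group
    · rw [hprod]
      intro h2
      have h3 := key (tc t) (hcomm (tc t)) h2
      apply hτt
      have h4 : g⁻¹ * t * g = t := by
        rw [h3]
        show (c : G)⁻¹ * t * c = t
        have := hcomm c
        calc (c : G)⁻¹ * t * c = (c : G)⁻¹ * (t * c) := by group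
          _ = t := by rw [← this]; group
      apply Subtype.ext
      show (τ : G) = t
      rw [← hg]
      nth_rewrite 1 [← h4]
      group

end Cfsg.Agent.TwoGenNine.FusG
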