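import Mathlib
import Cfsg.Agent.TwoGenNine.FiveBasic
import Cfsg.Agent.TwoGenNine.RawFive

/-!
# The interface between the two halves of `RawFive → Five` (S1728)

`RawImg t f w O K` : the five fixed points of `w` are labelled by `f`; `O` is an odd normal
subgroup of `C(w)` (also normalised by what inverts `w`), `K` (the commutator subgroup of the group
generated by the involutions of `C(w)`) induces the alternating group on the five points, and an
element of square `t` that inverts `w` and fixes the five points acts trivially on `K` modulo `O`.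
-/

set_option autoImplicit false

namespace Cfsg.Agent.TwoGenNine.RawFive

open Subgroup FiveLabel FiveAct
open Cfsg.Agent.TwoGenCore.W2Base (Inv Base Bad BadInv NonIso)

structure RawImg {Y : Type*} [Group Y] {D : Type*} [MulAction Y D] (t : Y) (f : Fin 5 → D) (w : Y)
    (O K : Subgroup Y) : Prop where
  inj : Function.Injective f
  fix : ∀ a, w • a = a ↔ ∃ i, f i = a
  sq : w * w = t
  bad : BadInv D t w
  ni : NonIso t w
  odd : Odd (Nat.card O)
  norm : ∀ g, (g * w * g⁻¹ = w ∨ g * w * g⁻¹ = w⁻¹) → ∀ o ∈ O, g * o * g⁻¹ ∈ O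
  cw : ∀ o ∈ O, o * w = w * o
  tr : O ≤ Kf f
  Kc : ∀ k ∈ K, k * w = w * k
  img : ∀ σ ∈ alternatingGroup (Fin 5), ∃ k ∈ K, Acts f k σ
  inv : ∀ i, Inv t i → i * w = w * i → ∃ k ∈ K, ∃ o ∈ O, ∃ e : ℤ, i = k * o * w ^ e
  act : ∀ v, v * v = t → v * w * v⁻¹ = w⁻¹ → v ∈ (Kf f : Subgroup Y) →
    ∀ k ∈ K, ∃ o ∈ O, v * k * v⁻¹ = o * k

end Cfsg.Agent.TwoGenNine.RawFive
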