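import Mathlib
import Cfsg.Agent.TwoGenNine.FiveLabel

/-!
# Permutations of five points (for S1728, `RawImg`)

`alt_le_of` : a subgroup of the symmetric group on five points containing the normal four-groups of
two point stabilisers contains the alternating group.
-/

set_option autoImplicit false

namespace Cfsg.Agent.TwoGenNine.RawFive

open Subgroup Equiv FiveLabel

set_option maxRecDepth 100000 in
theorem three_aux : ∀ ρ : P5, ρ 0 ≠ 0 → ∃ σ ∈ [a5, b5, c5], ∃ τ ∈ [a5, b5, c5],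
    (σ * (ρ * τ * ρ⁻¹)) ^ 3 = 1 ∧ σ * (ρ * τ * ρ⁻¹) ≠ 1 := by decide

set_option maxRecDepth 100000 in
theorem five_aux : ∀ ρ : P5, ρ 0 ≠ 0 → ∃ σ ∈ [a5, b5, c5], ∃ τ ∈ [a5, b5, c5],
    (σ * (ρ * τ * ρ⁻¹)) ^ 5 = 1 ∧ σ * (ρ * τ * ρ⁻¹) ≠ 1 := by decide

set_option maxRecDepth 100000 in
theorem sign_aux : ∀ σ : P5, σ * σ = 1 → ∀ j, σ j = j → (∀ i, σ i = i → i = j) →
    Perm.sign σ = 1 := by decide

theorem mem_V5_of_list {σ : P5} (h : σ ∈ [a5, b5, c5]) : σ ∈ V5 := by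
  simp only [List.mem_cons, List.not_mem_nil, or_false] at h
  exact Or.inr h

theorem card_V5 : Nat.card V5 = 4 := by
  have h : ((V5 : Subgroup P5) : Set P5) = (({1, a5, b5, c5} : Finset P5) : Set P5) := by
    ext σ
    simp only [SetLike.mem_coe, mem_V5, Finset.coe_insert, Finset.coe_singleton,
      Set.mem_insert_iff, Set.mem_singleton_iff]
  have h2 : Nat.card V5 = Nat.card ((({1, a5, b5, c5} : Finset P5) : Set P5)) := by
    rw [← h]; rfl
  rw [h2, Nat.card_coe_set_eq, Set.ncard_coe_finset]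
  decide

/-- a subgroup containing the normal four-groups of two point stabilisers contains the alternating
group -/
theorem alt_le_of {H : Subgroup P5} {ρ : P5} (h0 : ρ 0 ≠ 0) (h1 : ∀ σ ∈ V5, σ ∈ H)
    (h2 : ∀ σ ∈ V5, ρ * σ * ρ⁻¹ ∈ H) : alternatingGroup (Fin 5) ≤ H := by
  apply Equiv.Perm.alternatingGroup_le_of_index_le_two
  have key : ∀ p : ℕ, p.Prime → (∃ σ ∈ [a5, b5, c5], ∃ τ ∈ [a5, b5, c5],
      (σ * (ρ * τ * ρ⁻¹)) ^ p = 1 ∧ σ * (ρ * τ * ρ⁻¹) ≠ 1) → p ∣ Nat.card H := by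
    rintro p hp ⟨σ, hσ, τ, hτ, h3, h4⟩
    haveI := Fact.mk hp
    have ho : orderOf (σ * (ρ * τ * ρ⁻¹)) = p := orderOf_eq_prime h3 h4
    have hm : σ * (ρ * τ * ρ⁻¹) ∈ H :=
      H.mul_mem (h1 _ (mem_V5_of_list hσ)) (h2 _ (mem_V5_of_list hτ))
    have h5 := orderOf_dvd_natCard (⟨_, hm⟩ : H)
    rwa [Subgroup.orderOf_mk, ho] at h5
  have d3 := key 3 (by norm_num) (three_aux ρ h0)
  have d5 := key 5 (by norm_num) (five_aux ρ h0)
  have d4 : 4 ∣ Nat.card H := by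
    rw [← card_V5]
    exact Subgroup.card_dvd_of_le h1
  have d60 : 60 ∣ Nat.card H := by
    have h12 : 12 ∣ Nat.card H := by
      have := Nat.Coprime.mul_dvd_of_dvd_of_dvd (by norm_num : Nat.Coprime 3 4) d3 d4
      simpa using this
    have := Nat.Coprime.mul_dvd_of_dvd_of_dvd (by norm_num : Nat.Coprime 12 5) h12 d5
    simpa using this
  have hmul := H.card_mul_index
  have hcard : Nat.card P5 = 120 := by
    rw [Nat.card_eq_fintype_card, Fintype.card_perm]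
    rfl
  rw [hcard] at hmul
  obtain ⟨m, hm⟩ := d60
  rw [hm] at hmul
  have hm0 : m * H.index = 2 := by nlinarith
  exact Nat.le_of_dvd (by norm_num) ⟨m, by rw [← hm0]; ring⟩

/-- every element of `V5` is a commutator of even permutations -/
theorem V5_commutator {σ : P5} (h : σ ∈ V5) : ∃ α ∈ alternatingGroup (Fin 5),
    ∃ β ∈ alternatingGroup (Fin 5), α * β * α⁻¹ * β⁻¹ = σ := by
  by_cases h1 : σ = 1
  · exact ⟨1, Subgroup.one_mem _, 1, Subgroup.one_mem _, by rw [h1]; simp⟩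
  obtain ⟨τ, hτ, hτ1, hτσ⟩ := exists_other h h1
  have hne : σ * τ ≠ 1 := by
    intro h2
    apply hτσ
    have h3 : τ = σ⁻¹ := (inv_eq_of_mul_eq_one_right h2).symm
    rw [h3, inv_eq_iff_mul_eq_one]
    exact V5_sq h
  obtain ⟨α, hα, -, hατ⟩ := exists_conj_V5 hτ hτ1 (V5.mul_mem h hτ) hne
  refine ⟨α, hα, τ, V5_even hτ, ?_⟩
  rw [hατ]
  group

end Cfsg.Agent.TwoGenNine.RawFive
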