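import Mathlib
import Cfsg.Agent.TwoGenNine.RawImgDef
import Cfsg.Agent.TwoGenNine.RawImgPerm

/-!
# From the output of section 5A to `RawImg` (S1728)

`RawFive.rawImg` : the group generated by the involutions of `C(w)` induces the alternating group
on the five fixed points of `w`, and so does its commutator subgroup `K`; every involution of
`C(w)` lies in `K O ⟨w⟩`; an element of square `t` inverting `w` and fixing the five points
centralises `K` modulo `O`.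
`RawImg.alt` : for such an element `v` every even permutation of the five points is induced by an
element of `C(w) ∩ C(v)`.
-/

set_option autoImplicit false

namespace Cfsg.Agent.TwoGenNine.RawFive

open Subgroup Equiv FiveLabel FiveAct FiveBasic
open scoped commutatorElement
open Cfsg.Agent.TwoGenCore.W2Base (Inv Base Bad BadInv NonIso)

variable {Y : Type*} [Group Y] {D : Type*} [MulAction Y D]

/-! ## The group of permutations induced by a subgroup -/

/-- the permutations of the labels induced by the elements of `M` -/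
def Img (f : Fin 5 → D) (M : Subgroup Y) : Subgroup P5 where
  carrier := {σ | ∃ m ∈ M, Acts f m σ}
  one_mem' := ⟨1, M.one_mem, Acts.one f⟩
  mul_mem' := by
    rintro a b ⟨x, hx, hxa⟩ ⟨y, hy, hyb⟩
    exact ⟨x * y, M.mul_mem hx hy, hxa.mul hyb⟩
  inv_mem' := by
    rintro a ⟨x, hx, hxa⟩
    exact ⟨x⁻¹, M.inv_mem hx, hxa.inv⟩

theorem mem_Img {f : Fin 5 → D} {M : Subgroup Y} {σ : P5} :
    σ ∈ Img f M ↔ ∃ m ∈ M, Acts f m σ := Iff.rfl

/-- the commutator subgroup still induces the alternating group -/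
theorem alt_le_Img_commutator {f : Fin 5 → D} {M : Subgroup Y}
    (h : alternatingGroup (Fin 5) ≤ Img f M) : alternatingGroup (Fin 5) ≤ Img f ⁅M, M⁆ := by
  have key : ∀ α ∈ alternatingGroup (Fin 5), ∀ β ∈ alternatingGroup (Fin 5),
      α * β * α⁻¹ * β⁻¹ ∈ Img f ⁅M, M⁆ := by
    intro α hα β hβ
    obtain ⟨m, hm, hma⟩ := h hα
    obtain ⟨n, hn, hnb⟩ := h hβ
    exact ⟨⁅m, n⁆, Subgroup.commutator_mem_commutator hm hn,
      ((hma.mul hnb).mul hma.inv).mul hnb.inv⟩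
  have hn : (alternatingGroup (Fin 5)).Normal := inferInstance
  refine alt_le_of (ρ := swap 0 1) (by decide) ?_ ?_
  · intro σ hσ
    obtain ⟨α, hα, β, hβ, rfl⟩ := V5_commutator hσ
    exact key α hα β hβ
  · intro σ hσ
    obtain ⟨α, hα, β, hβ, rfl⟩ := V5_commutator hσ
    have := key _ (hn.conj_mem α hα (swap 0 1)) _ (hn.conj_mem β hβ (swap 0 1))
    convert this using 1
    group

/-! ## The group generated by the involutions of `C(w)` -/

theorem invGen_comm {t w m : Y} (hm : m ∈ invGen t w) : m * w = w * m := by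
  refine Subgroup.closure_induction (p := fun m _ => m * w = w * m) ?_ ?_ ?_ ?_ hm
  · rintro x ⟨-, h⟩; exact h
  · simp
  · intro x y _ _ hx hy
    rw [mul_assoc, hy, ← mul_assoc, hx, mul_assoc]
  · intro x _ hx
    rw [inv_mul_eq_iff_eq_mul, ← mul_assoc, hx, mul_assoc, mul_inv_cancel, mul_one]

theorem conj_comm {g w x : Y} (hg : g * w * g⁻¹ = w ∨ g * w * g⁻¹ = w⁻¹) (hx : x * w = w * x) :
    g * x * g⁻¹ * w = w * (g * x * g⁻¹) := by
  rcases hg with h | h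
  · calc g * x * g⁻¹ * w = g * x * g⁻¹ * (g * w * g⁻¹) := by rw [h]
      _ = g * (x * w) * g⁻¹ := by group
      _ = g * (w * x) * g⁻¹ := by rw [hx]
      _ = (g * w * g⁻¹) * (g * x * g⁻¹) := by group
      _ = w * (g * x * g⁻¹) := by rw [h]
  · have h' : (g * w * g⁻¹)⁻¹ = w := by rw [h, inv_inv]
    have hx' : x * w⁻¹ = w⁻¹ * x := by
      rw [mul_inv_eq_iff_eq_mul, mul_assoc, hx, inv_mul_cancel_left]
    calc g * x * g⁻¹ * w = g * x * g⁻¹ * (g * w * g⁻¹)⁻¹ := by rw [h']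
      _ = g * (x * w⁻¹) * g⁻¹ := by group
      _ = g * (w⁻¹ * x) * g⁻¹ := by rw [hx']
      _ = (g * w * g⁻¹)⁻¹ * (g * x * g⁻¹) := by group
      _ = w * (g * x * g⁻¹) := by rw [h']

theorem invGen_conj {t w g m : Y} (ht : ∀ g : Y, g * t = t * g)
    (hg : g * w * g⁻¹ = w ∨ g * w * g⁻¹ = w⁻¹) (hm : m ∈ invGen t w) :
    g * m * g⁻¹ ∈ invGen t w := by
  refine Subgroup.closure_induction (p := fun m _ => g * m * g⁻¹ ∈ invGen t w) ?_ ?_ ?_ ?_ hm
  · rintro x ⟨hx, hxw⟩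
    exact Subgroup.subset_closure ⟨hx.conj ht g, conj_comm hg hxw⟩
  · rw [mul_one, mul_inv_cancel]; exact Subgroup.one_mem _
  · intro x y _ _ hx hy
    have := Subgroup.mul_mem _ hx hy
    convert this using 1
    group
  · intro x _ hx
    have := Subgroup.inv_mem _ hx
    convert this using 1
    group

theorem commutator_le_self' (M : Subgroup Y) : ⁅M, M⁆ ≤ M := by
  rw [Subgroup.commutator_le]
  intro a ha b hb
  rw [commutatorElement_def]
  exact M.mul_mem (M.mul_mem (M.mul_mem ha hb) (M.inv_mem ha)) (M.inv_mem hb)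

/-! ## Elements acting trivially modulo `O ⟨w⟩` act trivially modulo `O` on commutators -/

theorem commutator_cancel {p q z z' : Y} (h1 : z * q = q * z) (h2 : z * z' = z' * z)
    (h3 : z' * p = p * z') :
    (p * z) * (q * z') * (p * z)⁻¹ * (q * z')⁻¹ = p * q * p⁻¹ * q⁻¹ := by
  have h3' : z' * p⁻¹ = p⁻¹ * z' := by
    rw [mul_inv_eq_iff_eq_mul, mul_assoc, h3, inv_mul_cancel_left]
  calc (p * z) * (q * z') * (p * z)⁻¹ * (q * z')⁻¹
      = p * (z * q) * z' * z⁻¹ * p⁻¹ * z'⁻¹ * q⁻¹ := by group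
    _ = p * q * (z * z') * z⁻¹ * p⁻¹ * z'⁻¹ * q⁻¹ := by rw [h1]; group
    _ = p * q * (z' * z) * z⁻¹ * p⁻¹ * z'⁻¹ * q⁻¹ := by rw [h2]
    _ = p * q * (z' * p⁻¹) * z'⁻¹ * q⁻¹ := by group
    _ = p * q * (p⁻¹ * z') * z'⁻¹ * q⁻¹ := by rw [h3']
    _ = p * q * p⁻¹ * q⁻¹ := by group

theorem comm_of_comm_zpow {w x : Y} (h : x * w = w * x) (k : ℤ) : w ^ k * x = x * w ^ k :=
  ((Commute.zpow_right h k).symm : Commute (w ^ k) x)

/-- the core of the argument for the field `act` of `RawImg` -/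
theorem act_core {v w : Y} {O M : Subgroup Y}
    (hO : ∀ g : Y, g * w = w * g → ∀ o ∈ O, g * o * g⁻¹ ∈ O)
    (hOw : ∀ o ∈ O, o * w = w * o) (hM : ∀ m ∈ M, m * w = w * m)
    (h : ∀ m ∈ M, ∃ o ∈ O, ∃ k : ℤ, v * m * v⁻¹ * m⁻¹ = o * w ^ k) :
    ∀ k ∈ ⁅M, M⁆, ∃ o ∈ O, v * k * v⁻¹ = o * k := by
  intro k hk
  rw [Subgroup.commutator_def] at hk
  have comm_mul : ∀ {x y : Y}, x * w = w * x → y * w = w * y → x * y * w = w * (x * y) := by
    intro x y hx hy
    rw [mul_assoc, hy, ← mul_assoc, hx, mul_assoc]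
  have comm_inv : ∀ {x : Y}, x * w = w * x → x⁻¹ * w = w * x⁻¹ := by
    intro x hx
    rw [inv_mul_eq_iff_eq_mul, ← mul_assoc, hx, mul_assoc, mul_inv_cancel, mul_one]
  suffices hs : k * w = w * k ∧ ∃ o ∈ O, v * k * v⁻¹ = o * k from hs.2
  refine Subgroup.closure_induction
    (p := fun k _ => k * w = w * k ∧ ∃ o ∈ O, v * k * v⁻¹ = o * k) ?_ ?_ ?_ ?_ hk
  · rintro x ⟨m, hm, n, hn, rfl⟩
    have hmw := hM m hm
    have hnw := hM n hn
    rw [commutatorElement_def]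
    refine ⟨comm_mul (comm_mul (comm_mul hmw hnw) (comm_inv hmw)) (comm_inv hnw), ?_⟩
    obtain ⟨o, ho, k, hk⟩ := h m hm
    obtain ⟨o', ho', k', hk'⟩ := h n hn
    have e1 : v * m * v⁻¹ = o * m * w ^ k := by
      rw [mul_inv_eq_iff_eq_mul] at hk
      rw [hk, mul_assoc, comm_of_comm_zpow hmw k, mul_assoc]
    have e2 : v * n * v⁻¹ = o' * n * w ^ k' := by
      rw [mul_inv_eq_iff_eq_mul] at hk'
      rw [hk', mul_assoc, comm_of_comm_zpow hnw k', mul_assoc]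
    have hxw : m * n * m⁻¹ * w = w * (m * n * m⁻¹) :=
      comm_mul (comm_mul hmw hnw) (comm_inv hmw)
    have hcw : m * n * m⁻¹ * n⁻¹ * w = w * (m * n * m⁻¹ * n⁻¹) :=
      comm_mul hxw (comm_inv hnw)
    refine ⟨o * (m * o' * m⁻¹) * ((m * n * m⁻¹) * o⁻¹ * (m * n * m⁻¹)⁻¹) *
      ((m * n * m⁻¹ * n⁻¹) * o'⁻¹ * (m * n * m⁻¹ * n⁻¹)⁻¹), ?_, ?_⟩
    · exact O.mul_mem (O.mul_mem (O.mul_mem ho (hO m hmw o' ho'))
        (hO _ hxw _ (O.inv_mem ho))) (hO _ hcw _ (O.inv_mem ho'))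
    · calc v * (m * n * m⁻¹ * n⁻¹) * v⁻¹
          = (v * m * v⁻¹) * (v * n * v⁻¹) * (v * m * v⁻¹)⁻¹ * (v * n * v⁻¹)⁻¹ := by group
        _ = (o * m * w ^ k) * (o' * n * w ^ k') * (o * m * w ^ k)⁻¹ * (o' * n * w ^ k')⁻¹ := by
          rw [e1, e2]
        _ = (o * m) * (o' * n) * (o * m)⁻¹ * (o' * n)⁻¹ := by
          apply commutator_cancel
          · exact comm_of_comm_zpow (comm_mul (hOw o' ho') hnw) k
          · rw [← zpow_add, ← zpow_add, add_comm]
          · exact comm_of_comm_zpow (comm_mul (hOw o ho) hmw) k'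
        _ = _ := by group
  · exact ⟨by simp, 1, O.one_mem, by simp⟩
  · rintro x y _ _ ⟨hxw, o, ho, hx⟩ ⟨hyw, o', ho', hy⟩
    refine ⟨comm_mul hxw hyw, o * (x * o' * x⁻¹), O.mul_mem ho (hO x hxw o' ho'), ?_⟩
    calc v * (x * y) * v⁻¹ = (v * x * v⁻¹) * (v * y * v⁻¹) := by group
      _ = o * x * (o' * y) := by rw [hx, hy]
      _ = _ := by group
  · rintro x _ ⟨hxw, o, ho, hx⟩
    refine ⟨comm_inv hxw, x⁻¹ * o⁻¹ * (x⁻¹)⁻¹, hO _ (comm_inv hxw) _ (O.inv_mem ho), ?_⟩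
    calc v * x⁻¹ * v⁻¹ = (v * x * v⁻¹)⁻¹ := by group
      _ = (o * x)⁻¹ := by rw [hx]
      _ = _ := by group

/-! ## The two commuting involutions act differently -/

theorem odd_aux {O : Subgroup Y} (hodd : Odd (Nat.card O)) {o : Y} (ho : o ∈ O)
    (h8 : o ^ 8 = 1) : o = 1 := by
  have h1 : orderOf o ∣ Nat.card O := by
    have := orderOf_dvd_natCard (⟨o, ho⟩ : O)
    rwa [Subgroup.orderOf_mk] at this
  have h2 : orderOf o ∣ 8 := orderOf_dvd_of_pow_eq_one h8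
  have h3 : Nat.Coprime (Nat.card O) 8 := by
    have : Nat.Coprime (Nat.card O) (2 ^ 3) :=
      Nat.Coprime.pow_right 3 (Nat.coprime_two_right.2 hodd)
    simpa using this
  have h4 : orderOf o ∣ 1 := by
    rw [← Nat.Coprime.gcd_eq_one h3]
    exact Nat.dvd_gcd h1 h2
  exact orderOf_eq_one_iff.1 (Nat.dvd_one.1 h4)

theorem not_prod_mem {t w g g' : Y} (hne : t ≠ 1) (ht : t * t = 1) (hw : w * w = t)
    {O : Subgroup Y} (hodd : Odd (Nat.card O)) (hOw : ∀ o ∈ O, o * w = w * o)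
    (hg : Inv t g) (hg' : Inv t g') (hgw : g * w = w * g)
    (hcomm : g * g' * g⁻¹ * g'⁻¹ ∈ Subgroup.zpowers w) (h1 : g' ≠ g) (h2 : g' ≠ g * t) :
    ¬ ∃ o ∈ O, ∃ k : ℤ, g * g' = o * w ^ k := by
  rintro ⟨o, ho, k, hk⟩
  have hw4 : w ^ (4 : ℤ) = 1 := by
    have : w ^ (4 : ℤ) = (w * w) * (w * w) := by
      rw [show (4 : ℤ) = 1 + 1 + 1 + 1 by norm_num, zpow_add, zpow_add, zpow_add, zpow_one]
      group
    rw [this, hw, ht]
  rw [hg.inv_eq, hg'.inv_eq] at hcomm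
  obtain ⟨j, hj⟩ := Subgroup.mem_zpowers_iff.1 hcomm
  have e1 : g * g' * g * g' = (o * w ^ k) * (o * w ^ k) := by rw [← hk]; group
  have hc : Commute o w := hOw o ho
  have e2 : (o * w ^ k) * (o * w ^ k) = o * o * w ^ (2 * k) := by
    have h3 : w ^ k * o = o * w ^ k := comm_of_comm_zpow (hOw o ho) k
    calc (o * w ^ k) * (o * w ^ k) = o * (w ^ k * o) * w ^ k := by group
      _ = o * (o * w ^ k) * w ^ k := by rw [h3]
      _ = o * o * (w ^ k * w ^ k) := by group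
      _ = o * o * w ^ (2 * k) := by rw [← zpow_add, two_mul]
  have e3 : o * o = w ^ (j - 2 * k) := by
    rw [zpow_sub, eq_mul_inv_iff_mul_eq, ← e2, ← e1, hj]
  have e4 : o ^ 8 = 1 := by
    calc o ^ 8 = (o * o) ^ 4 := by rw [← pow_two, ← pow_mul]
      _ = (w ^ (j - 2 * k)) ^ (4 : ℤ) := by rw [e3]; norm_cast
      _ = (w ^ (4 : ℤ)) ^ (j - 2 * k) := by rw [← zpow_mul, ← zpow_mul, mul_comm]
      _ = 1 := by rw [hw4, one_zpow]
  have ho1 := odd_aux hodd ho e4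
  rw [ho1, one_mul] at hk
  have e5 : g' = g * w ^ k := by
    rw [← hk, ← mul_assoc, hg.1, one_mul]
  have e6 : g * w ^ k * (g * w ^ k) = w ^ (2 * k) := by
    have h3 : w ^ k * g = g * w ^ k := comm_of_comm_zpow hgw k
    calc g * w ^ k * (g * w ^ k) = g * (w ^ k * g) * w ^ k := by group
      _ = (g * g) * (w ^ k * w ^ k) := by rw [h3]; group
      _ = w ^ (2 * k) := by rw [hg.1, one_mul, ← zpow_add, two_mul]
  have e7 : w ^ (2 * k) = 1 := by
    rw [← e6, ← e5, hg'.1]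
  rcases Int.even_or_odd' k with ⟨l, rfl | rfl⟩
  · -- `w ^ k` is a power of `t`
    have e8 : w ^ (2 * l) = t ^ l := by rw [zpow_mul, zpow_two, hw]
    rcases Int.even_or_odd' l with ⟨r, rfl | rfl⟩
    · have : t ^ (2 * r) = 1 := by rw [zpow_mul, zpow_two, ht, one_zpow]
      rw [e8, this, mul_one] at e5
      exact h1 e5
    · have : t ^ (2 * r + 1) = t := by
        rw [zpow_add, zpow_mul, zpow_two, ht, one_zpow, one_mul, zpow_one]
      rw [e8, this] at e5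
      exact h2 e5
  · apply hne
    rw [zpow_mul, zpow_two, hw, zpow_add, zpow_mul, zpow_two, ht, one_zpow, one_mul,
      zpow_one] at e7
    exact e7

/-! ## The main theorems -/

/-- steps (1), (2), (3) of `RawFive → Five` -/
theorem RawFive.rawImg [Finite Y] {t w : Y} (hC : Cen D t) (h : RawFive D t w) :
    ∃ (f : Fin 5 → D) (O K : Subgroup Y), RawImg t f w O K := by
  classical
  obtain ⟨O, hodd, hnorm, hOw, htr, hcore⟩ := h.core
  have hsq := h.bad.1.1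
  obtain ⟨g1, g2, hg1, hg2, hg1w, hg2w, hcomm, hne, hnet⟩ := h.ni
  -- the common fixed point
  obtain ⟨a0, ha0, hu0⟩ := hC.one g1 hg1.1 hg1.2.1 hg1.2.2
  have ha0' : g1 • a0 = a0 := ha0
  have ha0w : w • a0 = a0 := by
    apply hu0
    show g1 • w • a0 = w • a0
    rw [smul_smul, hg1w, ← smul_smul, ha0']
  have ha02 : g2 • a0 = a0 := by
    apply hu0
    show g1 • g2 • a0 = g2 • a0
    obtain ⟨k, hk⟩ := Subgroup.mem_zpowers_iff.1 hcomm
    have e1 : g1 * g2 = w ^ k * (g2 * g1) := by rw [hk]; group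
    have e2 : w • g2 • a0 = g2 • a0 := by rw [smul_smul, ← hg2w, ← smul_smul, ha0w]
    have e3 : ∀ k : ℤ, w ^ k • g2 • a0 = g2 • a0 := fun k =>
      (MulAction.stabilizer Y (g2 • a0)).zpow_mem (x := w) e2 k
    rw [smul_smul, e1, ← smul_smul, ← smul_smul, ha0', e3]
  -- the labelling
  haveI : Finite {a : D // w • a = a} := Nat.finite_of_card_ne_zero (by rw [h.card]; norm_num)
  let e : {a : D // w • a = a} ≃ Fin 5 := Finite.equivFinOfCardEq h.card
  let f : Fin 5 → D := fun i => (e.symm (swap 0 (e ⟨a0, ha0w⟩) i)).1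
  have hf0 : f 0 = a0 := by
    show (e.symm (swap 0 (e ⟨a0, ha0w⟩) 0)).1 = a0
    rw [swap_apply_left, e.symm_apply_apply]
  have hinj : Function.Injective f := by
    intro i j hij
    have h1 : e.symm (swap 0 (e ⟨a0, ha0w⟩) i) = e.symm (swap 0 (e ⟨a0, ha0w⟩) j) :=
      Subtype.ext hij
    exact (swap 0 (e ⟨a0, ha0w⟩)).injective (e.symm.injective h1)
  have hfix' : ∀ i, w • f i = f i := fun i => (e.symm (swap 0 (e ⟨a0, ha0w⟩) i)).2
  have hfix : ∀ a, w • a = a ↔ ∃ i, f i = a := by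
    intro a
    constructor
    · intro ha
      refine ⟨(swap 0 (e ⟨a0, ha0w⟩)).symm (e ⟨a, ha⟩), ?_⟩
      show (e.symm (swap 0 (e ⟨a0, ha0w⟩) ((swap 0 (e ⟨a0, ha0w⟩)).symm (e ⟨a, ha⟩)))).1 = a
      rw [Equiv.apply_symm_apply, e.symm_apply_apply]
    · rintro ⟨i, rfl⟩
      exact hfix' i
  have hM : ∀ g : Y, g * w = w * g → g ∈ (Mf f : Subgroup Y) := by
    intro g hg
    refine mem_Mf_of hinj ?_
    intro i
    obtain ⟨j, hj⟩ := (hfix (g • f i)).1 (by rw [smul_smul, ← hg, ← smul_smul, hfix' i])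
    exact ⟨j, hj.symm⟩
  have hOn : ∀ g : Y, g * w = w * g → ∀ o ∈ O, g * o * g⁻¹ ∈ O := fun g hg =>
    hnorm g (Or.inl (by rw [hg]; group))
  -- the image of `invGen t w`
  obtain ⟨σ1, -, hσ1⟩ := hM g1 hg1w
  obtain ⟨σ2, -, hσ2⟩ := hM g2 hg2w
  obtain ⟨hV1, hn1⟩ := hC.invol_acts hinj hg1.1 hg1.2.1 hg1.2.2 hσ1
    (hinj (by rw [← hσ1 0, hf0, ha0']))
  obtain ⟨hV2, hn2⟩ := hC.invol_acts hinj hg2.1 hg2.2.1 hg2.2.2 hσ2
    (hinj (by rw [← hσ2 0, hf0, ha02]))
  have hG1 : g1 ∈ invGen t w := Subgroup.subset_closure ⟨hg1, hg1w⟩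
  have hG2 : g2 ∈ invGen t w := Subgroup.subset_closure ⟨hg2, hg2w⟩
  have hσne : σ1 ≠ σ2 := by
    intro h12
    rw [← h12] at hσ2
    have h3 : g1 * g2⁻¹ ∈ (Kf f : Subgroup Y) := mul_inv_mem_Kf hσ1 hσ2
    rw [hg2.inv_eq] at h3
    apply not_prod_mem hC.ne hC.sq hsq hodd hOw hg1 hg2 hg1w hcomm hne hnet
    apply hcore _ (Subgroup.mul_mem _ hG1 hG2)
    intro a ha
    obtain ⟨i, rfl⟩ := (hfix a).1 ha
    exact h3 i
  have hV : ∀ σ ∈ V5, σ ∈ Img f (invGen t w) := by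
    intro σ hσ
    have m1 : σ1 ∈ Img f (invGen t w) := ⟨g1, hG1, hσ1⟩
    have m2 : σ2 ∈ Img f (invGen t w) := ⟨g2, hG2, hσ2⟩
    rcases V5_span hV1 hn1 hV2 hn2 hσne hσ with rfl | rfl | rfl | rfl
    · exact Subgroup.one_mem _
    · exact m1
    · exact m2
    · exact Subgroup.mul_mem _ m1 m2
  obtain ⟨c, hcw, hc⟩ := h.trans (f 0) (f 1) (hfix' 0) (hfix' 1)
  obtain ⟨ρ, -, hρ⟩ := hM c hcw
  have hρ0 : ρ 0 ≠ 0 := by
    intro h0
    have h1 : f 0 = f 1 := by rw [← hc, hρ 0, h0]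
    exact absurd (hinj h1) (by decide)
  have halt : alternatingGroup (Fin 5) ≤ Img f (invGen t w) := by
    refine alt_le_of hρ0 hV ?_
    intro σ hσ
    obtain ⟨m, hm, hma⟩ := hV σ hσ
    exact ⟨c * m * c⁻¹, invGen_conj hC.central (Or.inl (by rw [hcw]; group)) hm, hρ.conj hma⟩
  have halt' := alt_le_Img_commutator halt
  refine ⟨f, O, ⁅invGen t w, invGen t w⁆, hinj, hfix, hsq, h.bad, h.ni, hodd, hnorm, hOw,
    ?_, ?_, ?_, ?_, ?_⟩
  · intro o ho i
    exact htr o ho (f i) (hfix' i)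
  · intro k hk
    exact invGen_comm (commutator_le_self' _ hk)
  · exact halt'
  · intro i hi hiw
    obtain ⟨σ, -, hσ⟩ := hM i hiw
    obtain ⟨a, ha, hua⟩ := hC.one i hi.1 hi.2.1 hi.2.2
    have ha' : i • a = a := ha
    obtain ⟨j, hj⟩ := (hfix a).1 (by
      apply hua
      show i • w • a = w • a
      rw [smul_smul, hiw, ← smul_smul, ha'])
    have hσj : σ j = j := hinj (by rw [← hσ j, hj, ha'])
    have hσ2 : σ * σ = 1 := by
      have h1 := hσ.sq
      rw [hi.1] at h1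
      exact h1.unique hinj (Acts.one f)
    have hσu : ∀ l, σ l = l → l = j := by
      intro l hl
      apply hinj
      rw [hj]
      apply hua
      show i • f l = f l
      rw [hσ l, hl]
    have hσA : σ ∈ alternatingGroup (Fin 5) :=
      Equiv.Perm.mem_alternatingGroup.2 (sign_aux σ hσ2 j hσj hσu)
    obtain ⟨k, hk, hka⟩ := halt' hσA
    have h1 : k⁻¹ * i ∈ (Kf f : Subgroup Y) := by
      have := hka.inv.mul hσ
      rw [inv_mul_cancel] at this
      exact this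
    obtain ⟨o, ho, e, he⟩ := hcore (k⁻¹ * i)
      (Subgroup.mul_mem _ (Subgroup.inv_mem _ (commutator_le_self' _ hk))
        (Subgroup.subset_closure ⟨hi, hiw⟩)) (by
        intro a ha
        obtain ⟨l, rfl⟩ := (hfix a).1 ha
        exact h1 l)
    refine ⟨k, hk, o, ho, e, ?_⟩
    rw [mul_assoc, ← he]
    group
  · intro v hv hvw hvK
    refine act_core hOn hOw (fun m hm => invGen_comm hm) ?_
    intro m hm
    apply hcore
    · exact Subgroup.mul_mem _ (invGen_conj hC.central (Or.inr hvw) hm) (Subgroup.inv_mem _ hm)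
    · intro a ha
      obtain ⟨l, rfl⟩ := (hfix a).1 ha
      obtain ⟨τ, -, hτ⟩ := hM m (invGen_comm hm)
      have h2 : Acts f (v * m * v⁻¹ * m⁻¹) (1 * τ * 1⁻¹ * τ⁻¹) :=
        (((acts_one_iff.2 hvK).mul hτ).mul (acts_one_iff.2 hvK).inv).mul hτ.inv
      have h3 : (1 * τ * 1⁻¹ * τ⁻¹ : P5) = 1 := by group
      rw [h3] at h2
      exact h2 l

/-- the field `alt` of `Five` -/
theorem RawImg.alt [Finite Y] {t w : Y} (hC : Cen D t) {f : Fin 5 → D} {O K : Subgroup Y}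
    (h : RawImg t f w O K) : ∀ v, v * v = t → v * w * v⁻¹ = w⁻¹ → v ∈ (Kf f : Subgroup Y) →
    ∀ σ ∈ alternatingGroup (Fin 5), ∃ c, c * w = w * c ∧ c * v = v * c ∧ Acts f c σ := by
  classical
  intro v hv hvw hvK σ hσ
  obtain ⟨k, hk, hka⟩ := h.img σ hσ
  obtain ⟨o₀, ho₀, hvk⟩ := h.act v hv hvw hvK k hk
  have hvO : ∀ o ∈ O, v * o * v⁻¹ ∈ O := h.norm v (Or.inr hvw)
  -- conjugation by `v` on the coset `O k`
  have hmem : ∀ o : O, v * o * v⁻¹ * o₀ ∈ O := fun o => O.mul_mem (hvO o o.2) ho₀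
  let φ : O → O := fun o => ⟨v * o * v⁻¹ * o₀, hmem o⟩
  have hφk : ∀ o : O, (φ o : Y) * k = v * (o * k) * v⁻¹ := by
    intro o
    show v * o * v⁻¹ * o₀ * k = v * (o * k) * v⁻¹
    calc v * o * v⁻¹ * o₀ * k = v * o * v⁻¹ * (o₀ * k) := by group
      _ = v * o * v⁻¹ * (v * k * v⁻¹) := by rw [hvk]
      _ = v * (o * k) * v⁻¹ := by group
  have hinv : Function.Involutive φ := by
    intro o
    apply Subtype.ext
    apply mul_right_cancel (b := k)
    rw [hφk, hφk]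
    calc v * (v * (o * k) * v⁻¹) * v⁻¹ = (v * v) * (o * k) * (v * v)⁻¹ := by group
      _ = o * k := by rw [hv, ← hC.central]; group
  haveI : Fintype O := Fintype.ofFinite O
  haveI : Fact (Nat.Prime 2) := ⟨Nat.prime_two⟩
  obtain ⟨o, ho⟩ := Equiv.Perm.exists_fixed_point_of_prime (p := 2) (n := 1) (α := O)
    (by
      rw [← Nat.card_eq_fintype_card]
      exact fun hd => (Nat.not_even_iff_odd.2 h.odd) (even_iff_two_dvd.2 hd))
    (σ := hinv.toPerm) (by
      ext1 x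
      rw [pow_one, pow_two]
      exact hinv x)
  have ho' : φ o = o := ho
  have hc : v * (o * k) * v⁻¹ = o * k := by rw [← hφk, ho']
  refine ⟨o * k, ?_, ?_, ?_⟩
  · rw [mul_assoc, h.Kc k hk, ← mul_assoc, h.cw o o.2, mul_assoc]
  · calc (o : Y) * k * v = v * (o * k) * v⁻¹ * v := by rw [hc]
      _ = v * (o * k) := by group
  · have := (acts_one_iff.2 (h.tr o.2)).mul hka
    rwa [one_mul] at this

end Cfsg.Agent.TwoGenNine.RawFive
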