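import Mathlib
import Cfsg.Agent.TwoGenNine.RawImgDef

/-!
# `RawFive → Five`: steps (4) and (5)

`RawImg.exists_inv` : the field `inv` of `Five`; `RawImg.uniq` : the field `uniq` (from `alt`).
-/

set_option autoImplicit false

namespace Cfsg.Agent.TwoGenNine.RawInv

open Subgroup Equiv FiveLabel SylIn QuatSub FiveAct FiveBasic RawFive
open Cfsg.Agent.TwoGenCore.W2Base (Inv Base Bad BadInv NonIso)

/-! ## Double transpositions -/

theorem exists_even_zero : ∀ m : Fin 5, ∃ ρ : P5, ρ ∈ alternatingGroup (Fin 5) ∧ ρ m = 0 := by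
  intro m
  have h : ∀ m : Fin 5, (m = 0 ∨ (swap 1 2 * swap 0 m : P5) m = 0 ∨
      (swap 3 4 * swap 0 m : P5) m = 0) := by decide
  fin_cases m
  · exact ⟨1, Subgroup.one_mem _, rfl⟩
  · exact ⟨swap 3 4 * swap 0 1, by rw [Perm.mem_alternatingGroup]; decide, by decide⟩
  · exact ⟨swap 3 4 * swap 0 2, by rw [Perm.mem_alternatingGroup]; decide, by decide⟩
  · exact ⟨swap 1 2 * swap 0 3, by rw [Perm.mem_alternatingGroup]; decide, by decide⟩
  · exact ⟨swap 1 2 * swap 0 4, by rw [Perm.mem_alternatingGroup]; decide, by decide⟩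

/-- an involution of `P5` with exactly one fixed point is conjugate to `a5` in the alternating
group -/
theorem exists_even_conj_a5 {σ : P5} (h2 : σ * σ = 1) {m : Fin 5} (hm : σ m = m)
    (hu : ∀ j, σ j = j → j = m) :
    ∃ ρ ∈ alternatingGroup (Fin 5), ρ * σ * ρ⁻¹ = a5 := by
  obtain ⟨ρ, hρ, hρm⟩ := exists_even_zero m
  have h0 : (ρ * σ * ρ⁻¹) 0 = 0 := by
    have h1 : ρ⁻¹ 0 = m := by rw [← hρm]; simp
    rw [Perm.mul_apply, Perm.mul_apply, h1, hm, hρm]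
  have hV : ρ * σ * ρ⁻¹ ∈ V5 := by
    refine mem_V5_of ?_ h0 ?_
    · calc ρ * σ * ρ⁻¹ * (ρ * σ * ρ⁻¹) = ρ * (σ * σ) * ρ⁻¹ := by group
        _ = 1 := by rw [h2]; group
    · intro i hi
      have h3 : σ (ρ⁻¹ i) = ρ⁻¹ i := by
        have h4 : ρ (σ (ρ⁻¹ i)) = i := hi
        rw [Perm.eq_inv_iff_eq]
        exact h4
      have h5 := hu _ h3
      rw [← hρm, ← h5]
      simp
  have hne : ρ * σ * ρ⁻¹ ≠ 1 := by
    intro h3
    have h4 : σ = 1 := by
      have : σ = ρ⁻¹ * (ρ * σ * ρ⁻¹) * ρ := by group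
      rw [this, h3]; group
    have h5 := hu 0 (by rw [h4]; rfl)
    have h6 := hu 1 (by rw [h4]; rfl)
    rw [← h6] at h5
    exact absurd h5 (by decide)
  rcases hV with h3 | h3 | h3 | h3
  · exact absurd h3 hne
  · exact ⟨ρ, hρ, h3⟩
  · refine ⟨(swap 1 2 * swap 2 3) * ρ, Subgroup.mul_mem _ (by
      rw [Perm.mem_alternatingGroup]; decide) hρ, ?_⟩
    calc swap 1 2 * swap 2 3 * ρ * σ * (swap 1 2 * swap 2 3 * ρ)⁻¹
        = (swap 1 2 * swap 2 3) * (ρ * σ * ρ⁻¹) * (swap 1 2 * swap 2 3)⁻¹ := by group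
      _ = a5 := by rw [h3]; decide
  · refine ⟨(swap 1 2 * swap 2 4) * ρ, Subgroup.mul_mem _ (by
      rw [Perm.mem_alternatingGroup]; decide) hρ, ?_⟩
    calc swap 1 2 * swap 2 4 * ρ * σ * (swap 1 2 * swap 2 4 * ρ)⁻¹
        = (swap 1 2 * swap 2 4) * (ρ * σ * ρ⁻¹) * (swap 1 2 * swap 2 4)⁻¹ := by group
      _ = a5 := by rw [h3]; decide

/-- `σ` is an involution with exactly one fixed point -/
def DT (σ : P5) : Prop := σ * σ = 1 ∧ ∃ m, σ m = m ∧ ∀ j, σ j = j → j = m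

theorem DT.exists_conj {σ τ : P5} (hσ : DT σ) (hτ : DT τ) :
    ∃ ρ ∈ alternatingGroup (Fin 5), ρ * τ * ρ⁻¹ = σ := by
  obtain ⟨h1, m, h2, h3⟩ := hσ
  obtain ⟨k1, l, k2, k3⟩ := hτ
  obtain ⟨ρ, hρ, h4⟩ := exists_even_conj_a5 h1 h2 h3
  obtain ⟨π, hπ, k4⟩ := exists_even_conj_a5 k1 k2 k3
  refine ⟨ρ⁻¹ * π, Subgroup.mul_mem _ (Subgroup.inv_mem _ hρ) hπ, ?_⟩
  calc ρ⁻¹ * π * τ * (ρ⁻¹ * π)⁻¹ = ρ⁻¹ * (π * τ * π⁻¹) * ρ := by group
    _ = ρ⁻¹ * (ρ * σ * ρ⁻¹) * ρ := by rw [k4, h4]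
    _ = σ := by group

variable {Y : Type*} [Group Y] {D : Type*} [MulAction Y D] {t w : Y} {f : Fin 5 → D}
  {O K : Subgroup Y}

theorem w_mem (h : RawImg t f w O K) : w ∈ (Kf f : Subgroup Y) := fun i => (h.fix _).2 ⟨i, rfl⟩

/-- elements normalising `⟨w⟩` permute the labels -/
theorem exists_acts [Finite Y] (h : RawImg t f w O K) {g : Y}
    (hg : g * w * g⁻¹ = w ∨ g * w * g⁻¹ = w⁻¹) : ∃ σ, Acts f g σ := by
  have hwK := w_mem h
  have h1 : g ∈ (Mf f : Subgroup Y) := by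
    apply mem_Mf_of h.inj
    intro i
    have h2 : w • (g • f i) = g • f i := by
      rcases hg with hg | hg
      · have h3 : w * g = g * w := by
          calc w * g = g * w * g⁻¹ * g := by rw [hg]
            _ = g * w := by group
        rw [← mul_smul, h3, mul_smul, hwK i]
      · have h3 : w⁻¹ * g = g * w := by
          calc w⁻¹ * g = g * w * g⁻¹ * g := by rw [hg]
            _ = g * w := by group
        have h4 : w⁻¹ • (g • f i) = g • f i := by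
          rw [← mul_smul, h3, mul_smul, hwK i]
        rw [inv_smul_eq_iff] at h4
        exact h4.symm
    obtain ⟨j, hj⟩ := (h.fix _).1 h2
    exact ⟨j, hj.symm⟩
  obtain ⟨σ, -, hσ⟩ := h1
  exact ⟨σ, hσ⟩

/-- involutions normalising `⟨w⟩` act as double transpositions -/
theorem exists_dt [Finite Y] (hC : Cen D t) (h : RawImg t f w O K) {i : Y} (hi : Inv t i)
    (hg : i * w * i⁻¹ = w ∨ i * w * i⁻¹ = w⁻¹) : ∃ σ, Acts f i σ ∧ DT σ := by
  obtain ⟨σ, hσ⟩ := exists_acts h hg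
  refine ⟨σ, hσ, ?_, ?_⟩
  · have h2 := hσ.sq
    rw [hi.1] at h2
    exact h2.unique h.inj (Acts.one f)
  · obtain ⟨a, ha, hau⟩ := hC.one i hi.1 hi.2.1 hi.2.2
    have ha' : i • a = a := ha
    -- `w` fixes `a`
    have hwa : w • a = a := by
      apply hau
      show i • (w • a) = w • a
      rcases hg with hg | hg
      · have h3 : i * w = w * i := by
          calc i * w = i * w * i⁻¹ * i := by group
            _ = w * i := by rw [hg]
        rw [← mul_smul, h3, mul_smul, ha']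
      · have h3 : i * w = w⁻¹ * i := by
          calc i * w = i * w * i⁻¹ * i := by group
            _ = w⁻¹ * i := by rw [hg]
        have h4 : w⁻¹ = w * t := inv_eq_mul hC.sq h.sq
        rw [← mul_smul, h3, mul_smul, ha', h4, mul_smul, hC.triv]
    obtain ⟨m, hm⟩ := (h.fix a).1 hwa
    refine ⟨m, ?_, ?_⟩
    · apply h.inj
      rw [← hσ m, hm]; exact ha'
    · intro j hj
      apply h.inj
      rw [hm]
      apply hau
      show i • f j = f j
      rw [hσ j, hj]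

/-- the subgroup of the elements normalising `⟨w⟩` and acting as `1` or as the involution `σ` -/
def WW (f : Fin 5 → D) (w : Y) {σ : P5} (hσ : σ * σ = 1) : Subgroup Y where
  carrier := {g | (g * w * g⁻¹ = w ∨ g * w * g⁻¹ = w⁻¹) ∧ (Acts f g 1 ∨ Acts f g σ)}
  one_mem' := ⟨Or.inl (by group), Or.inl (Acts.one f)⟩
  mul_mem' := by
    rintro a b ⟨ha, ha'⟩ ⟨hb, hb'⟩
    refine ⟨?_, ?_⟩
    · have e : a * b * w * (a * b)⁻¹ = a * (b * w * b⁻¹) * a⁻¹ := by group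
      have e' : a * w⁻¹ * a⁻¹ = (a * w * a⁻¹)⁻¹ := by group
      rw [e]
      rcases hb with hb | hb
      · rw [hb]; exact ha
      · rw [hb, e']
        rcases ha with ha | ha
        · right; rw [ha]
        · left; rw [ha, inv_inv]
    · rcases ha' with ha' | ha' <;> rcases hb' with hb' | hb'
      · left; have := ha'.mul hb'; rwa [one_mul] at this
      · right; have := ha'.mul hb'; rwa [one_mul] at this
      · right; have := ha'.mul hb'; rwa [mul_one] at this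
      · left; have := ha'.mul hb'; rwa [hσ] at this
  inv_mem' := by
    rintro a ⟨ha, ha'⟩
    refine ⟨?_, ?_⟩
    · rcases ha with ha | ha
      · left
        calc a⁻¹ * w * a⁻¹⁻¹ = a⁻¹ * (a * w * a⁻¹) * a := by rw [ha]; group
          _ = w := by group
      · right
        calc a⁻¹ * w * a⁻¹⁻¹ = a⁻¹ * (w⁻¹)⁻¹ * a := by group
          _ = a⁻¹ * (a * w * a⁻¹)⁻¹ * a := by rw [ha]
          _ = w⁻¹ := by group
    · rcases ha' with ha' | ha'
      · left; have := ha'.inv; rwa [inv_one] at this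
      · right
        have h1 := ha'.inv
        have h2 : σ⁻¹ = σ := inv_eq_of_mul_eq_one_right hσ
        rwa [h2] at h1

theorem mem_WW {σ : P5} {hσ : σ * σ = 1} {g : Y} : g ∈ WW f w hσ ↔
    (g * w * g⁻¹ = w ∨ g * w * g⁻¹ = w⁻¹) ∧ (Acts f g 1 ∨ Acts f g σ) := Iff.rfl

/-- `⟨i, w⟩` is a 2-group for commuting `i`, `w` with `i² = 1`, `w⁴ = 1` -/
theorem isPGroup_closure {i w : Y} (hi : i * i = 1) (hw : (w * w) * (w * w) = 1)
    (hc : i * w = w * i) : IsPGroup 2 (closure ({i, w} : Set Y)) := by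
  have hcomm : ∀ x ∈ ({i, w} : Set Y), ∀ y ∈ ({i, w} : Set Y), x * y = y * x := by
    rintro x (rfl | rfl) y (rfl | rfl)
    · rfl
    · exact hc
    · exact hc.symm
    · rfl
  have hX := Subgroup.isMulCommutative_closure hcomm
  have h4 : ∀ a ∈ closure ({i, w} : Set Y), a ^ 4 = 1 := by
    intro a ha
    induction ha using Subgroup.closure_induction with
    | mem x hx =>
      rcases hx with rfl | rfl
      · calc x ^ 4 = (x * x) * (x * x) := by rw [show (4 : ℕ) = 2 + 2 from rfl, pow_add, pow_two]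
          _ = 1 := by rw [hi, one_mul]
      · calc x ^ 4 = (x * x) * (x * x) := by rw [show (4 : ℕ) = 2 + 2 from rfl, pow_add, pow_two]
          _ = 1 := hw
    | one => exact one_pow 4
    | mul x y hx hy hx2 hy2 =>
      have hxy : x * y = y * x := congrArg Subtype.val (hX.is_comm.comm ⟨x, hx⟩ ⟨y, hy⟩)
      have : Commute x y := hxy
      rw [this.mul_pow, hx2, hy2, one_mul]
    | inv x hx hx2 => rw [inv_pow, hx2, inv_one]
  intro a
  refine ⟨2, Subtype.ext ?_⟩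
  have := h4 a a.2
  simpa using this

/-- Let `i ∈ C(w)` and `j` inverting `w` be involutions acting in the same way.  Then a conjugate
`j'` of `j` inverting `w` gives `x = i j'` of square `t`, inverting `w` and fixing all labels. -/
theorem exists_x [Finite Y] (hC : Cen D t) (h : RawImg t f w O K) {i j : Y} {σ : P5}
    (hi : i * i = 1) (hj : j * j = 1) (hiw : i * w = w * i)
    (hjw : j * w * j⁻¹ = w⁻¹) (hiσ : Acts f i σ) (hjσ : Acts f j σ) :
    ∃ j' : Y, j' * j' = 1 ∧ j' * w * j'⁻¹ = w⁻¹ ∧ (i * j') * (i * j') = t ∧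
      (i * j') ∈ (Kf f : Subgroup Y) := by
  have hσ : σ * σ = 1 := by
    have h2 := hiσ.sq
    rw [hi] at h2
    exact h2.unique h.inj (Acts.one f)
  have hwK := w_mem h
  have hww : w * w * (w * w) = 1 := by rw [h.sq, hC.sq]
  have hiW : i ∈ WW f w hσ := ⟨Or.inl (by rw [hiw]; group), Or.inr hiσ⟩
  have hjW : j ∈ WW f w hσ := ⟨Or.inr hjw, Or.inr hjσ⟩
  have hwW : w ∈ WW f w hσ := ⟨Or.inl (by group), Or.inl hwK⟩
  obtain ⟨T, hT, hQT⟩ := exists_sylIn (A := WW f w hσ) (Q := closure ({i, w} : Set Y))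
    (by
      rw [closure_le]
      rintro x (rfl | rfl)
      · exact hiW
      · exact hwW) (isPGroup_closure hi hww hiw)
  have hiT : i ∈ T := hQT (subset_closure (by simp))
  have hwT : w ∈ T := hQT (subset_closure (by simp))
  have hjp : IsPGroup 2 (zpowers j) := by
    intro a
    refine ⟨1, Subtype.ext ?_⟩
    obtain ⟨k, hk⟩ := mem_zpowers_iff.mp a.2
    show (a : Y) ^ (2 ^ 1) = 1
    rw [← hk, pow_one, ← zpow_natCast, ← zpow_mul, mul_comm, zpow_mul]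
    have : j ^ ((2 : ℕ) : ℤ) = 1 := by rw [zpow_natCast, pow_two, hj]
    rw [this, one_zpow]
  obtain ⟨c, hc, hcT⟩ := hT.conj_le (Q := zpowers j) (by rw [zpowers_le]; exact hjW) hjp
  have hj'T : c * j * c⁻¹ ∈ T := hcT j (mem_zpowers j)
  have hj'W := hT.1 hj'T
  have hinv : c * j * c⁻¹ * w * (c * j * c⁻¹)⁻¹ = w⁻¹ := by
    have h3 : ∀ y : Y, (c * y * c⁻¹)⁻¹ = c * y⁻¹ * c⁻¹ := fun y => by group
    have h1 : c⁻¹ * w * c = w ∨ c⁻¹ * w * c = w⁻¹ := by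
      have := ((WW f w hσ).inv_mem hc).1
      rwa [inv_inv] at this
    have h2 : c * j * c⁻¹ * w * (c * j * c⁻¹)⁻¹ = c * (j * (c⁻¹ * w * c) * j⁻¹) * c⁻¹ := by group
    rw [h2]
    have hjw' : j * w⁻¹ * j⁻¹ = w := by
      calc j * w⁻¹ * j⁻¹ = (j * w * j⁻¹)⁻¹ := by group
        _ = w := by rw [hjw, inv_inv]
    rcases h1 with h1 | h1
    · rw [h1, hjw]
      calc c * w⁻¹ * c⁻¹ = c * (c⁻¹ * w * c)⁻¹ * c⁻¹ := by rw [h1]
        _ = w⁻¹ := by group
    · rw [h1, hjw']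
      calc c * w * c⁻¹ = c * (w⁻¹)⁻¹ * c⁻¹ := by group
        _ = c * (c⁻¹ * w * c)⁻¹ * c⁻¹ := by rw [h1]
        _ = w⁻¹ := by group
  have hact : Acts f (c * j * c⁻¹) σ := by
    rcases hc.2 with h1 | h1
    · have := h1.conj hjσ
      rwa [one_mul, inv_one, mul_one] at this
    · have := h1.conj hjσ
      rwa [mul_inv_cancel_right] at this
  have hj'2 : c * j * c⁻¹ * (c * j * c⁻¹) = 1 := by
    calc c * j * c⁻¹ * (c * j * c⁻¹) = c * (j * j) * c⁻¹ := by group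
      _ = 1 := by rw [hj]; group
  set j' := c * j * c⁻¹ with hj'
  have hxK : i * j' ∈ (Kf f : Subgroup Y) := by
    have := hiσ.mul hact
    rw [hσ] at this
    exact this
  have hxT : i * j' ∈ T := T.mul_mem hiT hj'T
  have hxw : i * j' * w * (i * j')⁻¹ = w⁻¹ := by
    calc i * j' * w * (i * j')⁻¹ = i * (j' * w * j'⁻¹) * i⁻¹ := by group
      _ = i * w⁻¹ * i⁻¹ := by rw [hinv]
      _ = (i * w * i⁻¹)⁻¹ := by group
      _ = w⁻¹ := by rw [hiw]; group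
  refine ⟨j', hj'2, hinv, ?_, hxK⟩
  exact sq_of_inverts hC.ne hC.sq hC.central (U := T ⊓ Kf f) (hT.2.1.to_le inf_le_left)
    ((hC.uniq_Kf h.inj).mono inf_le_right) ⟨hwT, hwK⟩ h.sq ⟨hxT, hxK⟩ hxw

/-- **Step (4)** -/
theorem exists_inv [Finite Y] (hC : Cen D t) (h : RawImg t f w O K) :
    ∃ x, x * x = t ∧ x * w * x⁻¹ = w⁻¹ ∧ x ∈ (Kf f : Subgroup Y) := by
  obtain ⟨-, j, hj, hjw⟩ := h.bad
  obtain ⟨f₁, -, hf₁, -, hf₁w, -, -, -, -⟩ := h.ni
  obtain ⟨σ, hjσ, hσ⟩ := exists_dt hC h hj (Or.inr hjw)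
  obtain ⟨τ, hfτ, hτ⟩ := exists_dt hC h hf₁ (Or.inl (by rw [hf₁w]; group))
  obtain ⟨ρ, hρ, hρτ⟩ := hσ.exists_conj hτ
  obtain ⟨k, hk, hkρ⟩ := h.img ρ hρ
  have hkw := h.Kc k hk
  have hi2 : k * f₁ * k⁻¹ * (k * f₁ * k⁻¹) = 1 := by
    calc k * f₁ * k⁻¹ * (k * f₁ * k⁻¹) = k * (f₁ * f₁) * k⁻¹ := by group
      _ = 1 := by rw [hf₁.1]; group
  have hkw' : k⁻¹ * w = w * k⁻¹ := by
    calc k⁻¹ * w = k⁻¹ * (w * k) * k⁻¹ := by group
      _ = k⁻¹ * (k * w) * k⁻¹ := by rw [hkw]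
      _ = w * k⁻¹ := by group
  have hiw : k * f₁ * k⁻¹ * w = w * (k * f₁ * k⁻¹) := by
    calc k * f₁ * k⁻¹ * w = k * f₁ * (k⁻¹ * w) := by group
      _ = k * (f₁ * w) * k⁻¹ := by rw [hkw']; group
      _ = (k * w) * f₁ * k⁻¹ := by rw [hf₁w]; group
      _ = w * (k * f₁ * k⁻¹) := by rw [hkw]; group
  have hiσ : Acts f (k * f₁ * k⁻¹) σ := by
    have := hkρ.conj hfτ
    rwa [hρτ] at this
  obtain ⟨j', hj'2, hj'w, hx2, hxK⟩ := exists_x hC h hi2 hj.1 hiw hjw hiσ hjσ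
  refine ⟨_, hx2, ?_, hxK⟩
  calc k * f₁ * k⁻¹ * j' * w * (k * f₁ * k⁻¹ * j')⁻¹
      = k * f₁ * k⁻¹ * (j' * w * j'⁻¹) * (k * f₁ * k⁻¹)⁻¹ := by group
    _ = (k * f₁ * k⁻¹ * w * (k * f₁ * k⁻¹)⁻¹)⁻¹ := by rw [hj'w]; group
    _ = w⁻¹ := by rw [hiw]; group

theorem t_not_mem (hC : Cen D t) [Finite Y] (h : RawImg t f w O K) : t ∉ O := by
  intro ht
  have h1 : orderOf (⟨t, ht⟩ : O) ∣ Nat.card O := orderOf_dvd_natCard _
  have h2 : orderOf t = 2 := orderOf_eq_prime (by rw [pow_two]; exact hC.sq) hC.ne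
  rw [Subgroup.orderOf_mk, h2] at h1
  have h3 := h.odd
  rw [← Nat.not_even_iff_odd, even_iff_two_dvd] at h3
  exact h3 h1

theorem t_zpow (hC : Cen D t) (e : ℤ) : t ^ e = 1 ∨ t ^ e = t := by
  have h2 : t ^ (2 : ℤ) = 1 := by rw [zpow_two]; exact hC.sq
  rcases Int.even_or_odd' e with ⟨m, rfl | rfl⟩
  · left; rw [zpow_mul, h2, one_zpow]
  · right; rw [zpow_add, zpow_mul, h2, one_zpow, one_mul, zpow_one]

/-- an element `v` of square `t` inverting `w` and trivial on the labels maps `i = k o w ^ e`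
(`k ∈ K`, `o ∈ O`) to `o' i t ^ e` -/
theorem exists_conj_eq (hC : Cen D t) (h : RawImg t f w O K) {v k o : Y} {e : ℤ}
    (hv : v * v = t) (hvw : v * w * v⁻¹ = w⁻¹) (hvK : v ∈ (Kf f : Subgroup Y)) (hk : k ∈ K)
    (ho : o ∈ O) : ∃ o' ∈ O, v * (k * o * w ^ e) * v⁻¹ = o' * (k * o * w ^ e) * t ^ e := by
  obtain ⟨o₁, ho₁, h1⟩ := h.act v hv hvw hvK k hk
  have ho₂ : v * o * v⁻¹ ∈ O := h.norm v (Or.inr hvw) o ho
  set o₂ := v * o * v⁻¹ with ho₂'
  have hwe : v * w ^ e * v⁻¹ = w ^ e * t ^ e := by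
    have h2 : v * w ^ e * v⁻¹ = (v * w * v⁻¹) ^ e := by
      exact (conj_zpow (a := v) (b := w) (i := e)).symm
    rw [h2, hvw]
    have h3 : w⁻¹ = w * t := inv_eq_mul hC.sq h.sq
    rw [h3]
    exact (show Commute w t from hC.central w).mul_zpow e
  have hkw := h.Kc k hk
  have hko : k * (o₂ * o⁻¹) * k⁻¹ ∈ O := by
    refine h.norm k (Or.inl ?_) _ (O.mul_mem ho₂ (O.inv_mem ho))
    rw [hkw]; group
  refine ⟨o₁ * (k * (o₂ * o⁻¹) * k⁻¹), O.mul_mem ho₁ hko, ?_⟩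
  calc v * (k * o * w ^ e) * v⁻¹ = (v * k * v⁻¹) * (v * o * v⁻¹) * (v * w ^ e * v⁻¹) := by group
    _ = (o₁ * k) * o₂ * (w ^ e * t ^ e) := by rw [h1, hwe, ← ho₂']
    _ = o₁ * (k * (o₂ * o⁻¹) * k⁻¹) * (k * o * w ^ e) * t ^ e := by group

/-- **Step (5)** -/
theorem uniq [Finite Y] (hC : Cen D t) (h : RawImg t f w O K)
    (halt : ∀ v, v * v = t → v * w * v⁻¹ = w⁻¹ → v ∈ (Kf f : Subgroup Y) →
      ∀ σ ∈ alternatingGroup (Fin 5), ∃ c, c * w = w * c ∧ c * v = v * c ∧ Acts f c σ) :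
    ∀ v, v * v = t → v * w * v⁻¹ = w⁻¹ → v ∈ (Kf f : Subgroup Y) →
      ∀ i, i * i = 1 → i * w = w * i → i * v = v * i → i = 1 ∨ i = t := by
  intro v hv hvw hvK i₀ hi₀ hi₀w hi₀v
  by_contra hcon
  push Not at hcon
  have hInv : Inv t i₀ := ⟨hi₀, hcon.1, hcon.2⟩
  obtain ⟨-, j, hj, hjw⟩ := h.bad
  obtain ⟨σ, hjσ, hσ⟩ := exists_dt hC h hj (Or.inr hjw)
  obtain ⟨τ, hfτ, hτ⟩ := exists_dt hC h hInv (Or.inl (by rw [hi₀w]; group))
  obtain ⟨ρ, hρ, hρτ⟩ := hσ.exists_conj hτ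
  obtain ⟨c, hcw, hcv, hcρ⟩ := halt v hv hvw hvK ρ hρ
  have hinvc : ∀ y : Y, c * y = y * c → c⁻¹ * y = y * c⁻¹ := by
    intro y hy
    calc c⁻¹ * y = c⁻¹ * (y * c) * c⁻¹ := by group
      _ = c⁻¹ * (c * y) * c⁻¹ := by rw [hy]
      _ = y * c⁻¹ := by group
  have hconj : ∀ y : Y, c * y = y * c → i₀ * y = y * i₀ →
      c * i₀ * c⁻¹ * y = y * (c * i₀ * c⁻¹) := by
    intro y hy hy'
    calc c * i₀ * c⁻¹ * y = c * i₀ * (c⁻¹ * y) := by group
      _ = c * (i₀ * y) * c⁻¹ := by rw [hinvc y hy]; group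
      _ = (c * y) * i₀ * c⁻¹ := by rw [hy']; group
      _ = y * (c * i₀ * c⁻¹) := by rw [hy]; group
  have hi2 : c * i₀ * c⁻¹ * (c * i₀ * c⁻¹) = 1 := by
    calc c * i₀ * c⁻¹ * (c * i₀ * c⁻¹) = c * (i₀ * i₀) * c⁻¹ := by group
      _ = 1 := by rw [hi₀]; group
  have hiw := hconj w hcw hi₀w
  have hiv := hconj v hcv hi₀v
  have hiInv : Inv t (c * i₀ * c⁻¹) := hInv.conj hC.central c
  have hiσ : Acts f (c * i₀ * c⁻¹) σ := by
    have := hcρ.conj hfτ
    rwa [hρτ] at this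
  set i := c * i₀ * c⁻¹ with hi
  obtain ⟨j', hj'2, hj'w, hx2, hxK⟩ := exists_x hC h hi2 hj.1 hiw hjw hiσ hjσ
  have hxw : i * j' * w * (i * j')⁻¹ = w⁻¹ := by
    calc i * j' * w * (i * j')⁻¹ = i * (j' * w * j'⁻¹) * i⁻¹ := by group
      _ = (i * w * i⁻¹)⁻¹ := by rw [hj'w]; group
      _ = w⁻¹ := by rw [hiw]; group
  obtain ⟨k, hk, o, ho, e, hie⟩ := h.inv i hiInv hiw
  have htO := t_not_mem hC h
  -- `t ^ e = 1`
  obtain ⟨o', ho', h1⟩ := exists_conj_eq (e := e) hC h hv hvw hvK hk ho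
  rw [← hie] at h1
  have h2 : v * i * v⁻¹ = i := by rw [← hiv]; group
  rw [h2] at h1
  have hte : t ^ e = 1 := by
    rcases t_zpow hC e with h3 | h3
    · exact h3
    · exfalso
      rw [h3] at h1
      apply htO
      have h4 : t = o'⁻¹ := by
        have h5 : o' * (i * t) = i := by rw [← mul_assoc]; exact h1.symm
        have h6 : o' * (t * i) = i := by rw [← hC.central i]; exact h5
        calc t = o'⁻¹ * (o' * (t * i)) * i⁻¹ := by group
          _ = o'⁻¹ := by rw [h6]; group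
      rw [h4]; exact O.inv_mem ho'
  obtain ⟨o'', ho'', h3⟩ := exists_conj_eq (e := e) hC h hx2 hxw hxK hk ho
  rw [← hie, hte, mul_one] at h3
  apply htO
  have h4 : t = o'' := by
    have hi' : i⁻¹ = i := inv_eq_of_mul_eq_one_right hi2
    have hj'i : j'⁻¹ = j' := inv_eq_of_mul_eq_one_right hj'2
    calc t = i * j' * (i * j') := hx2.symm
      _ = i * j' * i * j'⁻¹ * i⁻¹ * i := by rw [hj'i]; group
      _ = (i * j' * i * (i * j')⁻¹) * i := by group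
      _ = o'' * i * i := by rw [h3]
      _ = o'' := by rw [mul_assoc, hi2, mul_one]
  rw [h4]; exact ho''

/-- `RawImg` and the field `alt` give `Five`. -/
theorem five [Finite Y] (hC : Cen D t) (h : RawImg t f w O K)
    (halt : ∀ v, v * v = t → v * w * v⁻¹ = w⁻¹ → v ∈ (Kf f : Subgroup Y) →
      ∀ σ ∈ alternatingGroup (Fin 5), ∃ c, c * w = w * c ∧ c * v = v * c ∧ Acts f c σ) :
    Five t f w :=
  ⟨h.inj, h.fix, h.sq, exists_inv hC h, halt, uniq hC h halt⟩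

end Cfsg.Agent.TwoGenNine.RawInv
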