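import Mathlib
import Cfsg.Agent.TwoGenNine.RawImg
import Cfsg.Agent.TwoGenNine.RawInv

/-!
# `RawFive → Five` (S1728)
-/

set_option autoImplicit false

namespace Cfsg.Agent.TwoGenNine.RawToFive

open FiveBasic RawFive

variable {Y : Type*} [Group Y] {D : Type*} [MulAction Y D]

theorem exists_five [Finite Y] {t w : Y} (hC : Cen D t) (h : RawFive D t w) :
    ∃ f : Fin 5 → D, Five t f w := by
  obtain ⟨f, O, K, hI⟩ := h.rawImg hC
  exact ⟨f, RawInv.five hC hI (hI.alt hC)⟩

end Cfsg.Agent.TwoGenNine.RawToFive
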