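import Mathlib

/-!
# S1728, 2-rank at least three: the last configuration

`Hyp D t X P j`: a finite group `Y` acts on `D`, `t` is a central involution acting trivially, every
other involution fixes exactly one point; `X` is a quaternion group of order 8 containing `t` with
exactly five fixed points, each of its elements of order 4 has the same fixed points, `X` is a maximal
2-subgroup of the pointwise stabiliser of `Fix X`, the centraliser of `X` induces at least the
alternating group on `Fix X`, and the involution `j` interchanges `X` with the commuting quaternion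
group `P`, `X ∩ P = ⟨t⟩`.
-/

set_option autoImplicit false

namespace Cfsg.Agent.TwoGenNine.Setup

open Subgroup

variable {Y : Type*} [Group Y] (D : Type*) [MulAction Y D]

/-- The fixed points of the subgroup `X`. -/
def FX (X : Subgroup Y) : Set D := {d | ∀ x ∈ X, x • d = d}

/-- `Hyp D t X P j`, see the head of the file. -/
structure Hyp (t : Y) (X P : Subgroup Y) (j : Y) : Prop where
  tc : ∀ y : Y, t * y = y * t
  t2 : t * t = 1
  t1 : t ≠ 1
  tD : ∀ d : D, t • d = d
  one : ∀ i : Y, i * i = 1 → i ≠ 1 → i ≠ t → ∃ d : D, ∀ e : D, i • e = e ↔ e = d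
  card : Nat.card X = 8
  tX : t ∈ X
  sq : ∀ x ∈ X, x ≠ 1 → x ≠ t → x * x = t
  five : (FX D X).ncard = 5
  fix : ∀ x ∈ X, x ≠ 1 → x ≠ t → ∀ d : D, x • d = d → d ∈ FX D X
  syl : ∀ R : Subgroup Y, X ≤ R → IsPGroup 2 R → (∀ r ∈ R, ∀ d ∈ FX D X, r • d = d) → R ≤ X
  alt : ∀ a ∈ FX D X, ∀ b ∈ FX D X, ∀ c ∈ FX D X, a ≠ b → b ≠ c → c ≠ a →
    ∃ g : Y, (∀ x ∈ X, g * x = x * g) ∧ g • a = b ∧ g • b = c ∧ g • c = a ∧
      ∀ d ∈ FX D X, d ≠ a → d ≠ b → d ≠ c → g • d = d
  j2 : j * j = 1
  j1 : j ≠ 1
  jt : j ≠ t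
  memP : ∀ y, y ∈ P ↔ j * y * j ∈ X
  comm : ∀ x ∈ X, ∀ p ∈ P, x * p = p * x
  disj : ∀ x, x ∈ X → x ∈ P → x = 1 ∨ x = t

variable {D}

theorem mem_FX {X : Subgroup Y} {d : D} : d ∈ FX D X ↔ ∀ x ∈ X, x • d = d := Iff.rfl

namespace Hyp

variable {t : Y} {X P : Subgroup Y} {j : Y} (h : Hyp D t X P j)
include h

theorem jj (y : Y) : j * (j * y * j) * j = y := by
  calc j * (j * y * j) * j = (j * j) * y * (j * j) := by group
    _ = y := by rw [h.j2]; group

theorem jinv : j⁻¹ = j := inv_eq_of_mul_eq_one_left h.j2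

theorem jtj : j * t * j = t := by
  rw [← h.tc j, mul_assoc, h.j2, mul_one]

theorem memX (y : Y) : y ∈ X ↔ j * y * j ∈ P := by
  rw [h.memP, h.jj]

theorem tP : t ∈ P := by rw [h.memP, h.jtj]; exact h.tX

theorem jsmul (d : D) : j • j • d = d := by rw [smul_smul, h.j2, one_smul]

theorem FXP (d : D) : d ∈ FX D P ↔ j • d ∈ FX D X := by
  constructor
  · intro hd x hx
    have := hd (j * x * j) ((h.memX x).1 hx)
    rw [mul_smul, mul_smul] at this
    have h2 := congrArg (fun e => j • e) this
    simp only [h.jsmul] at h2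
    exact h2
  · intro hd p hp
    have := hd (j * p * j) ((h.memP p).1 hp)
    rw [mul_smul, mul_smul, h.jsmul] at this
    have h2 := congrArg (fun e => j • e) this
    simp only [h.jsmul] at h2
    exact h2

theorem FXX (d : D) : d ∈ FX D X ↔ j • d ∈ FX D P := by
  rw [h.FXP, h.jsmul]

theorem symm : Hyp D t P X j where
  tc := h.tc
  t2 := h.t2
  t1 := h.t1
  tD := h.tD
  one := h.one
  card := by
    rw [← h.card]
    refine Nat.card_congr ⟨fun p => ⟨j * p * j, (h.memP _).1 p.2⟩,
      fun x => ⟨j * x * j, (h.memX _).1 x.2⟩, ?_, ?_⟩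
    · intro p; exact Subtype.ext (h.jj _)
    · intro x; exact Subtype.ext (h.jj _)
  tX := h.tP
  sq := by
    intro p hp hp1 hpt
    have h1 := h.sq (j * p * j) ((h.memP p).1 hp) (by
      intro h0
      apply hp1
      have := h.jj p
      rw [h0] at this
      rw [← this, mul_one, h.j2]) (by
      intro h0
      apply hpt
      have := h.jj p
      rw [h0, h.jtj] at this
      exact this.symm)
    have h2 : p * p = j * ((j * p * j) * (j * p * j)) * j := by
      calc p * p = j * (j * p * j) * j * (j * (j * p * j) * j) := by rw [h.jj]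
        _ = j * ((j * p * j) * (j * j) * (j * p * j)) * j := by group
        _ = _ := by rw [h.j2, mul_one]
    rw [h2, h1, h.jtj]
  five := by
    rw [← h.five]
    have : FX D P = (fun d : D => j • d) '' FX D X := by
      ext d
      constructor
      · intro hd
        exact ⟨j • d, (h.FXP d).1 hd, h.jsmul d⟩
      · rintro ⟨e, he, rfl⟩
        exact (h.FXX e).1 he
    rw [this, Set.ncard_image_of_injective _ (MulAction.injective j)]
  fix := by
    intro p hp hp1 hpt d hd
    rw [h.FXP]
    refine h.fix (j * p * j) ((h.memP p).1 hp) ?_ ?_ (j • d) ?_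
    · intro h0
      apply hp1
      have := h.jj p
      rw [h0] at this
      rw [← this, mul_one, h.j2]
    · intro h0
      apply hpt
      have := h.jj p
      rw [h0, h.jtj] at this
      exact this.symm
    · rw [mul_smul, mul_smul, h.jsmul, hd]
  syl := by
    intro R hPR hR hRf
    have hR' : R.map (MulAut.conj j).toMonoidHom ≤ X := by
      apply h.syl
      · intro x hx
        refine ⟨j * x * j, hPR ((h.memX x).1 hx), ?_⟩
        change j * (j * x * j) * j⁻¹ = x
        rw [h.jinv, h.jj]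
      · exact hR.map _
      · rintro _ ⟨r, hr, rfl⟩ d hd
        change (j * r * j⁻¹) • d = d
        rw [h.jinv, mul_smul, mul_smul, hRf r hr _ ((h.FXX d).1 hd), h.jsmul]
    intro r hr
    rw [h.memP]
    have := hR' ⟨r, hr, rfl⟩
    change j * r * j⁻¹ ∈ X at this
    rwa [h.jinv] at this
  alt := by
    intro a ha b hb c hc hab hbc hca
    obtain ⟨g, hg, h1, h2, h3, h4⟩ := h.alt (j • a) ((h.FXP a).1 ha) (j • b) ((h.FXP b).1 hb)
      (j • c) ((h.FXP c).1 hc) (fun e => hab (MulAction.injective j e))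
      (fun e => hbc (MulAction.injective j e)) (fun e => hca (MulAction.injective j e))
    refine ⟨j * g * j, ?_, ?_, ?_, ?_, ?_⟩
    · intro p hp
      have := hg (j * p * j) ((h.memP p).1 hp)
      calc j * g * j * p = j * (g * (j * p * j)) * j⁻¹ := by group
        _ = j * ((j * p * j) * g) * j⁻¹ := by rw [this]
        _ = (j * j) * p * j * g * j⁻¹ := by group
        _ = p * (j * g * j) := by rw [h.j2, h.jinv]; group
    · rw [mul_smul, mul_smul, h1, h.jsmul]
    · rw [mul_smul, mul_smul, h2, h.jsmul]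
    · rw [mul_smul, mul_smul, h3, h.jsmul]
    · intro d hd hda hdb hdc
      rw [mul_smul, mul_smul, h4 (j • d) ((h.FXP d).1 hd) (fun e => hda (MulAction.injective j e))
        (fun e => hdb (MulAction.injective j e)) (fun e => hdc (MulAction.injective j e)), h.jsmul]
  j2 := h.j2
  j1 := h.j1
  jt := h.jt
  memP := h.memX
  comm := fun p hp x hx => (h.comm x hx p hp).symm
  disj := fun x hxP hxX => h.disj x hxX hxP

theorem tinv : t⁻¹ = t := inv_eq_of_mul_eq_one_left h.t2

/-- Commuting elements of the quaternion group. -/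
theorem eq_of_comm {x y : Y} (hx : x ∈ X) (hx1 : x ≠ 1) (hxt : x ≠ t) (hy : y ∈ X)
    (hxy : y * x = x * y) : y = 1 ∨ y = t ∨ y = x ∨ y = x * t := by
  by_cases hy1 : y = 1
  · exact Or.inl hy1
  by_cases hyt : y = t
  · exact Or.inr (Or.inl hyt)
  have h1 : y * x * (y * x) = 1 := by
    calc y * x * (y * x) = y * (x * y) * x := by group
      _ = y * (y * x) * x := by rw [hxy]
      _ = (y * y) * (x * x) := by group
      _ = 1 := by rw [h.sq y hy hy1 hyt, h.sq x hx hx1 hxt, h.t2]
  by_cases h2 : y * x = 1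
  · right; right; right
    have hxx := h.sq x hx hx1 hxt
    have : y = x⁻¹ := eq_inv_of_mul_eq_one_left h2
    rw [this, ← hxx]; 
    have h4 : x * x * (x * x) = 1 := by rw [hxx, h.t2]
    calc x⁻¹ = x⁻¹ * 1 := by group
      _ = x⁻¹ * (x * x * (x * x)) := by rw [h4]
      _ = x * (x * x) := by group
  · by_cases h3 : y * x = t
    · right; right; left
      have hxx := h.sq x hx hx1 hxt
      calc y = y * x * x⁻¹ := by group
        _ = x * x * x⁻¹ := by rw [h3, hxx]
        _ = x := by group
    · exfalso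
      have := h.sq (y * x) (X.mul_mem hy hx) h2 h3
      rw [h1] at this
      exact h.t1 this.symm

theorem exists_mem : ∃ x ∈ X, x ≠ 1 ∧ x ≠ t := by
  by_contra hcon
  push Not at hcon
  have hsub : (X : Set Y) ⊆ {1, t} := by
    intro x hx
    by_cases h1 : x = 1
    · simp [h1]
    · simp [hcon x hx h1]
  have h1 : (X : Set Y).ncard ≤ 2 := by
    refine (Set.ncard_le_ncard hsub (Set.toFinite _)).trans ?_
    exact (Set.ncard_insert_le _ _).trans (by simp)
  have h2 : (X : Set Y).ncard = 8 := by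
    rw [← h.card]; rfl
  omega

/-- For every `x` of order 4 in `X` there is `y ∈ X` not commuting with it. -/
theorem exists_not_comm {x : Y} (hx : x ∈ X) (hx1 : x ≠ 1) (hxt : x ≠ t) :
    ∃ y ∈ X, y ≠ 1 ∧ y ≠ t ∧ y * x ≠ x * y := by
  by_contra hcon
  push Not at hcon
  have hsub : (X : Set Y) ⊆ {1, t, x, x * t} := by
    intro y hy
    by_cases h1 : y = 1
    · simp [h1]
    by_cases h2 : y = t
    · simp [h2]
    rcases h.eq_of_comm hx hx1 hxt hy (hcon y hy h1 h2) with h3 | h3 | h3 | h3 <;> simp [h3]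
  have h1 : (X : Set Y).ncard ≤ 4 := by
    refine (Set.ncard_le_ncard hsub (Set.toFinite _)).trans ?_
    refine (Set.ncard_insert_le _ _).trans ?_
    refine Nat.succ_le_succ ((Set.ncard_insert_le _ _).trans ?_)
    refine Nat.succ_le_succ ((Set.ncard_insert_le _ _).trans ?_)
    simp
  have h2 : (X : Set Y).ncard = 8 := by
    rw [← h.card]; rfl
  omega

/-- Non-commuting elements of `X` anticommute. -/
theorem anticomm {x y : Y} (hx : x ∈ X) (hy : y ∈ X) (hxy : y * x ≠ x * y) :
    y * x = x * y * t := by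
  have hx1 : x ≠ 1 := by rintro rfl; apply hxy; simp
  have hxt : x ≠ t := by rintro rfl; exact hxy (h.tc y).symm
  have hy1 : y ≠ 1 := by rintro rfl; apply hxy; simp
  have hyt : y ≠ t := by rintro rfl; exact hxy (h.tc x)
  have hxy1 : x * y ≠ 1 := by
    intro h0
    apply hxy
    rw [h0, eq_inv_of_mul_eq_one_left h0]
    group
  have hxyt : x * y ≠ t := by
    intro h0
    apply hxy
    have : y = x⁻¹ * t := by rw [← h0]; group
    rw [this, ← h.tc x⁻¹, ← mul_assoc, ← h.tc x]; group
  have h1 := h.sq (x * y) (X.mul_mem hx hy) hxy1 hxyt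
  have h2 := h.sq x hx hx1 hxt
  have h3 := h.sq y hy hy1 hyt
  -- (xy)(xy) = t  =>  yx = x⁻¹ t y⁻¹ = x t t y t ... 
  have hxi : x⁻¹ = x * t := by
    rw [inv_eq_iff_mul_eq_one, ← mul_assoc, h2, h.t2]
  have hyi : y⁻¹ = y * t := by
    rw [inv_eq_iff_mul_eq_one, ← mul_assoc, h3, h.t2]
  calc y * x = x⁻¹ * (x * y * (x * y)) * y⁻¹ := by group
    _ = x * t * t * (y * t) := by rw [h1, hxi, hyi]
    _ = x * (t * t) * y * t := by group
    _ = x * y * t := by rw [h.t2, mul_one]

end Hyp

end Cfsg.Agent.TwoGenNine.Setup
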