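import Mathlib
import Cfsg.Agent.TwoGenNine.FiveBasic

/-!
# S1728, (5.5)-(5.7): the Sylow 2-subgroup of the stabiliser of the five points

`Ctx t f T w` : `T` is a Sylow 2-subgroup of the setwise stabiliser of the labelled points, it
fixes `f 0`, and `⟨w⟩` is normal in `T`, where `w` is of the five type.
-/

set_option autoImplicit false

namespace Cfsg.Agent.TwoGenNine.SwapCtx

open Subgroup Equiv FiveLabel SylIn QuatSub FiveAct FiveBasic
open Cfsg.Agent.TwoGenCore.W2Base (Inv Base Bad BadInv NonIso)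

variable {Y : Type*} [Group Y] {D : Type*} [MulAction Y D]

structure Ctx (t : Y) (f : Fin 5 → D) (T : Subgroup Y) (w : Y) : Prop where
  syl : SylIn.SylIn T (Mf f)
  zero : ∀ s ∈ T, s • f 0 = f 0
  wT : w ∈ T
  five : Five t f w
  norm : ∀ s ∈ T, s * w * s⁻¹ = w ∨ s * w * s⁻¹ = w⁻¹
  all : ∀ u ∈ T, u ∈ (Kf f : Subgroup Y) → u * u = t → Five t f u

theorem Five_relabel {t w : Y} {f : Fin 5 → D} (h : Five t f w) (τ : P5) :
    Five t (f ∘ τ) w := by
  refine ⟨h.inj.comp τ.injective, ?_, h.sq, ?_, ?_, ?_⟩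
  · intro a
    rw [h.fix a]
    constructor
    · rintro ⟨i, rfl⟩
      exact ⟨τ⁻¹ i, by simp⟩
    · rintro ⟨i, rfl⟩
      exact ⟨τ i, rfl⟩
  · rw [Kf_relabel]; exact h.inv
  · rw [Kf_relabel]
    intro v hv hvw hvK σ hσ
    obtain ⟨c, h1, h2, h3⟩ := h.alt v hv hvw hvK (τ * σ * τ⁻¹) (by
      have : (alternatingGroup (Fin 5)).Normal := inferInstance
      exact this.conj_mem σ hσ τ)
    refine ⟨c, h1, h2, ?_⟩
    intro i
    have := h3 (τ i)
    simpa [Perm.mul_apply] using this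
  · rw [Kf_relabel]; exact h.uniq

section

variable {t : Y} (hC : Cen D t)
include hC

theorem exists_ctx [Finite Y]
    (h5 : ∀ v : Y, BadInv D t v → NonIso t v → ∃ f' : Fin 5 → D, Five t f' v)
    {f : Fin 5 → D} {w : Y} (h : Five t f w) :
    ∃ (f' : Fin 5 → D) (T : Subgroup Y) (w' : Y), Ctx t f' T w' := by
  have hwK : w ∈ (Kf f : Subgroup Y) := fun i => (h.fix _).2 ⟨i, rfl⟩
  have hp : IsPGroup 2 (zpowers w) := by
    rintro ⟨g, hg⟩
    obtain ⟨k, rfl⟩ := Subgroup.mem_zpowers_iff.1 hg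
    refine ⟨2, Subtype.ext ?_⟩
    show (w ^ k) ^ (2 ^ 2) = 1
    have h4 : w ^ (4 : ℕ) = 1 := by
      have : w ^ 4 = (w * w) * (w * w) := by
        simp only [pow_succ, pow_zero, one_mul, mul_assoc]
      rw [this, h.sq, hC.sq]
    calc (w ^ k) ^ (2 ^ 2) = (w ^ (4 : ℕ)) ^ k := by
          rw [← zpow_natCast, ← zpow_natCast, ← zpow_mul, ← zpow_mul, mul_comm]; norm_num
      _ = 1 := by rw [h4, one_zpow]
  have hle : zpowers w ≤ Mf f := by
    rw [Subgroup.zpowers_le]; exact Kf_le f _ hwK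
  obtain ⟨T, hT, hwT⟩ := exists_sylIn hle hp
  obtain ⟨i, hi⟩ := exists_fixed h.inj hT.2.1 hT.1
  let τ : P5 := swap 0 i
  have h' := Five_relabel h τ
  have hwT' : w ∈ T := hwT (Subgroup.mem_zpowers w)
  have hall := h'.all hC h5 (U := T ⊓ Kf (f ∘ τ)) (hT.2.1.to_le inf_le_left) inf_le_right
    ⟨hwT', by rw [Kf_relabel]; exact hwK⟩
  have hu : Uniq t (T ⊓ Kf (f ∘ τ) : Subgroup Y) := (hC.uniq_Kf h'.inj).mono inf_le_right
  have hMf : SylIn.SylIn T (Mf (f ∘ τ)) := by rw [Mf_relabel]; exact hT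
  have htU : t ∈ (T ⊓ Kf (f ∘ τ) : Subgroup Y) := by
    rw [← h.sq]
    exact Subgroup.mul_mem _ ⟨hwT', by rw [Kf_relabel]; exact hwK⟩
      ⟨hwT', by rw [Kf_relabel]; exact hwK⟩
  obtain ⟨z, hz, hz2, hzn⟩ := exists_normal hC.ne hC.sq hC.central hT.2.1
    (U := T ⊓ Kf (f ∘ τ)) inf_le_left hu htU
    (fun r hr u hu => ⟨T.mul_mem (T.mul_mem hr hu.1) (T.inv_mem hr), Kf_conj (hMf.1 hr) hu.2⟩)
    (w := w) ⟨hwT', by rw [Kf_relabel]; exact hwK⟩ h.sq
  refine ⟨f ∘ τ, T, z, hMf, ?_, hz.1, hall z hz hz2, hzn, fun u huT huK hu2 =>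
    hall u ⟨huT, huK⟩ hu2⟩
  intro s hs
  show s • f (τ 0) = f (τ 0)
  have : τ 0 = i := Equiv.swap_apply_left 0 i
  rw [this]
  exact hi s hs

variable {f : Fin 5 → D} {T : Subgroup Y} {w : Y}

theorem Ctx.two (h : Ctx t f T w) : IsPGroup 2 T := h.syl.2.1

theorem Ctx.wK (h : Ctx t f T w) : w ∈ (Kf f : Subgroup Y) :=
  fun i => (h.five.fix _).2 ⟨i, rfl⟩

theorem Ctx.tT (h : Ctx t f T w) : t ∈ T := by
  rw [← h.five.sq]; exact T.mul_mem h.wT h.wT

/-- elements of `T` have a label permutation fixing `0` -/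
theorem Ctx.acts (h : Ctx t f T w) {s : Y} (hs : s ∈ T) : ∃ σ : P5, Acts f s σ ∧ σ 0 = 0 := by
  obtain ⟨σ, -, hσ⟩ := h.syl.1 hs
  exact ⟨σ, hσ, h.five.inj (by rw [← hσ 0, h.zero s hs])⟩

theorem Ctx.invol_mem (h : Ctx t f T w) {i : Y} (hi : i ∈ T) (hi2 : i * i = 1) :
    i ∈ (Bf f : Subgroup Y) :=
  hC.invol_mem_Bf h.five.inj hi2 (h.syl.1 hi) (h.zero i hi)

theorem Ctx.sylB [Finite Y] (h : Ctx t f T w) : SylIn.SylIn (T ⊓ Bf f) (Bf f) := by
  let P0 : Subgroup P5 := MulAction.stabilizer P5 (0 : Fin 5)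
  have h1 : T ≤ ActSub f P0 := by
    intro s hs
    obtain ⟨σ, hσ, h0⟩ := h.acts hC hs
    exact ⟨σ, h0, hσ⟩
  have h2 : SylIn.SylIn T (ActSub f P0) := h.syl.of_le h1 (ActSub_mono f le_top)
  refine h2.inf (ActSub_mono f fun σ hσ => V5_zero hσ) ?_
  rintro a ⟨σ, h0, hσ⟩ n hn
  exact Bf_conj hσ h0 hn

theorem Ctx.sylK [Finite Y] (h : Ctx t f T w) : SylIn.SylIn (T ⊓ Kf f) (Kf f) :=
  h.syl.inf (Kf_le f _) (fun _ ha _ hn => Kf_conj ha hn)

/-- (L9) the commutator of two involutions of `T`, if it is an involution, is `t` -/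
theorem Ctx.comm_invol (h : Ctx t f T w) {a b : Y} (ha : a ∈ T) (hb : b ∈ T) (ha2 : a * a = 1)
    (hb2 : b * b = 1) (h2 : (a * b * a * b) * (a * b * a * b) = 1) :
    a * b * a * b = 1 ∨ a * b * a * b = t := by
  obtain ⟨σ, hσ, haσ⟩ := h.invol_mem hC ha ha2
  obtain ⟨τ, hτ, hbτ⟩ := h.invol_mem hC hb hb2
  refine hC.uniq_Kf h.five.inj _ ?_ h2
  have h3 := ((haσ.mul hbτ).mul haσ).mul hbτ
  have e : σ * τ * σ * τ = 1 := by
    calc σ * τ * σ * τ = σ * (τ * σ) * τ := by group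
      _ = (σ * σ) * (τ * τ) := by rw [← V5_comm hσ hτ]; group
      _ = 1 := by rw [V5_sq hσ, V5_sq hτ, one_mul]
  rw [e] at h3
  exact h3

/-- (L7) a quaternion group `⟨w, x⟩` in `T` fixing the five points, and a quaternion group `P` of
`T` centralising it -/
theorem Ctx.exists_x [Finite Y] (h : Ctx t f T w) : ∃ (x : Y) (P : Subgroup Y),
    x ∈ T ∧ x ∈ (Kf f : Subgroup Y) ∧ x * x = t ∧ x * w * x⁻¹ = w⁻¹ ∧ P ≤ T ∧
    P ≤ cen w x ⊓ Bf f ∧ ∀ σ ∈ V5, ∃ p ∈ P, Acts f p σ := by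
  obtain ⟨x₀, hx2, hxw, hxK⟩ := h.five.inv
  obtain ⟨Q, -, hQc, hQ, hs⟩ := h.five.exists_quat hC hx2 hxw hxK (Q₀ := ⊥) IsPGroup.of_bot bot_le
  -- the group of elements of `Bf f` normalising `⟨w⟩`
  let N : Subgroup Y :=
    { carrier := {g | g ∈ (Bf f : Subgroup Y) ∧ (g * w * g⁻¹ = w ∨ g * w * g⁻¹ = w⁻¹)}
      one_mem' := ⟨Subgroup.one_mem _, Or.inl (by group)⟩
      mul_mem' := by
        rintro a b ⟨ha, ha'⟩ ⟨hb, hb'⟩
        refine ⟨Subgroup.mul_mem _ ha hb, ?_⟩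
        have e : a * b * w * (a * b)⁻¹ = a * (b * w * b⁻¹) * a⁻¹ := by group
        rw [e]
        rcases hb' with hb' | hb' <;> rw [hb']
        · exact ha'
        · have e2 : a * w⁻¹ * a⁻¹ = (a * w * a⁻¹)⁻¹ := by group
          rw [e2]
          rcases ha' with ha' | ha' <;> rw [ha']
          · right; rfl
          · left; rw [inv_inv]
      inv_mem' := by
        rintro a ⟨ha, ha'⟩
        refine ⟨Subgroup.inv_mem _ ha, ?_⟩
        rcases ha' with ha' | ha'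
        · left
          calc a⁻¹ * w * a⁻¹⁻¹ = a⁻¹ * (a * w * a⁻¹) * a := by rw [ha']; group
            _ = w := by group
        · right
          calc a⁻¹ * w * a⁻¹⁻¹ = a⁻¹ * (w⁻¹)⁻¹ * a := by group
            _ = a⁻¹ * (a * w * a⁻¹)⁻¹ * a := by rw [ha']
            _ = w⁻¹ := by group }
  have hN : N ≤ Bf f := fun g hg => hg.1
  have hTN : (T ⊓ Bf f : Subgroup Y) ≤ N := fun g hg => ⟨hg.2, h.norm g hg.1⟩
  have hTB : SylIn.SylIn (T ⊓ Bf f) N := (h.sylB hC).of_le hTN hN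
  -- the 2-group `Q ⊔ ⟨x₀⟩`
  have hx4 : IsPGroup 2 (zpowers x₀) := by
    rintro ⟨g, hg⟩
    obtain ⟨k, rfl⟩ := Subgroup.mem_zpowers_iff.1 hg
    refine ⟨2, Subtype.ext ?_⟩
    show (x₀ ^ k) ^ (2 ^ 2) = 1
    have h4 : x₀ ^ (4 : ℕ) = 1 := by
      have : x₀ ^ 4 = (x₀ * x₀) * (x₀ * x₀) := by
        simp only [pow_succ, pow_zero, one_mul, mul_assoc]
      rw [this, hx2, hC.sq]
    calc (x₀ ^ k) ^ (2 ^ 2) = (x₀ ^ (4 : ℕ)) ^ k := by
          rw [← zpow_natCast, ← zpow_natCast, ← zpow_mul, ← zpow_mul, mul_comm]; norm_num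
      _ = 1 := by rw [h4, one_zpow]
  have hnorm : zpowers x₀ ≤ Subgroup.normalizer (Q : Set Y) := by
    rw [Subgroup.zpowers_le, Subgroup.mem_normalizer_iff]
    intro q
    have key : ∀ q ∈ Q, x₀ * q * x₀⁻¹ = q := fun q hq => by
      rw [← (hQc hq).1.2]; group
    constructor
    · intro hq
      rw [key q hq]; exact hq
    · intro hq
      have h1 := key _ hq
      have : x₀ * q * x₀⁻¹ = q := by
        have h2 : x₀ * (x₀ * q * x₀⁻¹) * x₀⁻¹ = x₀ * (q) * x₀⁻¹ := by rw [h1]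
        have h3 := mul_right_cancel (mul_left_cancel (a := x₀) (by
          calc x₀ * ((x₀ * q * x₀⁻¹) * x₀⁻¹) = x₀ * (x₀ * q * x₀⁻¹) * x₀⁻¹ := by group
            _ = x₀ * (q * x₀⁻¹) := by rw [h2]; group))
        exact h3
      rw [this] at hq
      exact hq
  have hQx : IsPGroup 2 (Q ⊔ zpowers x₀ : Subgroup Y) :=
    IsPGroup.to_sup_of_normal_left' hQ hx4 hnorm
  have hQxN : (Q ⊔ zpowers x₀ : Subgroup Y) ≤ N := by
    rw [sup_le_iff]
    constructor
    · intro q hq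
      refine ⟨(hQc hq).2, Or.inl ?_⟩
      rw [(hQc hq).1.1]; group
    · rw [Subgroup.zpowers_le]
      exact ⟨Kf_le f _ hxK, Or.inr hxw⟩
  obtain ⟨b, hb, hbT⟩ := hTB.conj_le hQxN hQx
  have hx₀mem : x₀ ∈ (Q ⊔ zpowers x₀ : Subgroup Y) :=
    (le_sup_right : zpowers x₀ ≤ _) (Subgroup.mem_zpowers x₀)
  have hbM : b ∈ (Mf f : Subgroup Y) := ActSub_mono f le_top hb.1
  refine ⟨b * x₀ * b⁻¹, cj b Q, (hbT _ hx₀mem).1, Kf_conj hbM hxK, ?_, ?_, ?_, ?_, ?_⟩
  · calc b * x₀ * b⁻¹ * (b * x₀ * b⁻¹) = b * (x₀ * x₀) * b⁻¹ := by group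
      _ = t := by rw [hx2, hC.central]; group
  · rcases hb.2 with h1 | h1
    · calc b * x₀ * b⁻¹ * w * (b * x₀ * b⁻¹)⁻¹
          = b * x₀ * b⁻¹ * (b * w * b⁻¹) * (b * x₀ * b⁻¹)⁻¹ := by rw [h1]
        _ = b * (x₀ * w * x₀⁻¹) * b⁻¹ := by group
        _ = (b * w * b⁻¹)⁻¹ := by rw [hxw]; group
        _ = w⁻¹ := by rw [h1]
    · have h2 : b * w⁻¹ * b⁻¹ = w := by
        calc b * w⁻¹ * b⁻¹ = (b * w * b⁻¹)⁻¹ := by group
          _ = w := by rw [h1, inv_inv]
      calc b * x₀ * b⁻¹ * w * (b * x₀ * b⁻¹)⁻¹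
          = b * x₀ * b⁻¹ * (b * w⁻¹ * b⁻¹) * (b * x₀ * b⁻¹)⁻¹ := by rw [h2]
        _ = b * (x₀ * w * x₀⁻¹)⁻¹ * b⁻¹ := by group
        _ = b * w * b⁻¹ := by rw [hxw, inv_inv]
        _ = w⁻¹ := h1
  · rintro _ ⟨q, hq, rfl⟩
    exact (hbT q ((le_sup_left : Q ≤ _) hq)).1
  · rintro _ ⟨q, hq, rfl⟩
    refine ⟨⟨?_, ?_⟩, (hbT q ((le_sup_left : Q ≤ _) hq)).2⟩
    · show b * q * b⁻¹ * w = w * (b * q * b⁻¹)
      have hqw := (hQc hq).1.1
      have hqw' : q * w⁻¹ = w⁻¹ * q := by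
        calc q * w⁻¹ = w⁻¹ * (w * q) * w⁻¹ := by group
          _ = w⁻¹ * (q * w) * w⁻¹ := by rw [hqw]
          _ = w⁻¹ * q := by group
      rcases hb.2 with h1 | h1
      · calc b * q * b⁻¹ * w = b * q * b⁻¹ * (b * w * b⁻¹) := by rw [h1]
          _ = b * (q * w) * b⁻¹ := by group
          _ = (b * w * b⁻¹) * (b * q * b⁻¹) := by rw [hqw]; group
          _ = w * (b * q * b⁻¹) := by rw [h1]
      · have h2 : b * w⁻¹ * b⁻¹ = w := by
          calc b * w⁻¹ * b⁻¹ = (b * w * b⁻¹)⁻¹ := by group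
            _ = w := by rw [h1, inv_inv]
        calc b * q * b⁻¹ * w = b * q * b⁻¹ * (b * w⁻¹ * b⁻¹) := by rw [h2]
          _ = b * (q * w⁻¹) * b⁻¹ := by group
          _ = (b * w⁻¹ * b⁻¹) * (b * q * b⁻¹) := by rw [hqw']; group
          _ = w * (b * q * b⁻¹) := by rw [h2]
    · show b * q * b⁻¹ * (b * x₀ * b⁻¹) = b * x₀ * b⁻¹ * (b * q * b⁻¹)
      calc b * q * b⁻¹ * (b * x₀ * b⁻¹) = b * (q * x₀) * b⁻¹ := by group
        _ = b * (x₀ * q) * b⁻¹ := by rw [(hQc hq).1.2]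
        _ = b * x₀ * b⁻¹ * (b * q * b⁻¹) := by group
  · intro σ hσ
    obtain ⟨q, hq, hqσ⟩ := hs σ hσ
    obtain ⟨β, hβ, hbβ⟩ := hb.1
    refine ⟨b * q * b⁻¹, conj_mem_cj hq, ?_⟩
    have h1 := hbβ.conj hqσ
    have e : β * σ * β⁻¹ = σ := by rw [V5_comm hβ hσ]; group
    rwa [e] at h1

end

/-- the computation with anticommuting elements of square `t` -/
theorem pair_of {t u x k l : Y} (hc : ∀ g : Y, g * t = t * g) (ht : t * t = 1)
    (hk : k * k = t) (hx : x * x = t) (hl : l * l = t)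
    (hxu : x * u = u * x * t) (hlk : l * k = k * l * t) (hxk : x * k = k * x)
    (hxl : x * l = l * x) (hul : u * l = l * u) (huk : u * k = k * u) :
    (x * l) * (x * l) = 1 ∧ (x * (k * l)) * (x * (k * l)) = 1 ∧
    (x * l) * (u * k) = (u * k) * (x * l) ∧ (x * (k * l)) * (u * k) = (u * k) * (x * (k * l)) ∧
    (x * l) * (x * (k * l)) * (x * l) * (x * (k * l)) = t := by
  have ekl : (k * l) * (k * l) = t := by
    calc (k * l) * (k * l) = k * (l * k) * l := by group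
      _ = k * (k * l * t) * l := by rw [hlk]
      _ = (k * k) * l * (t * l) := by group
      _ = (k * k) * l * (l * t) := by rw [hc l]
      _ = (k * k) * (l * l) * t := by group
      _ = t := by rw [hk, hl, ht, one_mul]
  have exkl : x * (k * l) = (k * l) * x := by
    calc x * (k * l) = (x * k) * l := by group
      _ = k * (x * l) := by rw [hxk]; group
      _ = (k * l) * x := by rw [hxl]; group
  have ea : (x * l) * (x * l) = 1 := by
    calc (x * l) * (x * l) = x * (l * x) * l := by group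
      _ = (x * x) * (l * l) := by rw [← hxl]; group
      _ = 1 := by rw [hx, hl, ht]
  refine ⟨ea, ?_, ?_, ?_, ?_⟩
  · calc (x * (k * l)) * (x * (k * l)) = x * ((k * l) * x) * (k * l) := by group
      _ = (x * x) * ((k * l) * (k * l)) := by rw [← exkl]; group
      _ = 1 := by rw [hx, ekl, ht]
  · calc (x * l) * (u * k) = x * (l * u) * k := by group
      _ = (x * u) * (l * k) := by rw [← hul]; group
      _ = (u * x * t) * (k * l * t) := by rw [hxu, hlk]
      _ = u * x * (t * (k * l)) * t := by group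
      _ = u * x * ((k * l) * t) * t := by rw [hc (k * l)]
      _ = u * x * (k * l) * (t * t) := by group
      _ = u * (x * k) * l := by rw [ht]; group
      _ = (u * k) * (x * l) := by rw [hxk]; group
  · calc (x * (k * l)) * (u * k) = x * k * (l * u) * k := by group
      _ = (x * k) * u * (l * k) := by rw [← hul]; group
      _ = (k * x) * u * (k * l * t) := by rw [hxk, hlk]
      _ = k * (x * u) * (k * l * t) := by group
      _ = k * (u * x * t) * (k * l * t) := by rw [hxu]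
      _ = k * u * x * (t * (k * l)) * t := by group
      _ = k * u * x * ((k * l) * t) * t := by rw [hc (k * l)]
      _ = k * u * (x * (k * l)) * (t * t) := by group
      _ = k * u * (x * (k * l)) := by rw [ht, mul_one]
      _ = (u * k) * (x * (k * l)) := by rw [huk]
  · have e1 : l * k * l = k := by
      calc l * k * l = k * l * (t * l) := by rw [hlk]; group
        _ = k * l * (l * t) := by rw [hc l]
        _ = k * (l * l) * t := by group
        _ = k * (t * t) := by rw [hl]; group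
        _ = k := by rw [ht, mul_one]
    have e2 : (x * l) * (x * (k * l)) = t * k := by
      calc (x * l) * (x * (k * l)) = x * (l * x) * (k * l) := by group
        _ = (x * x) * (l * k * l) := by rw [← hxl]; group
        _ = t * k := by rw [hx, e1]
    calc (x * l) * (x * (k * l)) * (x * l) * (x * (k * l))
        = ((x * l) * (x * (k * l))) * ((x * l) * (x * (k * l))) := by group
      _ = (t * k) * (t * k) := by rw [e2]
      _ = t * (k * t) * k := by group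
      _ = (t * t) * (k * k) := by rw [hc k]; group
      _ = t := by rw [ht, hk, one_mul]

end Cfsg.Agent.TwoGenNine.SwapCtx
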