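import Mathlib
import Cfsg.Agent.TwoGenNine.SwapCtx

/-!
# S1728, (5.6): two involutions with commutator `t` commuting with a given involution
-/

set_option autoImplicit false

namespace Cfsg.Agent.TwoGenNine.SwapPair

open Subgroup Equiv FiveLabel SylIn QuatSub FiveAct FiveBasic SwapCtx
open Cfsg.Agent.TwoGenCore.W2Base (Inv Base Bad BadInv NonIso)

variable {Y : Type*} [Group Y] {D : Type*} [MulAction Y D]

theorem isPGroup_zpowers_of_sq {t k : Y} (ht : t * t = 1) (hk : k * k = t) :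
    IsPGroup 2 (zpowers k) := by
  rintro ⟨g, hg⟩
  obtain ⟨m, rfl⟩ := Subgroup.mem_zpowers_iff.1 hg
  refine ⟨2, Subtype.ext ?_⟩
  show (k ^ m) ^ (2 ^ 2) = 1
  have h4 : k ^ (4 : ℕ) = 1 := by
    have : k ^ 4 = (k * k) * (k * k) := by
      simp only [pow_succ, pow_zero, one_mul, mul_assoc]
    rw [this, hk, ht]
  calc (k ^ m) ^ (2 ^ 2) = (k ^ (4 : ℕ)) ^ m := by
        rw [← zpow_natCast, ← zpow_natCast, ← zpow_mul, ← zpow_mul, mul_comm]; norm_num
    _ = 1 := by rw [h4, one_zpow]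

/-- `x` inverts `u`, both of square `t`: `x u = u x t` -/
theorem anti_of_inverts {t u x : Y} (hc : ∀ g : Y, g * t = t * g) (ht : t * t = 1)
    (hu : u * u = t) (h : x * u * x⁻¹ = u⁻¹) : x * u = u * x * t := by
  have h1 : x * u = u⁻¹ * x := by rw [← h]; group
  rw [h1, inv_eq_mul ht hu, mul_assoc, ← hc x, ← mul_assoc]

variable {t : Y} (hC : Cen D t)
include hC

variable {f : Fin 5 → D} {T : Subgroup Y} {w : Y}

/-- An element of `T` fixing the labelled points and inverting `w` has square `t`. -/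
theorem Ctx.sq_of_inv (h : Ctx t f T w) {u : Y} (hu : u ∈ T) (huK : u ∈ (Kf f : Subgroup Y))
    (huw : u * w * u⁻¹ = w⁻¹) : u * u = t :=
  sq_of_inverts hC.ne hC.sq hC.central (h.two hC |>.to_le (inf_le_left : T ⊓ Kf f ≤ T))
    ((hC.uniq_Kf h.five.inj).mono inf_le_right) ⟨h.wT, h.wK hC⟩ h.five.sq ⟨hu, huK⟩ huw

theorem Ctx.exists_pair [Finite Y] (h : Ctx t f T w) {j : Y} (hj : j ∈ T) (hj2 : j * j = 1)
    (hj1 : j ≠ 1) (hjt : j ≠ t) :
    ∃ a b : Y, a * a = 1 ∧ b * b = 1 ∧ a * j = j * a ∧ b * j = j * b ∧ a * b * a * b = t := by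
  obtain ⟨x, P, hxT, hxK, hx2, hxw, hPT, hPc, hPs⟩ := h.exists_x hC
  have hP2 : IsPGroup 2 P := (h.two hC).to_le hPT
  have hPcen : P ≤ cen w x := hPc.trans inf_le_left
  obtain ⟨σ, hσ, hσ0⟩ := h.acts hC hj
  obtain ⟨hσV, hσ1⟩ := hC.invol_acts h.five.inj hj2 hj1 hjt hσ hσ0
  obtain ⟨k, hk, hkσ⟩ := hPs σ hσV
  have hk2 : k * k = t :=
    h.five.sq_of_acts hC hx2 hxw hxK hP2 hPcen hk hkσ hσ1 (V5_sq hσV)
  have hkinv : k⁻¹ = k * t := inv_eq_mul hC.sq hk2
  obtain ⟨u, hu⟩ : ∃ u, u = j * k⁻¹ := ⟨_, rfl⟩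
  have hju : j = u * k := by rw [hu]; group
  have huK : u ∈ (Kf f : Subgroup Y) := by rw [hu]; exact mul_inv_mem_Kf hσ hkσ
  have huT : u ∈ T := by rw [hu]; exact T.mul_mem hj (T.inv_mem (hPT hk))
  have hu1 : u ≠ 1 := by
    rintro rfl
    rw [one_mul] at hju
    rw [hju, hk2] at hj2
    exact hC.ne hj2
  have hut : u ≠ t := by
    rintro rfl
    apply hC.ne
    have : j * j = (u * u) * (k * k) := by
      rw [hju]
      calc u * k * (u * k) = u * (k * u) * k := by group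
        _ = (u * u) * (k * k) := by rw [hC.central k]; group
    rw [hj2, hC.sq, hk2, one_mul] at this
    exact this.symm
  -- the action of `k` on `u`
  have hkuk : k * u * k⁻¹ = u⁻¹ * t := by
    have h1 : u * (k * u * k⁻¹) * (k * k) = 1 := by
      calc u * (k * u * k⁻¹) * (k * k) = (u * k) * (u * k) := by group
        _ = 1 := by rw [← hju]; exact hj2
    rw [hk2] at h1
    calc k * u * k⁻¹ = u⁻¹ * (u * (k * u * k⁻¹) * t) * t⁻¹ := by group
      _ = u⁻¹ * t⁻¹ := by rw [h1, mul_one]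
      _ = u⁻¹ * t := by rw [inv_eq_of_mul_eq_one_right hC.sq]
  have hkw : k * w = w * k := (hPcen hk).1
  have hkx : k * x = x * k := (hPcen hk).2
  obtain ⟨τ, hτV, hτ1, hτσ⟩ := exists_other hσV hσ1
  rcases h.norm u huT with huw | huw
  · -- `u` commutes with `w`
    have hcu : u * w = w * u := by
      calc u * w = (u * w * u⁻¹) * u := by group
        _ = w * u := by rw [huw]
    have hU2 : IsPGroup 2 (T ⊓ Kf f : Subgroup Y) := (h.two hC).to_le inf_le_left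
    have hUu : Uniq t (T ⊓ Kf f : Subgroup Y) := (hC.uniq_Kf h.five.inj).mono inf_le_right
    obtain ⟨n, hn⟩ := exists_pow hU2 hUu ⟨huT, huK⟩ hu1 hut
    have hcn : u ^ (2 ^ n) * w = w * u ^ (2 ^ n) := Commute.pow_left hcu (2 ^ n)
    have hmem : u ^ (2 ^ n) * w ∈ (T ⊓ Kf f : Subgroup Y) :=
      ⟨T.mul_mem (T.pow_mem huT _) h.wT, Subgroup.mul_mem _ (Subgroup.pow_mem _ huK _) (h.wK hC)⟩
    have hpw := eq_or_eq_inv hUu hC.sq h.five.sq hn hcn hmem
    have hkn : k * u ^ (2 ^ n) * k⁻¹ = u ^ (2 ^ n) := by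
      rcases hpw with h1 | h1
      · rw [h1, hkw]; group
      · rw [h1]
        calc k * w⁻¹ * k⁻¹ = (k * w * k⁻¹)⁻¹ := by group
          _ = w⁻¹ := by rw [hkw]; group
    have hn0 : n = 0 := by
      by_contra hn0
      obtain ⟨m, rfl⟩ := Nat.exists_eq_succ_of_ne_zero hn0
      have ht2 : t ^ (2 ^ (m + 1)) = 1 := by
        rw [pow_succ', pow_mul, pow_two, hC.sq, one_pow]
      have h1 : k * u ^ (2 ^ (m + 1)) * k⁻¹ = (u ^ (2 ^ (m + 1)))⁻¹ := by
        have hcomm : Commute u⁻¹ t := (hC.central u⁻¹)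
        calc k * u ^ (2 ^ (m + 1)) * k⁻¹ = (k * u * k⁻¹) ^ (2 ^ (m + 1)) := (conj_pow).symm
          _ = (u⁻¹ * t) ^ (2 ^ (m + 1)) := by rw [hkuk]
          _ = (u ^ (2 ^ (m + 1)))⁻¹ := by rw [hcomm.mul_pow, ht2, mul_one, inv_pow]
      rw [hkn] at h1
      have h2 : u ^ (2 ^ (m + 1)) * u ^ (2 ^ (m + 1)) = 1 := by
        nth_rewrite 1 [h1]
        rw [inv_mul_cancel]
      rw [hn] at h2
      exact hC.ne h2
    subst hn0
    rw [pow_zero, pow_one] at hn hpw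
    obtain ⟨l, hl, hlτ⟩ := hPs τ hτV
    have hl2 : l * l = t :=
      h.five.sq_of_acts hC hx2 hxw hxK hP2 hPcen hl hlτ hτ1 (V5_sq hτV)
    have hlk := h.five.anticomm hC hx2 hxw hxK hP2 hPcen hl hk hlτ hkσ hτV hσV hτ1 hσ1 hτσ
    have hlw : l * w = w * l := (hPcen hl).1
    have hlx : l * x = x * l := (hPcen hl).2
    have hxw' : x * u * x⁻¹ = u⁻¹ := by
      rcases hpw with h1 | h1
      · rw [h1]; exact hxw
      · rw [h1]
        calc x * w⁻¹ * x⁻¹ = (x * w * x⁻¹)⁻¹ := by group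
          _ = w⁻¹⁻¹ := by rw [hxw]
    have hcom : ∀ p : Y, p * w = w * p → u * p = p * u := by
      intro p hp
      rcases hpw with h1 | h1
      · rw [h1, hp]
      · rw [h1]
        calc w⁻¹ * p = w⁻¹ * (p * w) * w⁻¹ := by group
          _ = p * w⁻¹ := by rw [hp]; group
    obtain ⟨e1, e2, e3, e4, e5⟩ := pair_of hC.central hC.sq hk2 hx2 hl2
      (anti_of_inverts hC.central hC.sq hn hxw') hlk hkx.symm hlx.symm (hcom l hlw) (hcom k hkw)
    exact ⟨x * l, x * (k * l), e1, e2, by rw [hju]; exact e3, by rw [hju]; exact e4, e5⟩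
  · -- `u` inverts `w`
    have hu2 : u * u = t := Ctx.sq_of_inv hC h huT huK huw
    have huinv : u⁻¹ = u * t := inv_eq_mul hC.sq hu2
    have hku : k * u = u * k := by
      have h1 : k * u * k⁻¹ = u := by
        rw [hkuk, huinv, mul_assoc, hC.sq, mul_one]
      calc k * u = (k * u * k⁻¹) * k := by group
        _ = u * k := by rw [h1]
    have hkz : zpowers k ≤ cen w u ⊓ Bf f := by
      rw [Subgroup.zpowers_le]
      exact ⟨⟨hkw, hku⟩, ⟨σ, hσV, hkσ⟩⟩
    obtain ⟨Q, hkQ, hQc, hQ2, hQs⟩ := h.five.exists_quat hC hu2 huw huK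
      (isPGroup_zpowers_of_sq hC.sq hk2) hkz
    have hQcen : Q ≤ cen w u := hQc.trans inf_le_left
    have hkQ' : k ∈ Q := hkQ (Subgroup.mem_zpowers k)
    obtain ⟨l, hl, hlτ⟩ := hQs τ hτV
    have hl2 : l * l = t :=
      h.five.sq_of_acts hC hu2 huw huK hQ2 hQcen hl hlτ hτ1 (V5_sq hτV)
    have hlk := h.five.anticomm hC hu2 huw huK hQ2 hQcen hl hkQ' hlτ hkσ hτV hσV hτ1 hσ1 hτσ
    have hlw : l * w = w * l := (hQcen hl).1
    have hlu : l * u = u * l := (hQcen hl).2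
    have hwu : w * u * w⁻¹ = u⁻¹ := inverts_symm hC.sq h.five.sq hu2 huw
    obtain ⟨e1, e2, e3, e4, e5⟩ := pair_of hC.central hC.sq hk2 h.five.sq hl2
      (anti_of_inverts hC.central hC.sq hu2 hwu) hlk hkw.symm hlw.symm hlu.symm hku.symm
    exact ⟨w * l, w * (k * l), e1, e2, by rw [hju]; exact e3, by rw [hju]; exact e4, e5⟩

end Cfsg.Agent.TwoGenNine.SwapPair
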