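import Mathlib
import Cfsg.Agent.TwoGenNine.SwapPair

/-!
# S1728, (5.7): the conjugate of the quaternion group

Let `y` normalise `T` without stabilising the five labelled points.  Then the group
`U = T ∩ Kf f` is quaternion of order 8 and `y U y⁻¹ = P` is the quaternion group of
`Ctx.exists_x`.
-/

set_option autoImplicit false

namespace Cfsg.Agent.TwoGenNine.SwapConj

open Subgroup Equiv FiveLabel SylIn QuatSub FiveAct FiveBasic SwapCtx SwapPair
open Cfsg.Agent.TwoGenCore.W2Base (Inv Base Bad BadInv NonIso)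

variable {Y : Type*} [Group Y] {D : Type*} [MulAction Y D]

/-- the data of `Ctx.exists_x` -/
structure Quat (t : Y) (f : Fin 5 → D) (T : Subgroup Y) (w x : Y) (P : Subgroup Y) : Prop where
  ctx : Ctx t f T w
  xT : x ∈ T
  xK : x ∈ (Kf f : Subgroup Y)
  x2 : x * x = t
  xw : x * w * x⁻¹ = w⁻¹
  PT : P ≤ T
  Pc : P ≤ cen w x ⊓ Bf f
  Ps : ∀ σ ∈ V5, ∃ p ∈ P, Acts f p σ

variable {t : Y} (hC : Cen D t)
include hC

variable {f : Fin 5 → D} {T : Subgroup Y} {w x : Y} {P : Subgroup Y}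

theorem exists_quat [Finite Y] (h : Ctx t f T w) : ∃ x P, Quat t f T w x P := by
  obtain ⟨x, P, h1, h2, h3, h4, h5, h6, h7⟩ := h.exists_x hC
  exact ⟨x, P, h, h1, h2, h3, h4, h5, h6, h7⟩

theorem Quat.P2 (h : Quat t f T w x P) : IsPGroup 2 P := (h.ctx.two hC).to_le h.PT

theorem Quat.Pcen (h : Quat t f T w x P) : P ≤ cen w x := h.Pc.trans inf_le_left

theorem Quat.tP (h : Quat t f T w x P) : t ∈ P :=
  (h.ctx.five.sylIn_of_surj hC h.x2 h.xw h.xK (h.P2 hC) h.Pc h.Ps).1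

theorem Quat.P_inf (h : Quat t f T w x P) {p : Y} (hp : p ∈ P) (hpK : p ∈ (Kf f : Subgroup Y)) :
    p = 1 ∨ p = t :=
  h.ctx.five.two_group hC h.x2 h.xw h.xK (h.P2 hC) (h.Pcen hC) p hp hpK

theorem Quat.P_sq (h : Quat t f T w x P) {p : Y} (hp : p ∈ P) (h1 : p ≠ 1) (ht : p ≠ t) :
    p * p = t := by
  obtain ⟨σ, hσ, hpσ⟩ := (h.Pc hp).2
  refine h.ctx.five.sq_of_acts hC h.x2 h.xw h.xK (h.P2 hC) (h.Pcen hC) hp hpσ ?_ (V5_sq hσ)
  rintro rfl
  rcases h.P_inf hC hp hpσ with h2 | h2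
  · exact h1 h2
  · exact ht h2

theorem Quat.card_P [Finite Y] (h : Quat t f T w x P) : Nat.card P = 8 := by
  have hf := h.ctx.five.inj
  let φ := permHom f hf V5 P (h.Pc.trans inf_le_right)
  have hsurj : Function.Surjective φ := by
    rintro ⟨σ, hσ⟩
    obtain ⟨p, hp, hpσ⟩ := h.Ps σ hσ
    refine ⟨⟨p, hp⟩, Subtype.ext ?_⟩
    exact (permHom_acts hf _ ⟨p, hp⟩).unique hf hpσ
  have hker : (φ.ker : Set P) = {1, ⟨t, h.tP hC⟩} := by
    ext p
    rw [SetLike.mem_coe, MonoidHom.mem_ker]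
    simp only [Set.mem_insert_iff, Set.mem_singleton_iff]
    constructor
    · intro hp
      have h1 := permHom_acts hf (h.Pc.trans inf_le_right) p
      have h2 : ((permHom f hf V5 P (h.Pc.trans inf_le_right) p : V5) : P5) = 1 := by
        show ((φ p : V5) : P5) = 1
        rw [hp]; rfl
      rw [h2] at h1
      rcases h.P_inf hC p.2 h1 with h3 | h3
      · left; exact Subtype.ext h3
      · right; exact Subtype.ext h3
    · intro hp
      have hpK : (p : Y) ∈ (Kf f : Subgroup Y) := by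
        rcases hp with rfl | rfl
        · exact Subgroup.one_mem _
        · exact hC.t_mem_Kf f
      apply Subtype.ext
      exact (permHom_acts hf _ p).unique hf (acts_one_iff.2 hpK)
  have hne : (1 : P) ≠ ⟨t, h.tP hC⟩ := by
    intro h1
    exact hC.ne (congrArg Subtype.val h1).symm
  have hk2 : Nat.card φ.ker = 2 := by
    have : Nat.card φ.ker = (φ.ker : Set P).ncard := rfl
    rw [this, hker, Set.ncard_pair hne]
  have hV : Nat.card V5 = 4 := by
    have : Nat.card V5 = (V5 : Set P5).ncard := rfl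
    rw [this]
    have hset : (V5 : Set P5) = (({1, a5, b5, c5} : Finset P5) : Set P5) := by
      ext σ
      simp [mem_V5]
    rw [hset, Set.ncard_coe_finset]
    decide
  have hidx : φ.ker.index = 4 := by
    rw [Subgroup.index_ker, MonoidHom.range_eq_top.2 hsurj, Subgroup.card_top, hV]
  have := Subgroup.card_mul_index φ.ker
  rw [hk2, hidx] at this
  omega

section

variable {y : Y} (hyT : ∀ s, s ∈ T ↔ y * s * y⁻¹ ∈ T) (hyM : y ∉ (Mf f : Subgroup Y))
include hyT hyM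

theorem Quat.step1 [Finite Y] (h : Quat t f T w x P) {u : Y} (hu : u ∈ T)
    (huK : u ∈ (Kf f : Subgroup Y)) (hu2 : u * u = t) : y * u * y⁻¹ ∉ (Kf f : Subgroup Y) := by
  intro hcon
  have F2 : Five t f (y * u * y⁻¹) := h.ctx.all _ ((hyT u).1 hu) hcon (by
    calc y * u * y⁻¹ * (y * u * y⁻¹) = y * (u * u) * y⁻¹ := by group
      _ = t := by rw [hu2, hC.central]; group)
  apply hyM
  apply mem_Mf_of h.ctx.five.inj
  intro i
  obtain ⟨j, hj⟩ := (F2.fix (y • f i)).1 (by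
    rw [mul_smul, mul_smul, inv_smul_smul, huK i])
  exact ⟨j, hj.symm⟩

theorem Quat.step2 [Finite Y] (h : Quat t f T w x P) {v : Y} (hv : v ∈ T)
    (hvK : v ∈ (Kf f : Subgroup Y)) (hyv : y * v * y⁻¹ ∈ (Kf f : Subgroup Y)) :
    v = 1 ∨ v = t := by
  by_contra hcon
  push Not at hcon
  obtain ⟨n, hn⟩ := exists_pow (U := T ⊓ Kf f) ((h.ctx.two hC).to_le inf_le_left)
    ((hC.uniq_Kf h.ctx.five.inj).mono inf_le_right) ⟨hv, hvK⟩ hcon.1 hcon.2
  apply h.step1 hC hyT hyM (T.pow_mem hv (2 ^ n)) (Subgroup.pow_mem _ hvK (2 ^ n)) hn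
  rw [← conj_pow]
  exact Subgroup.pow_mem _ hyv _

theorem inv_mem_T {s : Y} (hs : s ∈ T) : y⁻¹ * s * y ∈ T := by
  rw [hyT]
  have : y * (y⁻¹ * s * y) * y⁻¹ = s := by group
  rw [this]; exact hs

theorem Quat.step3 [Finite Y] (h : Quat t f T w x P) {u v : Y} (hu : u ∈ T)
    (huK : u ∈ (Kf f : Subgroup Y)) (hv : v ∈ T) (hvK : v ∈ (Kf f : Subgroup Y)) :
    u * (y * v * y⁻¹) = (y * v * y⁻¹) * u ∨ u * (y * v * y⁻¹) = (y * v * y⁻¹) * u * t := by
  obtain ⟨v', hv'⟩ : ∃ v', v' = y * v * y⁻¹ := ⟨_, rfl⟩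
  have hv'T : v' ∈ T := by rw [hv']; exact (hyT v).1 hv
  rw [← hv']
  have hzK : u * v' * u⁻¹ * v'⁻¹ ∈ (Kf f : Subgroup Y) := by
    have h1 : v' * u⁻¹ * v'⁻¹ ∈ (Kf f : Subgroup Y) :=
      Kf_conj (h.ctx.syl.1 hv'T) (Subgroup.inv_mem _ huK)
    have e : u * v' * u⁻¹ * v'⁻¹ = u * (v' * u⁻¹ * v'⁻¹) := by group
    rw [e]; exact Subgroup.mul_mem _ huK h1
  have hu' : y⁻¹ * u * y ∈ T := inv_mem_T hC hyT hyM hu
  have hzK' : y⁻¹ * (u * v' * u⁻¹ * v'⁻¹) * y ∈ (Kf f : Subgroup Y) := by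
    have e : y⁻¹ * (u * v' * u⁻¹ * v'⁻¹) * y
        = ((y⁻¹ * u * y) * v * (y⁻¹ * u * y)⁻¹) * v⁻¹ := by rw [hv']; group
    rw [e]
    exact Subgroup.mul_mem _ (Kf_conj (h.ctx.syl.1 hu') hvK) (Subgroup.inv_mem _ hvK)
  have hzT : u * v' * u⁻¹ * v'⁻¹ ∈ T :=
    T.mul_mem (T.mul_mem (T.mul_mem hu hv'T) (T.inv_mem hu)) (T.inv_mem hv'T)
  have hz := h.step2 hC hyT hyM (inv_mem_T hC hyT hyM hzT) hzK' (by
    have e : y * (y⁻¹ * (u * v' * u⁻¹ * v'⁻¹) * y) * y⁻¹ = u * v' * u⁻¹ * v'⁻¹ := by group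
    rw [e]; exact hzK)
  rcases hz with hz | hz
  · left
    have e1 : u * v' * u⁻¹ * v'⁻¹ = 1 := by
      calc u * v' * u⁻¹ * v'⁻¹ = y * (y⁻¹ * (u * v' * u⁻¹ * v'⁻¹) * y) * y⁻¹ := by group
        _ = 1 := by rw [hz]; group
    calc u * v' = (u * v' * u⁻¹ * v'⁻¹) * (v' * u) := by group
      _ = v' * u := by rw [e1, one_mul]
  · right
    have e1 : u * v' * u⁻¹ * v'⁻¹ = t := by
      calc u * v' * u⁻¹ * v'⁻¹ = y * (y⁻¹ * (u * v' * u⁻¹ * v'⁻¹) * y) * y⁻¹ := by group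
        _ = t := by rw [hz, hC.central]; group
    calc u * v' = (u * v' * u⁻¹ * v'⁻¹) * (v' * u) := by group
      _ = v' * u * t := by rw [e1, hC.central]

theorem Quat.step4 [Finite Y] (h : Quat t f T w x P) {v : Y} (hv : v ∈ T)
    (hvK : v ∈ (Kf f : Subgroup Y)) (hv2 : v * v = t) :
    ∃ σ ∈ V5, σ ≠ 1 ∧ Acts f (y * v * y⁻¹) σ := by
  have hwT := h.ctx.wT
  have hwK := h.ctx.wK hC
  have hnot := h.step1 hC hyT hyM hv hvK hv2
  -- `y v y⁻¹` commutes with an element `q` of square `t`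
  have hq : ∃ q ∈ T, q ∈ (Kf f : Subgroup Y) ∧ q * q = t ∧
      q * (y * v * y⁻¹) = (y * v * y⁻¹) * q := by
    rcases h.step3 hC hyT hyM hwT hwK hv hvK with h1 | h1
    · exact ⟨w, hwT, hwK, h.ctx.five.sq, h1⟩
    rcases h.step3 hC hyT hyM h.xT h.xK hv hvK with h2 | h2
    · exact ⟨x, h.xT, h.xK, h.x2, h2⟩
    refine ⟨w * x, T.mul_mem hwT h.xT, Subgroup.mul_mem _ hwK h.xK,
      mul_sq hC.sq h.ctx.five.sq h.x2 h.xw, ?_⟩
    calc w * x * (y * v * y⁻¹) = w * (x * (y * v * y⁻¹)) := by group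
      _ = w * ((y * v * y⁻¹) * x * t) := by rw [h2]
      _ = (w * (y * v * y⁻¹)) * (x * t) := by group
      _ = ((y * v * y⁻¹) * w * t) * (x * t) := by rw [h1]
      _ = (y * v * y⁻¹) * w * (t * x) * t := by group
      _ = (y * v * y⁻¹) * w * (x * t) * t := by rw [hC.central x]
      _ = (y * v * y⁻¹) * (w * x) * (t * t) := by group
      _ = (y * v * y⁻¹) * (w * x) := by rw [hC.sq, mul_one]
  obtain ⟨q, hqT, hqK, hq2, hqc⟩ := hq
  obtain ⟨v', hv'⟩ : ∃ v', v' = y * v * y⁻¹ := ⟨_, rfl⟩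
  rw [← hv'] at hqc hnot ⊢
  have hv'T : v' ∈ T := by rw [hv']; exact (hyT v).1 hv
  have hv'2 : v' * v' = t := by
    rw [hv']
    calc y * v * y⁻¹ * (y * v * y⁻¹) = y * (v * v) * y⁻¹ := by group
      _ = t := by rw [hv2, hC.central]; group
  have hi2 : (q * v') * (q * v') = 1 := by
    calc (q * v') * (q * v') = q * (v' * q) * v' := by group
      _ = (q * q) * (v' * v') := by rw [← hqc]; group
      _ = 1 := by rw [hq2, hv'2, hC.sq]
  have hi1 : q * v' ≠ 1 := by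
    intro h1
    apply hnot
    have : v' = q⁻¹ := eq_inv_of_mul_eq_one_right h1
    rw [this]; exact Subgroup.inv_mem _ hqK
  have hit : q * v' ≠ t := by
    intro h1
    apply hnot
    have : v' = q⁻¹ * t := by rw [← h1]; group
    rw [this]; exact Subgroup.mul_mem _ (Subgroup.inv_mem _ hqK) (hC.t_mem_Kf f)
  obtain ⟨τ, hτ, hτ0⟩ := h.ctx.acts hC (T.mul_mem hqT hv'T)
  obtain ⟨hτV, hτ1⟩ := hC.invol_acts h.ctx.five.inj hi2 hi1 hit hτ hτ0
  refine ⟨τ, hτV, hτ1, ?_⟩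
  have h2 := (acts_one_iff.2 (Subgroup.inv_mem _ hqK)).mul hτ
  have e : q⁻¹ * (q * v') = v' := by group
  rw [e, one_mul] at h2
  exact h2

theorem Quat.step5 [Finite Y] (h : Quat t f T w x P) : ∃ σ ∈ V5, ∃ τ ∈ V5, σ ≠ 1 ∧ τ ≠ 1 ∧
    σ ≠ τ ∧ Acts f (y * w * y⁻¹) σ ∧ Acts f (y * x * y⁻¹) τ := by
  obtain ⟨σ, hσ, hσ1, hwσ⟩ := h.step4 hC hyT hyM h.ctx.wT (h.ctx.wK hC) h.ctx.five.sq
  obtain ⟨τ, hτ, hτ1, hxτ⟩ := h.step4 hC hyT hyM h.xT h.xK h.x2
  refine ⟨σ, hσ, τ, hτ, hσ1, hτ1, ?_, hwσ, hxτ⟩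
  rintro rfl
  apply h.step1 hC hyT hyM (T.mul_mem h.ctx.wT h.xT) (Subgroup.mul_mem _ (h.ctx.wK hC) h.xK)
    (mul_sq hC.sq h.ctx.five.sq h.x2 h.xw)
  have h1 := hwσ.mul hxτ
  rw [V5_sq hσ] at h1
  have e : y * w * y⁻¹ * (y * x * y⁻¹) = y * (w * x) * y⁻¹ := by group
  rw [e] at h1
  exact h1

/-- every element of square `t` of `T ∩ Kf f` is one of `w, x, w x` up to `t` -/
theorem Quat.step6 [Finite Y] (h : Quat t f T w x P) {v : Y} (hv : v ∈ T)
    (hvK : v ∈ (Kf f : Subgroup Y)) (hv2 : v * v = t) :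
    ∃ q, (q = w ∨ q = x ∨ q = w * x) ∧ (v = q ∨ v = t * q) := by
  obtain ⟨σ, hσ, τ, hτ, hσ1, hτ1, hστ, hwσ, hxτ⟩ := h.step5 hC hyT hyM
  obtain ⟨ρ, hρ, hρ1, hvρ⟩ := h.step4 hC hyT hyM hv hvK hv2
  have hwT := h.ctx.wT
  have hwK := h.ctx.wK hC
  have key : ∀ q, q ∈ T → q ∈ (Kf f : Subgroup Y) → Acts f (y * q * y⁻¹) ρ →
      (v = q ∨ v = t * q) := by
    intro q hqT hqK hqρ
    have h1 : y * (v * q⁻¹) * y⁻¹ ∈ (Kf f : Subgroup Y) := by
      have := mul_inv_mem_Kf hvρ hqρ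
      have e : y * v * y⁻¹ * (y * q * y⁻¹)⁻¹ = y * (v * q⁻¹) * y⁻¹ := by group
      rwa [e] at this
    rcases h.step2 hC hyT hyM (T.mul_mem hv (T.inv_mem hqT))
      (Subgroup.mul_mem _ hvK (Subgroup.inv_mem _ hqK)) h1 with h2 | h2
    · left; exact mul_inv_eq_one.1 h2
    · right; rw [← h2]; group
  rcases V5_span hσ hσ1 hτ hτ1 hστ hρ with h1 | h1 | h1 | h1
  · exact absurd h1 hρ1
  · subst h1
    exact ⟨w, Or.inl rfl, key w hwT hwK hwσ⟩
  · subst h1
    exact ⟨x, Or.inr (Or.inl rfl), key x h.xT h.xK hxτ⟩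
  · refine ⟨w * x, Or.inr (Or.inr rfl), key (w * x) (T.mul_mem hwT h.xT)
      (Subgroup.mul_mem _ hwK h.xK) ?_⟩
    have h2 := hwσ.mul hxτ
    rw [h1]
    have e : y * w * y⁻¹ * (y * x * y⁻¹) = y * (w * x) * y⁻¹ := by group
    rwa [e] at h2

/-- the elements of `T ∩ Kf f` -/
theorem Quat.step7 [Finite Y] (h : Quat t f T w x P) {u : Y} (hu : u ∈ T)
    (huK : u ∈ (Kf f : Subgroup Y)) : u = 1 ∨ u = t ∨
    (u * u = t ∧ ∃ q, (q = w ∨ q = x ∨ q = w * x) ∧ (u = q ∨ u = t * q)) := by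
  have hwT := h.ctx.wT
  have hwK := h.ctx.wK hC
  rcases h.ctx.norm u hu with h1 | h1
  · -- `u` commutes with `w`, so `u x` inverts `w`
    have hux : (u * x) * w * (u * x)⁻¹ = w⁻¹ := by
      calc (u * x) * w * (u * x)⁻¹ = u * (x * w * x⁻¹) * u⁻¹ := by group
        _ = (u * w * u⁻¹)⁻¹ := by rw [h.xw]; group
        _ = w⁻¹ := by rw [h1]
    have huxT := T.mul_mem hu h.xT
    have huxK := Subgroup.mul_mem _ huK h.xK
    obtain ⟨q, hq, hqu⟩ := h.step6 hC hyT hyM huxT huxK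
      (Ctx.sq_of_inv hC h.ctx huxT huxK hux)
    rcases hq with rfl | rfl | rfl
    · -- `u x = w` or `t w`: then `u x` commutes with `w`
      exfalso
      have hcomm : (u * x) * q * (u * x)⁻¹ = q := by
        rcases hqu with h2 | h2
        · rw [h2]; group
        · rw [h2, ← hC.central q]; 
          calc q * t * q * (q * t)⁻¹ = q * (t * q) * (q * t)⁻¹ := by group
            _ = q * (q * t) * (q * t)⁻¹ := by rw [hC.central q]
            _ = q := by group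
      rw [hcomm] at hux
      have : q * q = 1 := by
        nth_rewrite 2 [hux]
        group
      rw [h.ctx.five.sq] at this
      exact hC.ne this
    · rcases hqu with h2 | h2
      · left
        exact mul_eq_right.1 h2
      · right; left
        exact mul_right_cancel h2
    · rcases hqu with h2 | h2
      · have h3 : u = w := mul_right_cancel h2
        right; right
        exact ⟨by rw [h3]; exact h.ctx.five.sq, w, Or.inl rfl, Or.inl h3⟩
      · have h3 : u = t * w := by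
          rw [← mul_assoc] at h2
          exact mul_right_cancel h2
        right; right
        refine ⟨?_, w, Or.inl rfl, Or.inr h3⟩
        rw [h3, ← hC.central w]
        calc w * t * (w * t) = w * (t * w) * t := by group
          _ = (w * w) * (t * t) := by rw [← hC.central w]; group
          _ = t := by rw [h.ctx.five.sq, hC.sq, mul_one]
  · have h2 := Ctx.sq_of_inv hC h.ctx hu huK h1
    exact Or.inr (Or.inr ⟨h2, h.step6 hC hyT hyM hu huK h2⟩)

/-- the elements of `T ∩ Kf f` commute with `P` -/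
theorem Quat.comm [Finite Y] (h : Quat t f T w x P) {u p : Y} (hu : u ∈ T)
    (huK : u ∈ (Kf f : Subgroup Y)) (hp : p ∈ P) : u * p = p * u := by
  have hpw := (h.Pcen hC hp).1
  have hpx := (h.Pcen hC hp).2
  have hpt := hC.central p
  rcases h.step7 hC hyT hyM hu huK with rfl | rfl | ⟨-, q, hq, hqu⟩
  · simp
  · exact hpt.symm
  · have hqp : q * p = p * q := by
      rcases hq with rfl | rfl | rfl
      · exact hpw.symm
      · exact hpx.symm
      · calc w * x * p = w * (p * x) := by rw [hpx]; group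
          _ = (p * w) * x := by rw [hpw]; group
          _ = p * (w * x) := by group
    rcases hqu with rfl | rfl
    · exact hqp
    · calc t * q * p = t * (p * q) := by rw [mul_assoc, hqp]
        _ = (p * t) * q := by rw [hpt]; group
        _ = p * (t * q) := by group

theorem Quat.sq [Finite Y] (h : Quat t f T w x P) {u : Y} (hu : u ∈ T)
    (huK : u ∈ (Kf f : Subgroup Y)) (h1 : u ≠ 1) (ht : u ≠ t) : u * u = t := by
  rcases h.step7 hC hyT hyM hu huK with h2 | h2 | ⟨h2, -⟩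
  · exact absurd h2 h1
  · exact absurd h2 ht
  · exact h2

/-- (5.7) `y (T ∩ Kf f) y⁻¹ = P` -/
theorem Quat.cj_eq [Finite Y] (h : Quat t f T w x P) : cj y (T ⊓ Kf f) = P := by
  have hle : cj y (T ⊓ Kf f) ≤ P := by
    rintro _ ⟨v, ⟨hvT, hvK⟩, rfl⟩
    show y * v * y⁻¹ ∈ P
    by_cases hv1 : v = 1
    · rw [hv1]
      have : y * 1 * y⁻¹ = 1 := by group
      rw [this]; exact P.one_mem
    by_cases hvt : v = t
    · rw [hvt, hC.central]
      have : t * y * y⁻¹ = t := by group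
      rw [this]; exact h.tP hC
    have hv2 := h.sq hC hyT hyM hvT hvK hv1 hvt
    obtain ⟨σ, hσ, hσ1, hvσ⟩ := h.step4 hC hyT hyM hvT hvK hv2
    obtain ⟨p, hp, hpσ⟩ := h.Ps σ hσ
    have hv'T : y * v * y⁻¹ ∈ T := (hyT v).1 hvT
    obtain ⟨u, hu⟩ : ∃ u, u = y * v * y⁻¹ * p⁻¹ := ⟨_, rfl⟩
    have huT : u ∈ T := by rw [hu]; exact T.mul_mem hv'T (T.inv_mem (h.PT hp))
    have huK : u ∈ (Kf f : Subgroup Y) := by rw [hu]; exact mul_inv_mem_Kf hvσ hpσ
    have hup := h.comm hC hyT hyM huT huK hp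
    have hv' : y * v * y⁻¹ = u * p := by rw [hu]; group
    have hp2 : p * p = t := by
      refine h.P_sq hC hp ?_ ?_
      · rintro rfl
        exact hσ1 (hpσ.unique h.ctx.five.inj (Acts.one f))
      · rintro rfl
        exact hσ1 (hpσ.unique h.ctx.five.inj (acts_one_iff.2 (hC.t_mem_Kf f)))
    have hu2 : u * u = 1 := by
      have e1 : (y * v * y⁻¹) * (y * v * y⁻¹) = t := by
        calc y * v * y⁻¹ * (y * v * y⁻¹) = y * (v * v) * y⁻¹ := by group
          _ = t := by rw [hv2, hC.central]; group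
      have e2 : (u * p) * (u * p) = (u * u) * (p * p) := by
        calc (u * p) * (u * p) = u * (p * u) * p := by group
          _ = (u * u) * (p * p) := by rw [← hup]; group
      rw [hv', e2, hp2] at e1
      exact mul_eq_right.1 e1
    rw [hv']
    rcases hC.uniq_Kf h.ctx.five.inj u huK hu2 with rfl | rfl
    · rw [one_mul]; exact hp
    · exact P.mul_mem (h.tP hC) hp
  refine le_antisymm hle ?_
  intro p hp
  obtain ⟨ρ, hρ, hpρ⟩ := (h.Pc hp).2
  obtain ⟨σ, hσ, τ, hτ, hσ1, hτ1, hστ, hwσ, hxτ⟩ := h.step5 hC hyT hyM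
  have hwT := h.ctx.wT
  have hwK := h.ctx.wK hC
  have key : ∀ v, v ∈ T → v ∈ (Kf f : Subgroup Y) → Acts f (y * v * y⁻¹) ρ →
      p ∈ cj y (T ⊓ Kf f) := by
    intro v hvT hvK hvρ
    have h1 : y * v * y⁻¹ ∈ cj y (T ⊓ Kf f) := conj_mem_cj ⟨hvT, hvK⟩
    have h2 : p * (y * v * y⁻¹)⁻¹ ∈ (Kf f : Subgroup Y) := mul_inv_mem_Kf hpρ hvρ
    have h3 : p * (y * v * y⁻¹)⁻¹ ∈ P := P.mul_mem hp (P.inv_mem (hle h1))
    have h4 : p = (p * (y * v * y⁻¹)⁻¹) * (y * v * y⁻¹) := by group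
    rw [h4]
    refine Subgroup.mul_mem _ ?_ h1
    rcases h.P_inf hC h3 h2 with h5 | h5
    · rw [h5]; exact Subgroup.one_mem _
    · rw [h5, mem_cj]
      have e : y⁻¹ * t * y = t := by
        rw [hC.central y⁻¹]; group
      rw [e]
      exact ⟨h.ctx.tT hC, hC.t_mem_Kf f⟩
  rcases V5_span hσ hσ1 hτ hτ1 hστ hρ with h1 | h1 | h1 | h1
  · apply key 1 T.one_mem (Subgroup.one_mem _)
    have : y * 1 * y⁻¹ = 1 := by group
    rw [this, h1]; exact Acts.one f
  · subst h1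
    exact key w hwT hwK hwσ
  · subst h1
    exact key x h.xT h.xK hxτ
  · apply key (w * x) (T.mul_mem hwT h.xT) (Subgroup.mul_mem _ hwK h.xK)
    have h2 := hwσ.mul hxτ
    rw [h1]
    have e : y * w * y⁻¹ * (y * x * y⁻¹) = y * (w * x) * y⁻¹ := by group
    rwa [e] at h2

theorem Quat.card_U [Finite Y] (h : Quat t f T w x P) :
    Nat.card (T ⊓ Kf f : Subgroup Y) = 8 := by
  rw [← h.card_P hC, ← h.cj_eq hC hyT hyM, card_cj]

end

end Cfsg.Agent.TwoGenNine.SwapConj
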