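import Mathlib
import Cfsg.Agent.TwoGenNine.SwapConj
import Cfsg.Agent.TwoGenNine.Setup

/-!
# S1728, (5.6)-(5.8): the last configuration

`exists_hyp` : from an element of the five type and the fusion of `t` (Glauberman's theorem and
conjugation of 2-groups into `S`, structure `Fus`) we get helper909's `Setup.Hyp` and a Sylow
2-subgroup of `Y` which permutes the two quaternion groups.
-/

set_option autoImplicit false

namespace Cfsg.Agent.TwoGenNine.SwapMain

open Subgroup Equiv FiveLabel SylIn QuatSub FiveAct FiveBasic SwapCtx SwapPair SwapConj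
open Cfsg.Agent.TwoGenCore.W2Base (Inv Base Bad BadInv NonIso)
open Cfsg.Agent.TwoGenNine.Setup (Hyp FX mem_FX)

variable {Y : Type*} [Group Y] {D : Type*} [MulAction Y D]

/-- The fusion of `t`: `C` is the set of conjugates of `t` (in a bigger group) which lie in `Y`.
`zstar` is Glauberman's `Z*`-theorem, `ext` the conjugation of the 2-group `⟨τ, a, b⟩` into `S` by
an element moving `τ` to `t` (then `(a b)² = t` is moved to an involution different from `t`). -/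
structure Fus (t : Y) (S : Subgroup Y) (C : Set Y) : Prop where
  inv : ∀ τ ∈ C, τ * τ = 1 ∧ τ ≠ 1
  zstar : ∃ τ ∈ C, τ ∈ S ∧ τ ≠ t
  ext : ∀ τ ∈ C, τ ≠ t → ∀ a b : Y, a * a = 1 → b * b = 1 → a * τ = τ * a → b * τ = τ * b →
    a * b * a * b = t → ∃ a' ∈ S, ∃ b' ∈ S, a' * a' = 1 ∧ b' * b' = 1 ∧
      (a' * b' * a' * b') * (a' * b' * a' * b') = 1 ∧ a' * b' * a' * b' ≠ 1 ∧
      a' * b' * a' * b' ≠ t

variable {t : Y} (hC : Cen D t)
include hC

variable {f : Fin 5 → D} {T : Subgroup Y} {w x : Y} {P : Subgroup Y}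

/-- (5.6), (5.8): `S` contains an involution outside `T` -/
theorem exists_outside [Finite Y] (h : Ctx t f T w) {S : Subgroup Y} {C : Set Y}
    (hF : Fus t S C) : ∃ j ∈ S, j * j = 1 ∧ j ∉ T := by
  by_contra hcon
  push Not at hcon
  obtain ⟨τ, hτC, hτS, hτt⟩ := hF.zstar
  obtain ⟨hτ2, hτ1⟩ := hF.inv τ hτC
  have hτT := hcon τ hτS hτ2
  obtain ⟨a, b, ha, hb, haτ, hbτ, hab⟩ := Ctx.exists_pair hC h hτT hτ2 hτ1 hτt
  obtain ⟨a', ha', b', hb', ha2, hb2, h2, h1, ht⟩ := hF.ext τ hτC hτt a b ha hb haτ hbτ hab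
  rcases h.comm_invol hC (hcon a' ha' ha2) (hcon b' hb' hb2) ha2 hb2 h2 with h3 | h3
  · exact h1 h3
  · exact ht h3

/-- an element of `S ∩ Mf f` is in `T` -/
theorem mem_T_of [Finite Y] (h : Ctx t f T w) {S : Subgroup Y} (hS : IsPGroup 2 S) (hTS : T ≤ S)
    {s : Y} (hs : s ∈ S) (hsM : s ∈ (Mf f : Subgroup Y)) : s ∈ T :=
  h.syl.2.2 (S ⊓ Mf f) inf_le_right (hS.to_le inf_le_left) (le_inf hTS h.syl.1) ⟨hs, hsM⟩

/-- an element conjugating an element of square `t` of `T ∩ Kf f` into `T ∩ Kf f` is in `Mf f` -/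
theorem mem_Mf_of_conj [Finite Y] (h : Ctx t f T w) {g v : Y}
    (hvK : v ∈ (Kf f : Subgroup Y)) (hv2 : v * v = t) (hgT : g * v * g⁻¹ ∈ T)
    (hgK : g * v * g⁻¹ ∈ (Kf f : Subgroup Y)) : g ∈ (Mf f : Subgroup Y) := by
  have F2 : Five t f (g * v * g⁻¹) := h.all _ hgT hgK (by
    calc g * v * g⁻¹ * (g * v * g⁻¹) = g * (v * v) * g⁻¹ := by group
      _ = t := by rw [hv2, hC.central]; group)
  apply mem_Mf_of h.five.inj
  intro i
  obtain ⟨j, hj⟩ := (F2.fix (g • f i)).1 (by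
    rw [mul_smul, mul_smul, inv_smul_smul, hvK i])
  exact ⟨j, hj.symm⟩

section

variable {y : Y} (hyT : ∀ s, s ∈ T ↔ y * s * y⁻¹ ∈ T) (hyM : y ∉ (Mf f : Subgroup Y))
include hyT hyM

theorem comm_cen [Finite Y] (h : Quat t f T w x P) {u p : Y} (hu : u ∈ T)
    (huK : u ∈ (Kf f : Subgroup Y)) (hpw : p * w = w * p) (hpx : p * x = x * p) :
    p * u = u * p := by
  have hpt := hC.central p
  rcases h.step7 hC hyT hyM hu huK with rfl | rfl | ⟨-, q, hq, hqu⟩
  · simp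
  · exact hpt
  · have hqp : q * p = p * q := by
      rcases hq with rfl | rfl | rfl
      · exact hpw.symm
      · exact hpx.symm
      · calc w * x * p = w * (p * x) := by rw [hpx]; group
          _ = (p * w) * x := by rw [hpw]; group
          _ = p * (w * x) := by group
    rcases hqu with rfl | rfl
    · exact hqp.symm
    · symm
      calc t * q * p = t * (p * q) := by rw [mul_assoc, hqp]
        _ = (p * t) * q := by rw [hpt]; group
        _ = p * (t * q) := by group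

/-- (F2) the elements of square `t` of `T ∩ Bf f` are in `U ∪ P` -/
theorem mem_U_or_P [Finite Y] (h : Quat t f T w x P) {q : Y} (hq : q ∈ T)
    (hqB : q ∈ (Bf f : Subgroup Y)) (hq2 : q * q = t) :
    q ∈ (Kf f : Subgroup Y) ∨ q ∈ P := by
  obtain ⟨σ, hσ, hqσ⟩ := hqB
  obtain ⟨p, hp, hpσ⟩ := h.Ps σ hσ
  obtain ⟨u, hu⟩ : ∃ u, u = q * p⁻¹ := ⟨_, rfl⟩
  have huT : u ∈ T := by rw [hu]; exact T.mul_mem hq (T.inv_mem (h.PT hp))
  have huK : u ∈ (Kf f : Subgroup Y) := by rw [hu]; exact mul_inv_mem_Kf hqσ hpσ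
  have hup := h.comm hC hyT hyM huT huK hp
  have hqup : q = u * p := by rw [hu]; group
  have hKt : t ∈ (Kf f : Subgroup Y) := hC.t_mem_Kf f
  by_cases hp1 : p = 1
  · left; rw [hqup, hp1, mul_one]; exact huK
  by_cases hpt : p = t
  · left; rw [hqup, hpt]; exact Subgroup.mul_mem _ huK hKt
  by_cases hu1 : u = 1
  · right; rw [hqup, hu1, one_mul]; exact hp
  by_cases hut : u = t
  · right; rw [hqup, hut]; exact P.mul_mem (h.tP hC) hp
  exfalso
  have h1 := h.P_sq hC hp hp1 hpt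
  have h2 := h.sq hC hyT hyM huT huK hu1 hut
  apply hC.ne
  calc t = q * q := hq2.symm
    _ = u * (p * u) * p := by rw [hqup]; group
    _ = (u * u) * (p * p) := by rw [← hup]; group
    _ = 1 := by rw [h1, h2, hC.sq]

end

theorem normal_U (h : Ctx t f T w) {s : Y} (hs : s ∈ T) : cj s (T ⊓ Kf f) = T ⊓ Kf f := by
  apply le_antisymm
  · rintro _ ⟨u, hu, rfl⟩
    exact ⟨T.mul_mem (T.mul_mem hs hu.1) (T.inv_mem hs), Kf_conj (h.syl.1 hs) hu.2⟩
  · intro u hu
    rw [mem_cj]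
    refine ⟨T.mul_mem (T.mul_mem (T.inv_mem hs) hu.1) hs, ?_⟩
    have := Kf_conj (h.syl.1 (T.inv_mem hs)) hu.2
    simpa using this

omit hC in
theorem cj_cj (a b : Y) (Q : Subgroup Y) : cj a (cj b Q) = cj (a * b) Q := by
  ext z
  rw [mem_cj, mem_cj, mem_cj]
  have : (a * b)⁻¹ * z * (a * b) = b⁻¹ * (a⁻¹ * z * a) * b := by group
  rw [this]

/-- (h) `S` normalises `T` -/
theorem normalizes [Finite Y] (h : Quat t f T w x P) {S : Subgroup Y} (hS : IsPGroup 2 S)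
    (hTS : T ≤ S) (hne : T ≠ S) : ∀ s ∈ S, ∀ z, z ∈ T ↔ s * z * s⁻¹ ∈ T := by
  obtain ⟨y, hyS, hyT', hyT⟩ := exists_normalizer hS hTS hne
  have hyM : y ∉ (Mf f : Subgroup Y) := fun hM => hyT' (mem_T_of hC h.ctx hS hTS hyS hM)
  -- the normaliser of `T` in `S`
  let T1 : Subgroup Y := Subgroup.normalizer (T : Set Y) ⊓ S
  have hmem : ∀ s, s ∈ T1 ↔ s ∈ S ∧ ∀ z, z ∈ T ↔ s * z * s⁻¹ ∈ T := by
    intro s
    constructor
    · rintro ⟨h1, h2⟩
      exact ⟨h2, fun z => Subgroup.mem_normalizer_iff.1 h1 z⟩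
    · rintro ⟨h1, h2⟩
      exact ⟨Subgroup.mem_normalizer_iff.2 fun z => h2 z, h1⟩
  have hTT1 : T ≤ T1 := by
    intro s hs
    rw [hmem]
    refine ⟨hTS hs, fun z => ⟨fun hz => T.mul_mem (T.mul_mem hs hz) (T.inv_mem hs), fun hz => ?_⟩⟩
    have := T.mul_mem (T.mul_mem (T.inv_mem hs) hz) hs
    have e : s⁻¹ * (s * z * s⁻¹) * s = z := by group
    rwa [e] at this
  have hyT1 : y ∈ T1 := (hmem y).2 ⟨hyS, hyT⟩
  have hwT := h.ctx.wT
  have hwK := h.ctx.wK hC
  have hcjP : ∀ g ∈ T1, g ∉ T → cj g (T ⊓ Kf f) = P := by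
    intro g hg hgT
    obtain ⟨hgS, hgn⟩ := (hmem g).1 hg
    exact h.cj_eq hC hgn (fun hM => hgT (mem_T_of hC h.ctx hS hTS hgS hM))
  have hT1T : ∀ g ∈ T1, g ∉ T → ∀ g' ∈ T1, g' ∉ T → g * g' ∈ T := by
    -- `g⁻¹ g' ∈ T` for all such elements; apply it to `g⁻¹`
    have key : ∀ g ∈ T1, g ∉ T → ∀ g' ∈ T1, g' ∉ T → g⁻¹ * g' ∈ T := by
      intro g hg hgT g' hg' hg'T
      have e1 := hcjP g hg hgT
      have e2 := hcjP g' hg' hg'T
      have h1 : g' * w * g'⁻¹ ∈ cj g (T ⊓ Kf f) := by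
        rw [e1, ← e2]; exact conj_mem_cj ⟨hwT, hwK⟩
      rw [mem_cj] at h1
      have e3 : g⁻¹ * (g' * w * g'⁻¹) * g = (g⁻¹ * g') * w * (g⁻¹ * g')⁻¹ := by group
      rw [e3] at h1
      have h2 := mem_Mf_of_conj hC h.ctx hwK h.ctx.five.sq h1.1 h1.2
      exact mem_T_of hC h.ctx hS hTS (S.mul_mem (S.inv_mem ((hmem g).1 hg).1) ((hmem g').1 hg').1) h2
    intro g hg hgT g' hg' hg'T
    have := key g⁻¹ (T1.inv_mem hg) (fun hh => hgT (by have := T.inv_mem hh; rwa [inv_inv] at this))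
      g' hg' hg'T
    rwa [inv_inv] at this
  have hT1S : T1 = S := by
    by_contra hT1
    obtain ⟨s, hsS, hsT1, hsn⟩ := exists_normalizer hS inf_le_right hT1
    have hsT : s ∉ T := fun hh => hsT1 (hTT1 hh)
    have hconjT1 : ∀ v ∈ T, s * v * s⁻¹ ∈ T1 := fun v hv => (hsn v).1 (hTT1 hv)
    -- (C1)
    have C1 : ∀ v ∈ T, v ∈ (Kf f : Subgroup Y) → v * v = t → s * v * s⁻¹ ∈ T →
        s * v * s⁻¹ ∈ (Bf f : Subgroup Y) → False := by
      intro v hv hvK hv2 h1 h2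
      have h3 : (s * v * s⁻¹) * (s * v * s⁻¹) = t := by
        calc s * v * s⁻¹ * (s * v * s⁻¹) = s * (v * v) * s⁻¹ := by group
          _ = t := by rw [hv2, hC.central]; group
      rcases mem_U_or_P hC hyT hyM h h1 h2 h3 with h4 | h4
      · exact hsT (mem_T_of hC h.ctx hS hTS hsS (mem_Mf_of_conj hC h.ctx hvK hv2 h1 h4))
      · rw [← h.cj_eq hC hyT hyM, mem_cj] at h4
        have e : y⁻¹ * (s * v * s⁻¹) * y = (y⁻¹ * s) * v * (y⁻¹ * s)⁻¹ := by group
        rw [e] at h4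
        have h5 := mem_Mf_of_conj hC h.ctx hvK hv2 h4.1 h4.2
        have h6 := mem_T_of hC h.ctx hS hTS (S.mul_mem (S.inv_mem hyS) hsS) h5
        apply hsT1
        have e2 : s = y * (y⁻¹ * s) := by group
        rw [e2]
        exact T1.mul_mem hyT1 (hTT1 h6)
    have hsq : ∀ v, v * v = t → (s * v * s⁻¹) * (s * v * s⁻¹) = t := by
      intro v hv2
      calc s * v * s⁻¹ * (s * v * s⁻¹) = s * (v * v) * s⁻¹ := by group
        _ = t := by rw [hv2, hC.central]; group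
    -- the action of a conjugate lying in `T`
    have hact : ∀ v ∈ T, v ∈ (Kf f : Subgroup Y) → v * v = t → s * v * s⁻¹ ∈ T →
        ∃ σ : P5, Acts f (s * v * s⁻¹) σ ∧ σ 0 = 0 ∧ σ * σ = 1 ∧ σ ∉ V5 := by
      intro v hv hvK hv2 h1
      obtain ⟨σ, hσ, hσ0⟩ := h.ctx.acts hC h1
      refine ⟨σ, hσ, hσ0, ?_, ?_⟩
      · have h2 := hσ.sq
        rw [hsq v hv2] at h2
        exact h2.unique h.ctx.five.inj (acts_one_iff.2 (hC.t_mem_Kf f))
      · intro hσV
        exact C1 v hv hvK hv2 h1 ⟨σ, hσV, hσ⟩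
    -- (2b)
    have C2 : ∀ v ∈ T, v ∈ (Kf f : Subgroup Y) → v * v = t → s * v * s⁻¹ ∈ T →
        ∀ v' ∈ T, v' ∈ (Kf f : Subgroup Y) → s * v' * s⁻¹ ∉ T → False := by
      intro v hv hvK hv2 h1 v' hv' hv'K h2
      obtain ⟨σ, hσ, hσ0, hσ2, hσV⟩ := hact v hv hvK hv2 h1
      have hex : ∃ i, σ i = i ∧ i ≠ 0 := by
        by_contra hcon
        push Not at hcon
        exact hσV (mem_V5_of hσ2 hσ0 hcon)
      obtain ⟨i, hi, hi0⟩ := hex
      have hfix : (s * v * s⁻¹) • f i = f i := by rw [hσ i, hi]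
      have hfix2 : v • (s⁻¹ • f i) = s⁻¹ • f i := by
        rw [mul_smul, mul_smul] at hfix
        rw [eq_inv_smul_iff]
        exact hfix
      have F := h.ctx.all v hv hvK hv2
      obtain ⟨k, hk⟩ := (F.fix _).1 hfix2
      have hfix3 : (s * v' * s⁻¹) • f i = f i := by
        rw [mul_smul, mul_smul, ← hk, hv'K k, hk, smul_inv_smul]
      have hg := hcjP _ (hconjT1 v' hv') h2
      obtain ⟨p, hp, hpa⟩ := h.Ps a5 a5_mem
      rw [← hg, mem_cj] at hp
      have h5 := hp.2 i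
      have hfix4 : (s * v' * s⁻¹)⁻¹ • f i = f i := by
        rw [inv_smul_eq_iff, hfix3]
      have h6 : p • f i = f i := by
        have e : p = (s * v' * s⁻¹) * ((s * v' * s⁻¹)⁻¹ * p * (s * v' * s⁻¹)) *
            (s * v' * s⁻¹)⁻¹ := by group
        rw [e, mul_smul, hfix4, mul_smul, h5, hfix3]
      rw [hpa i] at h6
      exact hi0 (V5_fix a5_mem (by decide) i (h.ctx.five.inj h6))
    have hxT := h.xT
    have hxK := h.xK
    have hwx2 := mul_sq hC.sq h.ctx.five.sq h.x2 h.xw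
    have hwxT : w * x ∈ T := T.mul_mem hwT hxT
    have hwxK : w * x ∈ (Kf f : Subgroup Y) := Subgroup.mul_mem _ hwK hxK
    have ewx : s * (w * x) * s⁻¹ = (s * w * s⁻¹) * (s * x * s⁻¹) := by group
    by_cases hws : s * w * s⁻¹ ∈ T
    · by_cases hxs : s * x * s⁻¹ ∈ T
      · -- (2a)
        obtain ⟨σ, hσ, hσ0, hσ2, hσV⟩ := hact w hwT hwK h.ctx.five.sq hws
        obtain ⟨τ, hτ, hτ0, hτ2, hτV⟩ := hact x hxT hxK h.x2 hxs
        have hwxs : s * (w * x) * s⁻¹ ∈ T := by rw [ewx]; exact T.mul_mem hws hxs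
        obtain ⟨ρ, hρ, -, hρ2, hρV⟩ := hact (w * x) hwxT hwxK hwx2 hwxs
        have hρe : ρ = σ * τ := by
          have h1 := hσ.mul hτ
          rw [← ewx] at h1
          exact hρ.unique h.ctx.five.inj h1
        rw [hρe] at hρV hρ2
        exact hρV (mul_mem_V5 hσ2 hτ2 hρ2 hσ0 hτ0 hσV hτV)
      · exact C2 w hwT hwK h.ctx.five.sq hws x hxT hxK hxs
    · by_cases hxs : s * x * s⁻¹ ∈ T
      · exact C2 x hxT hxK h.x2 hxs w hwT hwK hws
      · have hwxs : s * (w * x) * s⁻¹ ∈ T := by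
          rw [ewx]
          exact hT1T _ (hconjT1 w hwT) hws _ (hconjT1 x hxT) hxs
        exact C2 (w * x) hwxT hwxK hwx2 hwxs w hwT hwK hws
  intro s hs
  rw [← hT1S] at hs
  exact ((hmem s).1 hs).2

/-- **(5.4)-(5.8)** -/
theorem exists_hyp [Finite Y]
    (h5 : ∀ v : Y, BadInv D t v → NonIso t v → ∃ f' : Fin 5 → D, Five t f' v)
    {w₀ : Y} (hw : BadInv D t w₀) (hn : NonIso t w₀) {C : Set Y}
    (hF : ∀ S : Sylow 2 Y, Fus t (S : Subgroup Y) C) :
    ∃ (X P : Subgroup Y) (j : Y), Hyp D t X P j ∧ ∃ S : Sylow 2 Y, X ≤ S ∧ P ≤ S ∧ j ∈ S ∧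
      ∀ s ∈ S, (cj s X = X ∧ cj s P = P) ∨ (cj s X = P ∧ cj s P = X) := by
  obtain ⟨f₀, hf₀⟩ := h5 w₀ hw hn
  obtain ⟨f, T, w, hctx⟩ := exists_ctx hC h5 hf₀
  obtain ⟨x, P, h⟩ := exists_quat hC hctx
  obtain ⟨S, hTS⟩ := (hctx.two hC).exists_le_sylow
  obtain ⟨j, hjS, hj2, hjT⟩ := exists_outside hC hctx (hF S)
  have hS2 : IsPGroup 2 (S : Subgroup Y) := S.2
  have hne : T ≠ (S : Subgroup Y) := by
    rintro h1
    apply hjT
    rw [h1]; exact hjS
  have hnorm := normalizes hC h hS2 hTS hne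
  have hjM : j ∉ (Mf f : Subgroup Y) := fun hM => hjT (mem_T_of hC hctx hS2 hTS hjS hM)
  have hjn := hnorm j hjS
  have hcjP : ∀ s ∈ S, s ∉ T → cj s (T ⊓ Kf f) = P := fun s hs hsT =>
    h.cj_eq hC (hnorm s hs) (fun hM => hsT (mem_T_of hC hctx hS2 hTS hs hM))
  have hjP := hcjP j hjS hjT
  have hjinv : j⁻¹ = j := inv_eq_of_mul_eq_one_right hj2
  have hwK := hctx.wK hC
  have hFX : FX D (T ⊓ Kf f : Subgroup Y) = Set.range f := by
    ext d
    constructor
    · intro hd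
      exact (hctx.five.fix d).1 (hd w ⟨hctx.wT, hwK⟩)
    · rintro ⟨i, rfl⟩ u hu
      exact hu.2 i
  have hj1 : j ≠ 1 := fun h1 => hjT (by rw [h1]; exact T.one_mem)
  have hjt : j ≠ t := fun h1 => hjT (by rw [h1]; exact hctx.tT hC)
  refine ⟨T ⊓ Kf f, P, j, ?_, S, inf_le_left.trans hTS, h.PT.trans hTS, hjS, ?_⟩
  · refine
      { tc := fun y => (hC.central y).symm
        t2 := hC.sq
        t1 := hC.ne
        tD := hC.triv
        one := ?_
        card := h.card_U hC hjn hjM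
        tX := ⟨hctx.tT hC, hC.t_mem_Kf f⟩
        sq := fun u hu h1 ht => h.sq hC hjn hjM hu.1 hu.2 h1 ht
        five := ?_
        fix := ?_
        syl := ?_
        alt := ?_
        j2 := hj2
        j1 := hj1
        jt := hjt
        memP := ?_
        comm := fun u hu p hp => h.comm hC hjn hjM hu.1 hu.2 hp
        disj := fun u hu hp => h.P_inf hC hp hu.2 }
    · intro i hi2 hi1 hit
      obtain ⟨d, hd, hd'⟩ := hC.one i hi2 hi1 hit
      exact ⟨d, fun e => ⟨fun he => hd' e he, fun he => by rw [he]; exact hd⟩⟩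
    · rw [hFX, ← Set.image_univ, Set.ncard_image_of_injective _ hctx.five.inj, Set.ncard_univ]
      simp
    · intro u hu hu1 hut d hd
      have h1 := h.sq hC hjn hjM hu.1 hu.2 hu1 hut
      rw [hFX]
      exact ((hctx.all u hu.1 hu.2 h1).fix d).1 hd
    · intro R hXR hR hRf
      refine (hctx.sylK hC).2.2 R ?_ hR hXR
      intro r hr i
      exact hRf r hr (f i) (by rw [hFX]; exact ⟨i, rfl⟩)
    · intro a ha b hb c hc hab hbc hca
      rw [hFX] at ha hb hc
      obtain ⟨i, rfl⟩ := ha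
      obtain ⟨k, rfl⟩ := hb
      obtain ⟨l, rfl⟩ := hc
      have hik : i ≠ k := fun h1 => hab (by rw [h1])
      have hkl : k ≠ l := fun h1 => hbc (by rw [h1])
      have hli : l ≠ i := fun h1 => hca (by rw [h1])
      obtain ⟨g, hgw, hgx, hg⟩ := hctx.five.alt x h.x2 h.xw h.xK (swap i k * swap k l) (by
        rw [Equiv.Perm.mem_alternatingGroup, map_mul, Equiv.Perm.sign_swap hik,
          Equiv.Perm.sign_swap hkl]
        rfl)
      refine ⟨g, fun u hu => comm_cen hC hjn hjM h hu.1 hu.2 hgw hgx, ?_, ?_, ?_, ?_⟩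
      · rw [hg i]
        congr 1
        rw [Perm.mul_apply, Equiv.swap_apply_of_ne_of_ne hik hli.symm, Equiv.swap_apply_left]
      · rw [hg k]
        congr 1
        rw [Perm.mul_apply, Equiv.swap_apply_left, Equiv.swap_apply_of_ne_of_ne hli hkl.symm]
      · rw [hg l]
        congr 1
        rw [Perm.mul_apply, Equiv.swap_apply_right, Equiv.swap_apply_right]
      · intro d hd hda hdb hdc
        rw [hFX] at hd
        obtain ⟨m, rfl⟩ := hd
        have h1 : m ≠ i := fun h1 => hda (by rw [h1])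
        have h2 : m ≠ k := fun h1 => hdb (by rw [h1])
        have h3 : m ≠ l := fun h1 => hdc (by rw [h1])
        rw [hg m]
        congr 1
        rw [Perm.mul_apply, Equiv.swap_apply_of_ne_of_ne h2 h3,
          Equiv.swap_apply_of_ne_of_ne h1 h2]
    · intro z
      rw [← hjP, mem_cj, hjinv]
  · intro s hs
    by_cases hsT : s ∈ T
    · left
      refine ⟨normal_U hC hctx hsT, ?_⟩
      have h1 : j⁻¹ * s * j ∈ T := by
        rw [hjn]
        have e : j * (j⁻¹ * s * j) * j⁻¹ = s := by group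
        rw [e]; exact hsT
      calc cj s P = cj s (cj j (T ⊓ Kf f)) := by rw [hjP]
        _ = cj j (cj (j⁻¹ * s * j) (T ⊓ Kf f)) := by
          rw [cj_cj, cj_cj]; congr 1; group
        _ = P := by rw [normal_U hC hctx h1, hjP]
    · right
      refine ⟨hcjP s hs hsT, ?_⟩
      have hs' : s⁻¹ ∉ T := fun hh => hsT (by have := T.inv_mem hh; rwa [inv_inv] at this)
      have h1 := hcjP s⁻¹ ((S : Subgroup Y).inv_mem hs) hs'
      rw [← h1, cj_cj, mul_inv_cancel]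
      ext z
      rw [mem_cj]
      simp

end Cfsg.Agent.TwoGenNine.SwapMain
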