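import Mathlib

/-!
# Groups generated by two families of 3-cycles

`alt_le` : a group of permutations of `Ω = A ∪ B`, `α ∈ A ∩ B`, containing all 3-cycles with points in `A` and
all 3-cycles with points in `B` (`|A|, |B| ≥ 3`) contains the alternating group.

`exists_conj_alt` : permutations `σ`, `τ` conjugate in `Perm Ω`, `σ` commuting with an odd
permutation, are conjugate under the alternating group; `exists_conj_double` : double transpositions.
-/

set_option autoImplicit false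

namespace Cfsg.Agent.TwoGenNine.AltNine

open Equiv Equiv.Perm

variable {Ω : Type*} [DecidableEq Ω]

/-- `H` contains the 3-cycle `a → b → c → a`. -/
def Three (H : Subgroup (Perm Ω)) (a b c : Ω) : Prop :=
  ∃ g ∈ H, g a = b ∧ g b = c ∧ g c = a ∧ ∀ d, d ≠ a → d ≠ b → d ≠ c → g d = d

/-- the 3-cycle `a → b → c → a` -/
def cyc (a b c : Ω) : Perm Ω := swap a b * swap b c

theorem cyc_a {a b c : Ω} (hab : a ≠ b) (hac : a ≠ c) : cyc a b c a = b := by
  rw [cyc, Perm.mul_apply, swap_apply_of_ne_of_ne hab hac, swap_apply_left]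

theorem cyc_b {a b c : Ω} (hac : a ≠ c) (hbc : b ≠ c) : cyc a b c b = c := by
  rw [cyc, Perm.mul_apply, swap_apply_left, swap_apply_of_ne_of_ne hac.symm hbc.symm]

theorem cyc_c {a b c : Ω} : cyc a b c c = a := by
  rw [cyc, Perm.mul_apply, swap_apply_right, swap_apply_right]

theorem cyc_of_ne {a b c d : Ω} (ha : d ≠ a) (hb : d ≠ b) (hc : d ≠ c) : cyc a b c d = d := by
  rw [cyc, Perm.mul_apply, swap_apply_of_ne_of_ne hb hc, swap_apply_of_ne_of_ne ha hb]

theorem three_iff {H : Subgroup (Perm Ω)} {a b c : Ω} (hab : a ≠ b) (hac : a ≠ c) (hbc : b ≠ c) :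
    Three H a b c ↔ cyc a b c ∈ H := by
  constructor
  · rintro ⟨g, hg, h1, h2, h3, h4⟩
    have : cyc a b c = g := by
      ext d
      by_cases hda : d = a
      · rw [hda, cyc_a hab hac, h1]
      by_cases hdb : d = b
      · rw [hdb, cyc_b hac hbc, h2]
      by_cases hdc : d = c
      · rw [hdc, cyc_c, h3]
      · rw [cyc_of_ne hda hdb hdc, h4 d hda hdb hdc]
    rw [this]; exact hg
  · intro hg
    exact ⟨_, hg, cyc_a hab hac, cyc_b hac hbc, cyc_c, fun d => cyc_of_ne⟩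

/-- the commutator of two 3-cycles meeting in one point -/
theorem cyc_comm {α a a' b b' : Ω} (h1 : α ≠ a) (h2 : α ≠ a') (h3 : α ≠ b) (h4 : α ≠ b')
    (h5 : a ≠ a') (h6 : a ≠ b) (h7 : a ≠ b') (h8 : a' ≠ b) (h9 : a' ≠ b') (h10 : b ≠ b') :
    cyc α a b = cyc α a a' * cyc α b b' * (cyc α a a')⁻¹ * (cyc α b b')⁻¹ := by
  have key : cyc α a b * cyc α b b' * cyc α a a' = cyc α a a' * cyc α b b' := by
    ext d
    simp only [Perm.mul_apply]
    by_cases ha : d = α
    · subst ha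
      rw [cyc_a h1 h2, cyc_of_ne h1.symm h6 h7, cyc_b h3 h6, cyc_a h3 h4,
        cyc_of_ne h3.symm h6.symm h8.symm]
    by_cases hb : d = a
    · subst hb
      rw [cyc_b h2 h5, cyc_of_ne h2.symm h8 h9, cyc_of_ne h2.symm h5.symm h8,
        cyc_of_ne h1.symm h6 h7, cyc_b h2 h5]
    by_cases hc : d = a'
    · subst hc
      rw [cyc_c, cyc_a h3 h4, cyc_c, cyc_of_ne h2.symm h8 h9, cyc_c]
    by_cases hd : d = b
    · subst hd
      rw [cyc_of_ne h3.symm h6.symm h8.symm, cyc_b h4 h10, cyc_of_ne h4.symm h7.symm h10.symm,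
        cyc_of_ne h4.symm h7.symm h9.symm]
    by_cases he : d = b'
    · subst he
      rw [cyc_of_ne h4.symm h7.symm h9.symm, cyc_c, cyc_a h1 h3, cyc_a h1 h2]
    · rw [cyc_of_ne ha hb hc, cyc_of_ne ha hd he, cyc_of_ne ha hb hd, cyc_of_ne ha hb hc]
  calc cyc α a b = cyc α a b * cyc α b b' * cyc α a a' * (cyc α a a')⁻¹ * (cyc α b b')⁻¹ := by group
    _ = _ := by rw [key]

/-- `(x y z) = (α x y)(α y z)` -/
theorem cyc_eq {α x y z : Ω} (h1 : α ≠ x) (h2 : α ≠ y) (h3 : α ≠ z) (h4 : x ≠ y) (h5 : x ≠ z)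
    (h6 : y ≠ z) : cyc x y z = cyc α x y * cyc α y z := by
  ext d
  simp only [Perm.mul_apply]
  by_cases ha : d = α
  · subst ha
    rw [cyc_a h2 h3, cyc_c, cyc_of_ne h1 h2 h3]
  by_cases hb : d = x
  · subst hb
    rw [cyc_of_ne h1.symm h4 h5, cyc_b h2 h4, cyc_a h4 h5]
  by_cases hc : d = y
  · subst hc
    rw [cyc_b h3 h6, cyc_of_ne h3.symm h5.symm h6.symm, cyc_b h5 h6]
  by_cases hd : d = z
  · subst hd
    rw [cyc_c, cyc_c, cyc_a h1 h2]
  · rw [cyc_of_ne ha hc hd, cyc_of_ne ha hb hc, cyc_of_ne hb hc hd]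

theorem cyc_rot {a b c : Ω} (hab : a ≠ b) (hac : a ≠ c) (hbc : b ≠ c) : cyc a b c = cyc b c a := by
  ext d
  by_cases ha : d = a
  · subst ha; rw [cyc_a hab hac, cyc_c]
  by_cases hb : d = b
  · subst hb; rw [cyc_b hac hbc, cyc_a hbc hab.symm]
  by_cases hc : d = c
  · subst hc; rw [cyc_c, cyc_b hab.symm hac.symm]
  · rw [cyc_of_ne ha hb hc, cyc_of_ne hb hc ha]

theorem cyc_inv {a b c : Ω} (hab : a ≠ b) (hac : a ≠ c) (hbc : b ≠ c) :
    (cyc a b c)⁻¹ = cyc a c b := by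
  rw [inv_eq_iff_mul_eq_one]
  ext d
  simp only [Perm.mul_apply, Perm.one_apply]
  by_cases ha : d = a
  · subst ha; rw [cyc_a hac hab, cyc_c]
  by_cases hb : d = b
  · subst hb; rw [cyc_c, cyc_a hab hac]
  by_cases hc : d = c
  · subst hc; rw [cyc_b hab hbc.symm, cyc_b hac hbc]
  · rw [cyc_of_ne ha hc hb, cyc_of_ne ha hb hc]

/-- all 3-cycles through one point generate -/
theorem cyc_mem_of_point {H : Subgroup (Perm Ω)} {α : Ω}
    (h : ∀ x y, x ≠ α → y ≠ α → x ≠ y → cyc α x y ∈ H) {x y z : Ω} (hxy : x ≠ y) (hxz : x ≠ z)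
    (hyz : y ≠ z) : cyc x y z ∈ H := by
  by_cases hx : x = α
  · subst hx; exact h y z hxy.symm hxz.symm hyz
  by_cases hy : y = α
  · subst hy
    rw [cyc_rot hxy hxz hyz]
    exact h z x hyz.symm hx hxz.symm
  by_cases hz : z = α
  · subst hz
    rw [cyc_rot hxy hxz hyz, cyc_rot hyz hxy.symm hxz.symm]
    exact h x y hx hy hxy
  · rw [cyc_eq (Ne.symm hx) (Ne.symm hy) (Ne.symm hz) hxy hxz hyz]
    exact mul_mem (h x y hx hy hxy) (h y z hy hz hyz)

variable [Fintype Ω]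

/-- a group containing all 3-cycles `cyc x y z` contains the alternating group -/
theorem alt_le_of_cyc {H : Subgroup (Perm Ω)}
    (h : ∀ x y z : Ω, x ≠ y → x ≠ z → y ≠ z → cyc x y z ∈ H) : alternatingGroup Ω ≤ H := by
  rw [← closure_three_cycles_eq_alternating, Subgroup.closure_le]
  intro σ hσ
  have hσ3 : σ.support.card = 3 := IsThreeCycle.card_support hσ
  obtain ⟨x, y, z, hxy, hxz, hyz, hs⟩ := Finset.card_eq_three.mp hσ3
  have hσ' : σ.IsThreeCycle := hσ
  -- the image of `x`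
  have hfix : ∀ d, d ≠ x → d ≠ y → d ≠ z → σ d = d := by
    intro d h1 h2 h3
    rw [← Equiv.Perm.notMem_support, hs]
    simp [h1, h2, h3]
  have hmem : ∀ d ∈ σ.support, σ d ∈ σ.support := fun d hd => Perm.apply_mem_support.mpr hd
  have hne : ∀ d ∈ σ.support, σ d ≠ d := fun d hd => Perm.mem_support.mp hd
  have hsx : x ∈ σ.support := by rw [hs]; simp
  have hsy : y ∈ σ.support := by rw [hs]; simp
  have hsz : z ∈ σ.support := by rw [hs]; simp
  have m1 := hmem x hsx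
  have m2 := hmem y hsy
  have m3 := hmem z hsz
  rw [hs] at m1 m2 m3
  simp only [Finset.mem_insert, Finset.mem_singleton] at m1 m2 m3
  have n1 := hne x hsx
  have n2 := hne y hsy
  have n3 := hne z hsz
  have inj : ∀ d e, σ d = σ e → d = e := fun d e hh => σ.injective hh
  rcases m1.resolve_left n1 with h1 | h1
  · -- `x → y`
    have h3 : σ z = x := by
      rcases m3 with h3 | h3 | h3
      · exact h3
      · exact absurd (inj _ _ (h3.trans h1.symm)) hxz.symm
      · exact absurd h3 n3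
    have h2 : σ y = z := by
      rcases m2 with h2 | h2 | h2
      · exact absurd (inj _ _ (h2.trans h3.symm)) hyz
      · exact absurd h2 n2
      · exact h2
    have : σ = cyc x y z := by
      ext d
      by_cases e1 : d = x
      · rw [e1, h1, cyc_a hxy hxz]
      by_cases e2 : d = y
      · rw [e2, h2, cyc_b hxz hyz]
      by_cases e3 : d = z
      · rw [e3, h3, cyc_c]
      · rw [hfix d e1 e2 e3, cyc_of_ne e1 e2 e3]
    rw [this]
    exact h x y z hxy hxz hyz
  · -- `x → z`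
    have h2 : σ y = x := by
      rcases m2 with h2 | h2 | h2
      · exact h2
      · exact absurd h2 n2
      · exact absurd (inj _ _ (h2.trans h1.symm)) hxy.symm
    have h3 : σ z = y := by
      rcases m3 with h3 | h3 | h3
      · exact absurd (inj _ _ (h3.trans h2.symm)) hyz.symm
      · exact h3
      · exact absurd h3 n3
    have : σ = cyc x z y := by
      ext d
      by_cases e1 : d = x
      · rw [e1, h1, cyc_a hxz hxy]
      by_cases e2 : d = y
      · rw [e2, h2, cyc_c]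
      by_cases e3 : d = z
      · rw [e3, h3, cyc_b hxy hyz.symm]
      · rw [hfix d e1 e2 e3, cyc_of_ne e1 e3 e2]
    rw [this]
    exact h x z y hxz hxy hyz.symm

/-- **Two families of 3-cycles.** -/
theorem alt_le {H : Subgroup (Perm Ω)} {A B : Set Ω} {α : Ω} (hαA : α ∈ A) (hαB : α ∈ B)
    (hcov : ∀ d, d ∈ A ∨ d ∈ B) (hinf : ∀ d, d ∈ A → d ∈ B → d = α) (hA3 : 3 ≤ A.ncard)
    (hB3 : 3 ≤ B.ncard)
    (hA : ∀ a ∈ A, ∀ b ∈ A, ∀ c ∈ A, a ≠ b → b ≠ c → c ≠ a → Three H a b c)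
    (hB : ∀ a ∈ B, ∀ b ∈ B, ∀ c ∈ B, a ≠ b → b ≠ c → c ≠ a → Three H a b c) :
    alternatingGroup Ω ≤ H := by
  have hex : ∀ S : Set Ω, 3 ≤ S.ncard → ∀ a b : Ω, ∃ c ∈ S, c ≠ a ∧ c ≠ b := by
    intro S hS a b
    by_contra hcon
    push Not at hcon
    have h1 : S ⊆ {a, b} := by
      intro d hd
      by_cases hda : d = a
      · simp [hda]
      · simp [hcon d hd hda]
    have h2 : S.ncard ≤ 2 := by
      refine (Set.ncard_le_ncard h1 (Set.toFinite _)).trans ?_
      refine (Set.ncard_insert_le _ _).trans ?_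
      rw [Set.ncard_singleton]
    omega
  have hA' : ∀ a ∈ A, ∀ b ∈ A, ∀ c ∈ A, a ≠ b → a ≠ c → b ≠ c → cyc a b c ∈ H :=
    fun a ha b hb c hc h1 h2 h3 => (three_iff h1 h2 h3).mp (hA a ha b hb c hc h1 h3 h2.symm)
  have hB' : ∀ a ∈ B, ∀ b ∈ B, ∀ c ∈ B, a ≠ b → a ≠ c → b ≠ c → cyc a b c ∈ H :=
    fun a ha b hb c hc h1 h2 h3 => (three_iff h1 h2 h3).mp (hB a ha b hb c hc h1 h3 h2.symm)
  have hmix : ∀ a ∈ A, ∀ b ∈ B, a ≠ α → b ≠ α → cyc α a b ∈ H := by
    intro a ha b hb haα hbα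
    obtain ⟨a', ha', ha'α, ha'a⟩ := hex A hA3 α a
    obtain ⟨b', hb', hb'α, hb'b⟩ := hex B hB3 α b
    have hne : ∀ x ∈ A, ∀ y ∈ B, x ≠ α → x ≠ y := by
      intro x hx y hy hxα hxy
      exact hxα (hinf x hx (hxy ▸ hy))
    rw [cyc_comm haα.symm ha'α.symm hbα.symm hb'α.symm ha'a.symm (hne a ha b hb haα)
      (hne a ha b' hb' haα) (hne a' ha' b hb ha'α) (hne a' ha' b' hb' ha'α) hb'b.symm]
    have h1 := hA' α hαA a ha a' ha' haα.symm ha'α.symm ha'a.symm
    have h2 := hB' α hαB b hb b' hb' hbα.symm hb'α.symm hb'b.symm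
    exact mul_mem (mul_mem (mul_mem h1 h2) (inv_mem h1)) (inv_mem h2)
  apply alt_le_of_cyc
  intro x y z hxy hxz hyz
  refine cyc_mem_of_point (α := α) ?_ hxy hxz hyz
  intro x y hx hy hxy
  rcases hcov x with hxA | hxB
  · rcases hcov y with hyA | hyB
    · exact hA' α hαA x hxA y hyA hx.symm hy.symm hxy
    · exact hmix x hxA y hyB hx hy
  · rcases hcov y with hyA | hyB
    · rw [← inv_mem_iff, cyc_inv hx.symm hy.symm hxy]
      exact hmix y hyA x hxB hy hx
    · exact hB' α hαB x hxB y hyB hx.symm hy.symm hxy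

/-- conjugacy under the alternating group -/
theorem exists_conj_alt {σ τ s : Perm Ω} (h : IsConj σ τ) (hs : s * σ = σ * s) (hsign : sign s = -1) :
    ∃ g ∈ alternatingGroup Ω, g * σ * g⁻¹ = τ := by
  obtain ⟨g, hg⟩ := isConj_iff.mp h
  rcases Int.units_eq_one_or (sign g) with h1 | h1
  · exact ⟨g, h1, hg⟩
  · refine ⟨g * s, ?_, ?_⟩
    · rw [mem_alternatingGroup, Perm.sign_mul, h1, hsign]; rfl
    · calc g * s * σ * (g * s)⁻¹ = g * (s * σ) * s⁻¹ * g⁻¹ := by group
        _ = g * (σ * s) * s⁻¹ * g⁻¹ := by rw [hs]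
        _ = g * σ * g⁻¹ := by group
        _ = τ := hg

/-- the double transposition `(a b)(c d)` -/
def dbl (a b c d : Ω) : Perm Ω := swap a b * swap c d

omit [Fintype Ω] in
theorem conj_dbl (g : Perm Ω) (a b c d : Ω) :
    g * dbl a b c d * g⁻¹ = dbl (g a) (g b) (g c) (g d) := by
  rw [dbl, dbl]
  have h1 : ∀ x y : Ω, g * swap x y * g⁻¹ = swap (g x) (g y) := by
    intro x y
    rw [mul_inv_eq_iff_eq_mul]
    exact mul_swap_eq_swap_mul g x y
  calc g * (swap a b * swap c d) * g⁻¹ = (g * swap a b * g⁻¹) * (g * swap c d * g⁻¹) := by group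
    _ = _ := by rw [h1, h1]

omit [Fintype Ω] in
/-- four different points can be moved to four different points -/
theorem exists_four {a b c d a' b' c' d' : Ω} (hab : a ≠ b) (hac : a ≠ c) (had : a ≠ d)
    (hbc : b ≠ c) (hbd : b ≠ d) (hcd : c ≠ d) (hab' : a' ≠ b') (hac' : a' ≠ c') (had' : a' ≠ d')
    (hbc' : b' ≠ c') (hbd' : b' ≠ d') (hcd' : c' ≠ d') :
    ∃ g : Perm Ω, g a = a' ∧ g b = b' ∧ g c = c' ∧ g d = d' := by
  -- move the points one after the other
  obtain ⟨g₁, e₁⟩ : ∃ g : Perm Ω, g a = a' := ⟨swap a a', swap_apply_left _ _⟩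
  obtain ⟨g₂, e₂, f₂⟩ : ∃ g : Perm Ω, g a = a' ∧ g b = b' := by
    refine ⟨swap (g₁ b) b' * g₁, ?_, ?_⟩
    · rw [Perm.mul_apply, e₁, swap_apply_of_ne_of_ne]
      · intro h; exact hab (g₁.injective (e₁.trans h))
      · exact hab'
    · rw [Perm.mul_apply, swap_apply_left]
  obtain ⟨g₃, e₃, f₃, k₃⟩ : ∃ g : Perm Ω, g a = a' ∧ g b = b' ∧ g c = c' := by
    refine ⟨swap (g₂ c) c' * g₂, ?_, ?_, ?_⟩
    · rw [Perm.mul_apply, e₂, swap_apply_of_ne_of_ne]
      · intro h; exact hac (g₂.injective (e₂.trans h))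
      · exact hac'
    · rw [Perm.mul_apply, f₂, swap_apply_of_ne_of_ne]
      · intro h; exact hbc (g₂.injective (f₂.trans h))
      · exact hbc'
    · rw [Perm.mul_apply, swap_apply_left]
  refine ⟨swap (g₃ d) d' * g₃, ?_, ?_, ?_, ?_⟩
  · rw [Perm.mul_apply, e₃, swap_apply_of_ne_of_ne]
    · intro h; exact had (g₃.injective (e₃.trans h))
    · exact had'
  · rw [Perm.mul_apply, f₃, swap_apply_of_ne_of_ne]
    · intro h; exact hbd (g₃.injective (f₃.trans h))
    · exact hbd'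
  · rw [Perm.mul_apply, k₃, swap_apply_of_ne_of_ne]
    · intro h; exact hcd (g₃.injective (k₃.trans h))
    · exact hcd'
  · rw [Perm.mul_apply, swap_apply_left]

/-- **All double transpositions are conjugate under the alternating group.** -/
theorem exists_conj_dbl {a b c d a' b' c' d' : Ω} (hab : a ≠ b) (hac : a ≠ c) (had : a ≠ d)
    (hbc : b ≠ c) (hbd : b ≠ d) (hcd : c ≠ d) (hab' : a' ≠ b') (hac' : a' ≠ c') (had' : a' ≠ d')
    (hbc' : b' ≠ c') (hbd' : b' ≠ d') (hcd' : c' ≠ d') :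
    ∃ g ∈ alternatingGroup Ω, g * dbl a b c d * g⁻¹ = dbl a' b' c' d' := by
  obtain ⟨g, h1, h2, h3, h4⟩ := exists_four hab hac had hbc hbd hcd hab' hac' had' hbc' hbd' hcd'
  refine exists_conj_alt (s := swap a b) (isConj_iff.mpr ⟨g, ?_⟩) ?_ (sign_swap hab)
  · rw [conj_dbl, h1, h2, h3, h4]
  · have h5 : swap a b * dbl a b c d * (swap a b)⁻¹ = dbl a b c d := by
      rw [conj_dbl, swap_apply_left, swap_apply_right, swap_apply_of_ne_of_ne hac.symm hbc.symm,
        swap_apply_of_ne_of_ne had.symm hbd.symm, dbl, dbl, swap_comm b a]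
    rw [mul_inv_eq_iff_eq_mul] at h5
    exact h5

end Cfsg.Agent.TwoGenNine.AltNine
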