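import Cfsg.Agent.TwoGenNine.Setup

/-!
# The last configuration of S1728: basic facts

The common fixed point `α` of `X` and `P`, the action of elements of odd order commuting with
elements of order 4 of `X` and of `P`, and 2-elements of the pointwise stabilisers.
-/

set_option autoImplicit false

open scoped Pointwise

namespace Cfsg.Agent.TwoGenNine.Basic

open Subgroup
open Cfsg.Agent.TwoGenNine.Setup

variable {Y : Type*} [Group Y] {D : Type*} [MulAction Y D]

variable (D) in
/-- The pointwise stabiliser of `Fix X`. -/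
def KX (X : Subgroup Y) : Subgroup Y where
  carrier := {g | ∀ d ∈ FX D X, g • d = d}
  one_mem' := fun d _ => one_smul _ d
  mul_mem' := fun {a b} ha hb d hd => by rw [mul_smul, hb d hd, ha d hd]
  inv_mem' := fun {a} ha d hd => by rw [inv_smul_eq_iff, ha d hd]

theorem mem_KX {X : Subgroup Y} {g : Y} : g ∈ KX D X ↔ ∀ d ∈ FX D X, g • d = d := Iff.rfl

theorem le_KX (X : Subgroup Y) : X ≤ KX D X := fun x hx _ hd => hd x hx

/-- An element normalising `X` preserves `Fix X`. -/
theorem smul_mem_FX {X : Subgroup Y} {g : Y} (hg : ∀ x ∈ X, g⁻¹ * x * g ∈ X) {d : D}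
    (hd : d ∈ FX D X) : g • d ∈ FX D X := by
  intro x hx
  have := hd _ (hg x hx)
  rw [mul_smul, mul_smul, inv_smul_eq_iff] at this
  exact this

theorem smul_mem_FX_of_comm {X : Subgroup Y} {g : Y} (hg : ∀ x ∈ X, g * x = x * g) {d : D}
    (hd : d ∈ FX D X) : g • d ∈ FX D X := by
  apply smul_mem_FX _ hd
  intro x hx
  rw [mul_assoc, ← hg x hx, ← mul_assoc, inv_mul_cancel, one_mul]
  exact hx

theorem odd_orderOf_inv {g : Y} (h : Odd (orderOf g)) : Odd (orderOf g⁻¹) := by rwa [orderOf_inv]

/-- An element of odd order with `c ^ 4 • d = d` fixes `d`. -/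
theorem smul_eq_of_pow_four {c : Y} (hc : Odd (orderOf c)) {d : D} (h : c ^ 4 • d = d) :
    c • d = d := by
  have hcop : Nat.Coprime (orderOf c) 4 := by
    rw [show (4 : ℕ) = 2 ^ 2 by norm_num]
    exact Nat.Coprime.pow_right _ (Nat.coprime_two_right.mpr hc)
  obtain ⟨m, hm⟩ : ∃ m, (c ^ 4) ^ m = c := by
    have := (powCoprime (G := Subgroup.zpowers c) (n := 4) (by
      rw [Nat.card_zpowers]; exact hcop)).surjective ⟨c, Subgroup.mem_zpowers c⟩
    obtain ⟨⟨e, he⟩, hee⟩ := this
    have h1 : e ^ 4 = c := congrArg Subtype.val hee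
    obtain ⟨k, hk⟩ := Subgroup.mem_zpowers_iff.mp he
    by_cases hfin : orderOf c = 0
    · rw [hfin] at hc; exact absurd hc (by decide)
    refine ⟨(k % (orderOf c : ℤ)).toNat, ?_⟩
    have h2 : (c ^ (k % (orderOf c : ℤ)).toNat) = e := by
      rw [← hk, ← zpow_natCast, Int.toNat_of_nonneg (Int.emod_nonneg _ (by exact_mod_cast hfin)),
        zpow_mod_orderOf]
    rw [← pow_mul, mul_comm, pow_mul, h2, h1]
  have : ∀ n : ℕ, (c ^ 4) ^ n • d = d := by
    intro n
    induction n with
    | zero => rw [pow_zero, one_smul]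
    | succ n ih => rw [pow_succ, mul_smul, h, ih]
  calc c • d = (c ^ 4) ^ m • d := by rw [hm]
    _ = d := this m

theorem smul_eq_of_four {c : Y} (hc : Odd (orderOf c)) {d : D} (h : c • c • c • c • d = d) :
    c • d = d := by
  apply smul_eq_of_pow_four hc
  rw [show c ^ 4 = c * (c * (c * c)) by rw [pow_succ, pow_succ, pow_two]; group, mul_smul, mul_smul,
    mul_smul, h]

omit [Group Y] [MulAction Y D] in
/-- A set with `l.length` elements is exhausted by a list of different elements. -/
theorem mem_list_of_ncard {S : Set D} {l : List D} (hl : l.Nodup) (hlS : ∀ a ∈ l, a ∈ S)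
    (hS : S.ncard = l.length) (h0 : l.length ≠ 0) {f : D} (hf : f ∈ S) : f ∈ l := by
  classical
  have hfin : S.Finite := Set.finite_of_ncard_ne_zero (by rw [hS]; exact h0)
  have h1 : (l.toFinset : Set D) = S := by
    apply Set.eq_of_subset_of_ncard_le
    · intro a ha
      apply hlS
      simpa using ha
    · rw [Set.ncard_coe_finset, List.toFinset_card_of_nodup hl, hS]
    · exact hfin
  rw [← h1] at hf
  simpa using hf

variable {t : Y} {X P : Subgroup Y} {j : Y} (h : Hyp D t X P j)

include h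

theorem mul_ne {x p : Y} (hx : x ∈ X) (hx1 : x ≠ 1) (hxt : x ≠ t) (hp : p ∈ P) :
    x * p ≠ 1 ∧ x * p ≠ t := by
  constructor
  · intro h0
    have : p = x⁻¹ := eq_inv_of_mul_eq_one_right h0
    have hpX : p ∈ X := this ▸ X.inv_mem hx
    rcases h.disj p hpX hp with h1 | h1
    · rw [h1, mul_one] at h0; exact hx1 h0
    · rw [h1] at h0
      apply hxt
      rw [eq_inv_of_mul_eq_one_left h0, h.tinv]
  · intro h0
    have : p = x⁻¹ * t := by rw [← h0]; group
    have hpX : p ∈ X := this ▸ X.mul_mem (X.inv_mem hx) h.tX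
    rcases h.disj p hpX hp with h1 | h1
    · rw [h1, mul_one] at h0; exact hxt h0
    · rw [h1] at h0
      apply hx1
      exact mul_eq_right.mp h0

/-- The product of commuting elements of order 4 is an involution different from `t`. -/
theorem mul_sq {x p : Y} (hx : x ∈ X) (hx1 : x ≠ 1) (hxt : x ≠ t) (hp : p ∈ P) (hp1 : p ≠ 1)
    (hpt : p ≠ t) : x * p * (x * p) = 1 := by
  calc x * p * (x * p) = x * (p * x) * p := by group
    _ = x * (x * p) * p := by rw [h.comm x hx p hp]
    _ = (x * x) * (p * p) := by group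
    _ = 1 := by rw [h.sq x hx hx1 hxt, h.symm.sq p hp hp1 hpt, h.t2]

theorem exists_alpha : ∃ α : D, (∀ d, (d ∈ FX D X ∧ d ∈ FX D P) ↔ d = α) := by
  obtain ⟨x, hx, hx1, hxt⟩ := h.exists_mem
  obtain ⟨p, hp, hp1, hpt⟩ := h.symm.exists_mem
  have h1 := mul_ne h hx hx1 hxt hp
  obtain ⟨α, hα⟩ := h.one (x * p) (mul_sq h hx hx1 hxt hp hp1 hpt) h1.1 h1.2
  refine ⟨α, fun d => ?_⟩
  have hxα : x • α = α := by
    rw [← hα]
    calc (x * p) • x • α = (x * (p * x)) • α := by rw [smul_smul]; congr 1; group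
      _ = (x * (x * p)) • α := by rw [h.comm x hx p hp]
      _ = x • (x * p) • α := by rw [mul_smul]
      _ = x • α := by rw [(hα α).2 rfl]
  have hpα : p • α = α := by
    have := (hα α).2 rfl
    rw [h.comm x hx p hp, mul_smul, hxα] at this
    exact this
  constructor
  · rintro ⟨hdX, hdP⟩
    rw [← hα, mul_smul, hdP p hp, hdX x hx]
  · rintro rfl
    exact ⟨h.fix x hx hx1 hxt d hxα, h.symm.fix p hp hp1 hpt d hpα⟩

variable {α : D} (hα : ∀ d, (d ∈ FX D X ∧ d ∈ FX D P) ↔ d = α)
include hα

omit h in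
theorem alphaX : α ∈ FX D X := ((hα α).2 rfl).1

omit h in
theorem alphaP : α ∈ FX D P := ((hα α).2 rfl).2

omit h in
theorem hα_symm : ∀ d, (d ∈ FX D P ∧ d ∈ FX D X) ↔ d = α := fun d => by rw [and_comm]; exact hα d

theorem smul_j : j • α = α := by
  rw [← hα]
  exact ⟨(h.symm.FXX α).1 (alphaP hα), (h.FXX α).1 (alphaX hα)⟩

/-- An element of order 4 of `X` fixes only `α` on `Fix P`. -/
theorem eq_alpha {x : Y} (hx : x ∈ X) (hx1 : x ≠ 1) (hxt : x ≠ t) {d : D} (hd : d ∈ FX D P)
    (hxd : x • d = d) : d = α := (hα d).1 ⟨h.fix x hx hx1 hxt d hxd, hd⟩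

/-- **Balance.**  An element of odd order fixing `α` and commuting with an element of order 4 of `P`
and one of `X` fixes `Fix P` pointwise. -/
theorem odd_fix {c x k : Y} (hc : Odd (orderOf c)) (hcα : c • α = α) (hx : x ∈ X) (hx1 : x ≠ 1)
    (hxt : x ≠ t) (hk : k ∈ P) (hk1 : k ≠ 1) (hkt : k ≠ t) (hcx : c * x = x * c)
    (hck : c * k = k * c) {d : D} (hd : d ∈ FX D P) : c • d = d := by
  by_cases hdα : d = α
  · rw [hdα, hcα]
  -- the elements of `Fix P`
  have hmem : ∀ e : D, k • e = e → e ∈ FX D P := fun e he => h.symm.fix k hk hk1 hkt e he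
  have hcF : ∀ e ∈ FX D P, c • e ∈ FX D P := by
    intro e he
    apply hmem
    rw [smul_smul, ← hck, mul_smul, he k hk]
  have hxF : ∀ e ∈ FX D P, x • e ∈ FX D P := by
    intro e he
    apply smul_mem_FX_of_comm _ he
    intro p hp
    exact h.comm x hx p hp
  have hxx : ∀ e : D, x • x • e = e := by
    intro e
    rw [smul_smul, h.sq x hx hx1 hxt, h.tD]
  have hxne : ∀ e ∈ FX D P, e ≠ α → x • e ≠ e := fun e he hne hh =>
    hne (eq_alpha h hα hx hx1 hxt he hh)
  have hcinj : ∀ e e' : D, c • e = c • e' → e = e' := fun e e' hh => MulAction.injective c hh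
  have hcne : ∀ e, e ≠ α → c • e ≠ α := fun e he hh => he (hcinj _ _ (by rw [hh, hcα]))
  have hxα : x • α = α := (alphaX hα) x hx
  have hxne' : ∀ e, e ≠ α → x • e ≠ α := fun e he hh => he (MulAction.injective x (by
    show x • e = x • α
    rw [hh, hxα]))
  have hcomm : ∀ e : D, c • x • e = x • c • e := by
    intro e; rw [smul_smul, smul_smul, hcx]
  by_contra hcd
  -- `c • d = x • d` is impossible
  have hcd2 : c • d ≠ x • d := by
    intro hh
    apply hcd
    apply smul_eq_of_four hc
    have h2 : c • c • d = d := by rw [hh, hcomm, hh, hxx]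
    rw [h2, h2]
  -- the five points
  have h5 : c • c • d ∈ [α, d, x • d, c • d, x • c • d] := by
    refine mem_list_of_ncard (S := FX D P) (l := [α, d, x • d, c • d, x • c • d]) ?_ ?_
      (by rw [h.symm.five]; rfl) (by simp) (hcF _ (hcF _ hd))
    · have e1 := hxne' _ hdα
      have e2 := hcne _ hdα
      have e3 := hxne' _ e2
      have e4 := hxne _ hd hdα
      have e5 := hxne _ (hcF _ hd) e2
      have e6 : x • c • d ≠ d := by
        intro hh
        apply hcd2
        rw [← hh, hxx]
        rw [hh]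
      have e7 : x • c • d ≠ x • d := fun hh => hcd (MulAction.injective x hh)
      simp only [List.nodup_cons, List.mem_cons, List.not_mem_nil, or_false, not_or,
        List.nodup_nil, and_true, not_false_eq_true]
      exact ⟨⟨fun e => hdα e.symm, fun e => e1 e.symm, fun e => e2 e.symm, fun e => e3 e.symm⟩,
        ⟨fun e => e4 e.symm, fun e => hcd e.symm, fun e => e6 e.symm⟩,
        ⟨fun e => hcd2 e.symm, fun e => e7 e.symm⟩, fun e => e5 e.symm⟩
    · intro e he
      simp only [List.mem_cons, List.not_mem_nil, or_false] at he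
      rcases he with rfl | rfl | rfl | rfl | rfl
      · exact alphaP hα
      · exact hd
      · exact hxF _ hd
      · exact hcF _ hd
      · exact hxF _ (hcF _ hd)
  simp only [List.mem_cons, List.not_mem_nil, or_false] at h5
  rcases h5 with h5 | h5 | h5 | h5 | h5
  · exact hcne _ (hcne _ hdα) h5
  · exact hcd (smul_eq_of_four hc (by rw [h5, h5]))
  · exact hcd (smul_eq_of_four hc (by rw [h5, hcomm, hcomm, h5, hxx]))
  · exact hcd (hcinj _ _ h5)
  · rw [← hcomm] at h5
    exact hcd2 (hcinj _ _ h5)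

end Cfsg.Agent.TwoGenNine.Basic
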