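import Cfsg.Agent.TwoGenNine.Count

/-!
# The last configuration of S1728: the count applied to `C(c)/⟨ct⟩`

`c` of order 3, `t` a central involution acting trivially; `C(c)/⟨ct⟩` acts on the fixed points of `c`.
-/

set_option autoImplicit false

open scoped Pointwise

namespace Cfsg.Agent.TwoGenNine.CentQuot

open Subgroup MulAction
open Cfsg.Agent.TwoGenNine.Count

variable {Y : Type*} [Group Y] {D : Type*} [MulAction Y D] (c t : Y)

/-- the centraliser of `c` -/
abbrev Z2 : Subgroup Y := centralizer {c}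

/-- `⟨ct⟩` -/
abbrev N2 : Subgroup (Z2 c) := (zpowers (c * t)).subgroupOf (Z2 c)

variable (D) in
/-- the fixed points of `c` -/
abbrev La : Type _ := {d : D // c • d = d}

theorem mem_Z2 {z : Y} : z ∈ Z2 c ↔ z * c = c * z := mem_centralizer_singleton_iff

/-- the action of the centraliser -/
instance actZ : MulAction (Z2 c) (La D c) where
  smul z d := ⟨(z : Y) • (d : D), by
    rw [smul_smul, ← (mem_Z2 c).mp z.2, mul_smul, d.2]⟩
  one_smul d := Subtype.ext (one_smul Y (d : D))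
  mul_smul a b d := Subtype.ext (mul_smul (a : Y) (b : Y) (d : D))

theorem normal_N2 (htc : ∀ y : Y, t * y = y * t) : (N2 c t).Normal := by
  constructor
  intro n hn g
  have hcomm : Commute (g : Y) (c * t) := by
    have h1 := (mem_Z2 c).mp g.2
    calc (g : Y) * (c * t) = (g * c) * t := by group
      _ = c * (g * t) := by rw [h1]; group
      _ = c * t * g := by rw [← htc]; group
  obtain ⟨k, hk⟩ := mem_zpowers_iff.mp (mem_subgroupOf.mp hn)
  rw [mem_subgroupOf, mem_zpowers_iff]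
  refine ⟨k, ?_⟩
  have h2 := (hcomm.zpow_right k).eq
  rw [hk] at h2
  change (c * t) ^ k = (g : Y) * n * (g : Y)⁻¹
  rw [h2, hk, mul_inv_cancel_right]

/-- the action of `C(c)/⟨ct⟩` -/
@[reducible] def actQ [(N2 c t).Normal] (htD : ∀ d : D, t • d = d) :
    MulAction (Z2 c ⧸ N2 c t) (La D c) :=
  MulAction.compHom _ (QuotientGroup.lift (N2 c t) (MulAction.toPermHom (Z2 c) (La D c)) (by
    intro n hn
    ext d
    change (n : Y) • (d : D) = d
    obtain ⟨k, hk⟩ := mem_zpowers_iff.mp (mem_subgroupOf.mp hn)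
    rw [← hk]
    have h1 : c * t ∈ stabilizer Y (d : D) := by
      rw [mem_stabilizer_iff, mul_smul, htD, d.2]
    exact zpow_mem h1 k))

variable {c t} {α β : D} {P : Subgroup Y}

/-- The count, formulated in `Y`. -/
theorem main [Finite Y] (htc : ∀ y : Y, t * y = y * t) (htD : ∀ d : D, t • d = d) (ht2 : t * t = 1)
    (hc3 : c * c * c = 1)
    (hcP : ∀ p ∈ P, p * c = c * p) (htP : t ∈ P) (h8 : Nat.card P = 8) (ht1 : t ≠ 1)
    (hPt : ∀ p ∈ P, p ≠ 1 → p ≠ t → p * p = t)
    (hcα : c • α = α) (hcβ : c • β = β) (hαβ : α ≠ β)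
    (hfix : ∀ p ∈ P, p ≠ 1 → p ≠ t → ∀ d : D, c • d = d → (p • d = d ↔ d = α ∨ d = β))
    (hcent : ∀ p ∈ P, p ≠ 1 → p ≠ t → ∀ z : Y, z * c = c * z →
      (z * p * z⁻¹ = p ∨ z * p * z⁻¹ = p * t) → z • α = α → ∃ q ∈ P, ∃ k : ℤ, z = q * c ^ k)
    (hcentP : ∀ z : Y, z * c = c * z →
      (∀ p ∈ P, z * p * z⁻¹ = p ∨ z * p * z⁻¹ = p * t) → ∃ q ∈ P, ∃ k : ℤ, z = q * c ^ k)
    (hmoveβ : ∃ b : Y, b * c = c * b ∧ b • α = α ∧ b • β ≠ β)
    (hmoveα : ∃ z : Y, z * c = c * z ∧ z • α ≠ α) :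
    {d : D | ∃ z : Y, z * c = c * z ∧ z • α = d}.ncard = 6 ∧ ∃ z : Y, z * c = c * z ∧ z • α = β := by
  have hN := normal_N2 c t htc
  let act := actQ (D := D) c t htD
  let π : Z2 c →* Z2 c ⧸ N2 c t := QuotientGroup.mk' (N2 c t)
  have hsmul : ∀ (z : Z2 c) (d : La D c), (((π z) • d : La D c) : D) = (z : Y) • (d : D) :=
    fun _ _ => rfl
  have hct : Commute c t := (htc c).symm
  have hb3 : (c * t) ^ 3 = t := by
    rw [hct.mul_pow, pow_succ, pow_two, hc3, one_mul, pow_succ, pow_two, ht2, one_mul]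
  have hb4 : (c * t) ^ 4 = c := by
    rw [pow_succ, hb3, ← mul_assoc, htc c, mul_assoc, ht2, mul_one]
  have htmem : t ∈ zpowers (c * t) := by
    have : (c * t) ^ 3 ∈ zpowers (c * t) := pow_mem (mem_zpowers _) 3
    rwa [hb3] at this
  have hcmem : c ∈ zpowers (c * t) := by
    have : (c * t) ^ 4 ∈ zpowers (c * t) := pow_mem (mem_zpowers _) 4
    rwa [hb4] at this
  have hker : ∀ z : Z2 c, π z = 1 ↔ (z : Y) ∈ zpowers (c * t) := by
    intro z
    exact QuotientGroup.eq_one_iff z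
  -- powers of `t`
  have htk : ∀ k : ℤ, t ^ k = 1 ∨ t ^ k = t := by
    intro k
    rcases Int.even_or_odd k with ⟨m, rfl⟩ | ⟨m, rfl⟩
    · left
      rw [← two_mul, zpow_mul, zpow_two, ht2, one_zpow]
    · right
      rw [zpow_add, zpow_mul, zpow_two, ht2, one_zpow, one_mul, zpow_one]
  have hkey : ∀ k : ℤ, ((c * t) ^ k) ^ 4 = 1 → (c * t) ^ k = 1 ∨ (c * t) ^ k = t := by
    intro k hk
    have h1 : c ^ k = 1 := by
      rw [← hb4, ← zpow_natCast, ← zpow_mul, mul_comm, zpow_mul, zpow_natCast, hk]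
    have h2 : (c * t) ^ k = t ^ k := by rw [hct.mul_zpow, h1, one_mul]
    rw [h2]; exact htk k
  have hp4 : ∀ p ∈ P, p ^ 4 = 1 := by
    intro p hp
    by_cases h1 : p = 1
    · rw [h1, one_pow]
    by_cases h2 : p = t
    · rw [h2, show (4 : ℕ) = 2 * 2 by norm_num, pow_mul, pow_two t, ht2, one_pow]
    · rw [show (4 : ℕ) = 2 * 2 by norm_num, pow_mul, pow_two p, hPt p hp h1 h2, pow_two, ht2]
  have hPb : ∀ p ∈ P, p ∈ zpowers (c * t) → p = 1 ∨ p = t := by
    intro p hp hpz
    obtain ⟨k, hk⟩ := mem_zpowers_iff.mp hpz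
    have := hkey k (by rw [hk]; exact hp4 p hp)
    rwa [hk] at this
  have hPZ : P ≤ Z2 c := fun p hp => (mem_Z2 c).mpr (hcP p hp)
  let V : Subgroup (Z2 c ⧸ N2 c t) := (P.subgroupOf (Z2 c)).map π
  have hV : ∀ q, q ∈ V ↔ ∃ n : Z2 c, (n : Y) ∈ P ∧ π n = q := fun q => Iff.rfl
  -- commuting modulo `⟨ct⟩`
  have hcommP : ∀ p : Z2 c, (p : Y) ∈ P → ∀ z : Z2 c, π z * π p = π p * π z →
      (z : Y) * p * (z : Y)⁻¹ = p ∨ (z : Y) * p * (z : Y)⁻¹ = p * t := by
    intro p hp z hz
    have h1 : π (z * p * z⁻¹ * p⁻¹) = 1 := by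
      rw [map_mul, map_mul, map_mul, map_inv, map_inv, hz]; group
    rw [hker] at h1
    obtain ⟨k, hk⟩ := mem_zpowers_iff.mp h1
    have hk' : (c * t) ^ k = (z : Y) * p * (z : Y)⁻¹ * (p : Y)⁻¹ := hk
    have h2 : (z : Y) * p * (z : Y)⁻¹ = (c * t) ^ k * p := by rw [hk', inv_mul_cancel_right]
    have h3 : Commute ((c * t) ^ k) (p : Y) := by
      apply Commute.zpow_left
      have : Commute c (p : Y) := (hcP p hp).symm
      exact this.mul_left (htc p)
    have h4 : ((c * t) ^ k) ^ 4 = 1 := by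
      have h5 : ((z : Y) * p * (z : Y)⁻¹) ^ 4 = 1 := by
        rw [conj_pow, hp4 p hp]; group
      rw [h2, h3.mul_pow, hp4 p hp, mul_one] at h5
      exact h5
    rcases hkey k h4 with h5 | h5
    · left; rw [h2, h5, one_mul]
    · right; rw [h2, h5, htc]
  have hπc : ∀ (z : Z2 c) (q : Y) (hq : q ∈ P) (k : ℤ), (z : Y) = q * c ^ k → π z ∈ V := by
    intro z q hq k hz
    rw [hV]
    refine ⟨⟨q, hPZ hq⟩, hq, ?_⟩
    have h1 : π (z⁻¹ * ⟨q, hPZ hq⟩) = 1 := by
      rw [hker]
      change (z : Y)⁻¹ * q ∈ _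
      rw [hz, mul_inv_rev, inv_mul_cancel_right]
      exact inv_mem (zpow_mem hcmem k)
    rw [map_mul, map_inv, inv_mul_eq_one] at h1
    exact h1.symm
  have hH : CHyp V (⟨α, hcα⟩ : La D c) (⟨β, hcβ⟩ : La D c) := by
    refine { card4 := ?_, sq := ?_, ne := ?_, fix := ?_, cent := ?_, centV := ?_, moveβ := ?_,
             moveα := ?_ }
    · -- card4
      let f : P.subgroupOf (Z2 c) →* Z2 c ⧸ N2 c t := π.comp (P.subgroupOf (Z2 c)).subtype
      have h1 : Nat.card f.range = Nat.card V := by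
        have : f.range = V := by
          change (π.comp (P.subgroupOf (Z2 c)).subtype).range = _
          rw [MonoidHom.range_comp, Subgroup.range_subtype]
        rw [this]
      have h2 : Nat.card (P.subgroupOf (Z2 c)) = 8 := by
        rw [← h8]; exact Nat.card_congr (subgroupOfEquivOfLe hPZ).toEquiv
      have h3 : Nat.card f.ker = 2 := by
        have h4 : ∀ x : P.subgroupOf (Z2 c), x ∈ f.ker ↔ x = 1 ∨ x = ⟨⟨t, hPZ htP⟩, htP⟩ := by
          intro x
          rw [MonoidHom.mem_ker]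
          change π (x : Z2 c) = 1 ↔ _
          rw [hker]
          constructor
          · intro hx
            rcases hPb _ x.2 hx with h5 | h5
            · left; exact Subtype.ext (Subtype.ext h5)
            · right; exact Subtype.ext (Subtype.ext h5)
          · rintro (rfl | rfl)
            · exact one_mem _
            · exact htmem
        have h5 : (f.ker : Set (P.subgroupOf (Z2 c))) = {1, ⟨⟨t, hPZ htP⟩, htP⟩} := by
          ext x
          rw [SetLike.mem_coe, h4 x]; rfl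
        have h6 : Nat.card f.ker = (f.ker : Set (P.subgroupOf (Z2 c))).ncard :=
          Nat.card_coe_set_eq _
        rw [h6, h5, Set.ncard_pair]
        intro h0
        apply ht1
        exact (congrArg (fun x : P.subgroupOf (Z2 c) => ((x : Z2 c) : Y)) h0).symm
      have h4 := card_mul_index f.ker
      rw [h3, index_ker, h1, h2] at h4
      omega
    · -- sq
      intro v hv
      obtain ⟨n, hn, rfl⟩ := (hV v).1 hv
      rw [← map_mul, hker]
      change (n : Y) * n ∈ _
      by_cases h1 : (n : Y) = 1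
      · rw [h1, one_mul]; exact one_mem _
      by_cases h2 : (n : Y) = t
      · rw [h2, ht2]; exact one_mem _
      · rw [hPt _ hn h1 h2]; exact htmem
    · -- ne
      intro h0
      exact hαβ (congrArg Subtype.val h0)
    · -- fix
      intro v hv hv1 d
      obtain ⟨n, hn, rfl⟩ := (hV v).1 hv
      have hn1 : (n : Y) ≠ 1 := by
        intro h0
        apply hv1
        rw [hker, h0]; exact one_mem _
      have hnt : (n : Y) ≠ t := by
        intro h0
        apply hv1
        rw [hker, h0]; exact htmem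
      have h1 := hfix _ hn hn1 hnt d d.2
      constructor
      · intro h2
        rcases h1.1 (congrArg Subtype.val h2) with h3 | h3
        · left; exact Subtype.ext h3
        · right; exact Subtype.ext h3
      · intro h2
        apply Subtype.ext
        rw [hsmul]
        apply h1.2
        rcases h2 with h3 | h3
        · left; exact congrArg Subtype.val h3
        · right; exact congrArg Subtype.val h3
    · -- cent
      intro v hv hv1 q hq hqα
      obtain ⟨n, hn, rfl⟩ := (hV v).1 hv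
      obtain ⟨z, rfl⟩ := QuotientGroup.mk'_surjective (N2 c t) q
      have hn1 : (n : Y) ≠ 1 := by
        intro h0
        apply hv1
        rw [hker, h0]; exact one_mem _
      have hnt : (n : Y) ≠ t := by
        intro h0
        apply hv1
        rw [hker, h0]; exact htmem
      have h1 := hcommP n hn z hq
      obtain ⟨r, hr, k, hk⟩ := hcent _ hn hn1 hnt z ((mem_Z2 c).1 z.2) h1
        (congrArg Subtype.val hqα)
      exact hπc z r hr k hk
    · -- centV
      intro q hq
      obtain ⟨z, rfl⟩ := QuotientGroup.mk'_surjective (N2 c t) q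
      obtain ⟨r, hr, k, hk⟩ := hcentP z ((mem_Z2 c).1 z.2) (by
        intro p hp
        exact hcommP ⟨p, hPZ hp⟩ hp z (hq _ ((hV _).2 ⟨⟨p, hPZ hp⟩, hp, rfl⟩)))
      exact hπc z r hr k hk
    · -- moveβ
      obtain ⟨b, hb, hbα, hbβ⟩ := hmoveβ
      refine ⟨π ⟨b, (mem_Z2 c).2 hb⟩, Subtype.ext hbα, ?_⟩
      intro h0
      exact hbβ (congrArg Subtype.val h0)
    · -- moveα
      obtain ⟨b, hb, hbα⟩ := hmoveα
      refine ⟨π ⟨b, (mem_Z2 c).2 hb⟩, ?_⟩
      intro h0
      exact hbα (congrArg Subtype.val h0)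
  obtain ⟨h1, h2⟩ := hH.main
  constructor
  · rw [← h1, ← Set.ncard_image_of_injective _ (Subtype.val_injective (p := fun d : D => c • d = d))]
    congr 1
    ext d
    constructor
    · rintro ⟨z, hz, hzα⟩
      exact ⟨_, ⟨π ⟨z, (mem_Z2 c).2 hz⟩, rfl⟩, hzα⟩
    · rintro ⟨_, ⟨q, rfl⟩, rfl⟩
      obtain ⟨z, rfl⟩ := QuotientGroup.mk'_surjective (N2 c t) q
      exact ⟨z, (mem_Z2 c).1 z.2, rfl⟩
  · obtain ⟨q, hq⟩ := h2
    obtain ⟨z, rfl⟩ := QuotientGroup.mk'_surjective (N2 c t) q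
    exact ⟨z, (mem_Z2 c).1 z.2, congrArg Subtype.val hq⟩

end Cfsg.Agent.TwoGenNine.CentQuot
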