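import Cfsg.Agent.TwoGenNine.Basic
import Cfsg.Agent.PermutationGroups.OddKlein

/-!
# The last configuration of S1728: the core lemma

`Om D t X` is generated by the elements of odd order of `C(x) ∩ K_Φ`, `x ∈ X` of order 4.
`Om X = Om P` is a group of odd order.
-/

set_option autoImplicit false

open scoped Pointwise

namespace Cfsg.Agent.TwoGenNine.Core

open Subgroup
open Cfsg.Agent.TwoGenNine.Setup
open Cfsg.Agent.TwoGenNine.Basic

/-- If all 2-elements of `L` are central then the elements of odd order generate a group of odd order. -/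
theorem odd_closure {L : Type*} [Group L] [Finite L]
    (hL : ∀ g : L, (∃ n, g ^ (2 ^ n) = 1) → ∀ y, g * y = y * g) :
    Odd (Nat.card (closure {g : L | Odd (orderOf g)})) := by
  classical
  let S : Sylow 2 L := default
  have hS : ∀ g ∈ S, ∀ y, g * y = y * g := by
    intro g hg
    apply hL
    obtain ⟨n, hn⟩ := S.2 ⟨g, hg⟩
    exact ⟨n, congrArg Subtype.val hn⟩
  have hP : normalizer ((S : Subgroup L) : Set L) ≤ centralizer ((S : Subgroup L) : Set L) := by
    intro y _
    rw [mem_centralizer_iff]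
    intro g hg
    exact hS g hg y
  have h2 : ¬ 2 ∣ Nat.card (MonoidHom.transferSylow S hP).ker :=
    MonoidHom.not_dvd_card_ker_transferSylow S hP
  have hle : closure {g : L | Odd (orderOf g)} ≤ (MonoidHom.transferSylow S hP).ker := by
    rw [closure_le]
    intro g hg
    have hg' : Odd (orderOf g) := hg
    change MonoidHom.transferSylow S hP g = 1
    have h3 : orderOf (MonoidHom.transferSylow S hP g) ∣ orderOf g := orderOf_map_dvd _ _
    have h4 : Odd (orderOf (MonoidHom.transferSylow S hP g)) := hg'.of_dvd_nat h3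
    obtain ⟨n, hn⟩ := (IsPGroup.iff_orderOf.mp S.2) (MonoidHom.transferSylow S hP g)
    rw [hn] at h4
    have h5 : n = 0 := by
      by_contra h0
      exact (Nat.not_odd_iff_even.mpr ((Nat.even_pow.mpr ⟨even_two, h0⟩))) h4
    rw [h5, pow_zero, orderOf_eq_one_iff] at hn
    exact hn
  have h6 := card_dvd_of_le hle
  rw [← Nat.not_even_iff_odd, even_iff_two_dvd]
  exact fun h => h2 (h.trans h6)

/-- Version of `odd_closure` for subgroups. -/
theorem odd_closure' {G : Type*} [Group G] [Finite G] (L : Subgroup G)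
    (hL : ∀ g ∈ L, (∃ n, g ^ (2 ^ n) = 1) → ∀ y ∈ L, g * y = y * g) :
    Odd (Nat.card (closure {g : G | g ∈ L ∧ Odd (orderOf g)})) := by
  have h1 := odd_closure (L := L) (by
    rintro ⟨g, hg⟩ ⟨n, hn⟩ ⟨y, hy⟩
    exact Subtype.ext (hL g hg ⟨n, congrArg Subtype.val hn⟩ y hy))
  have h2 : closure {g : G | g ∈ L ∧ Odd (orderOf g)} =
      (closure {g : L | Odd (orderOf g)}).map L.subtype := by
    rw [MonoidHom.map_closure]
    congr 1
    ext g
    constructor
    · rintro ⟨hg, ho⟩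
      refine ⟨⟨g, hg⟩, ?_, rfl⟩
      change Odd (orderOf (⟨g, hg⟩ : L))
      rwa [Subgroup.orderOf_mk]
    · rintro ⟨⟨g, hg⟩, ho, rfl⟩
      refine ⟨hg, ?_⟩
      change Odd (orderOf (⟨g, hg⟩ : L)) at ho
      rwa [Subgroup.orderOf_mk] at ho
  rw [h2, card_map_of_injective L.subtype_injective]
  exact h1

theorem odd_of_mem {G : Type*} [Group G] {L : Subgroup G} (hL : Odd (Nat.card L)) {g : G}
    (hg : g ∈ L) : Odd (orderOf g) := by
  have : orderOf (⟨g, hg⟩ : L) ∣ Nat.card L := orderOf_dvd_natCard _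
  rw [Subgroup.orderOf_mk] at this
  exact hL.of_dvd_nat this

theorem eq_one_of_odd_of_two {G : Type*} [Group G] {g : G} (ho : Odd (orderOf g))
    (h2 : ∃ n, g ^ (2 ^ n) = 1) : g = 1 := by
  obtain ⟨n, hn⟩ := h2
  have h3 : orderOf g ∣ 2 ^ n := orderOf_dvd_of_pow_eq_one hn
  have h4 : Nat.Coprime (orderOf g) (2 ^ n) :=
    Nat.Coprime.pow_right _ (Nat.coprime_two_right.mpr ho)
  have h5 : orderOf g = 1 := Nat.Coprime.eq_one_of_dvd h4 h3
  exact orderOf_eq_one_iff.mp h5

variable {Y : Type*} [Group Y] [Finite Y] {D : Type*} [MulAction Y D]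

variable {t : Y} {X P : Subgroup Y} {j : Y} (h : Hyp D t X P j)
include h

omit [Finite Y] in
theorem isPGroup_X : IsPGroup 2 X := by
  intro x
  refine ⟨2, ?_⟩
  apply Subtype.ext
  change (x : Y) ^ (2 ^ 2) = 1
  by_cases h1 : (x : Y) = 1
  · rw [h1, one_pow]
  by_cases h2 : (x : Y) = t
  · rw [h2, show (2 : ℕ) ^ 2 = 2 * 2 by norm_num, pow_mul, pow_two t, h.t2, one_pow]
  · rw [show (2 : ℕ) ^ 2 = 2 * 2 by norm_num, pow_mul, pow_two (x : Y), h.sq x x.2 h1 h2, pow_two,
      h.t2]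

/-- Every 2-subgroup of the pointwise stabiliser of `Fix X` is conjugate into `X` there. -/
theorem exists_conj_mem (R : Subgroup Y) (hR : IsPGroup 2 R) (hRK : R ≤ KX D X) :
    ∃ g ∈ KX D X, ∀ r ∈ R, g * r * g⁻¹ ∈ X := by
  let K := KX D X
  have hXK : X ≤ K := le_KX X
  obtain ⟨Q, hQ⟩ := ((isPGroup_X h).comap_of_injective K.subtype K.subtype_injective).exists_le_sylow
  have hQX : ∀ q ∈ Q, (q : Y) ∈ X := by
    intro q hq
    refine h.syl ((Q : Subgroup K).map K.subtype) ?_ (Q.2.map _) ?_ ⟨q, hq, rfl⟩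
    · intro x hx
      exact ⟨⟨x, hXK hx⟩, hQ (mem_subgroupOf.mpr hx), rfl⟩
    · rintro _ ⟨r, -, rfl⟩ d hd
      exact r.2 d hd
  obtain ⟨Q', hQ'⟩ := (hR.comap_of_injective K.subtype K.subtype_injective).exists_le_sylow
  obtain ⟨g, hg⟩ := MulAction.exists_smul_eq K Q' Q
  refine ⟨g, g.2, ?_⟩
  intro r hr
  have h1 : (⟨r, hRK hr⟩ : K) ∈ Q' := hQ' (mem_subgroupOf.mpr hr)
  have h2 : g * ⟨r, hRK hr⟩ * g⁻¹ ∈ Q := by
    rw [← hg]
    change g * ⟨r, hRK hr⟩ * g⁻¹ ∈ ((g • Q' : Sylow 2 K) : Subgroup K)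
    rw [Sylow.coe_subgroup_smul]
    exact Subgroup.smul_mem_pointwise_smul _ (MulAut.conj g) _ h1
  exact hQX _ h2

/-- A 2-element of `K_Φ` commuting with `x ∈ X` of order 4 lies in `⟨x⟩`. -/
theorem two_mem {x g : Y} (hx : x ∈ X) (hx1 : x ≠ 1) (hxt : x ≠ t) (hg : g ∈ KX D X)
    (hgx : g * x = x * g) (hg2 : ∃ n, g ^ (2 ^ n) = 1) : g = 1 ∨ g = t ∨ g = x ∨ g = x * t := by
  have hcomm : ∀ a ∈ ({x, g} : Set Y), ∀ b ∈ ({x, g} : Set Y), a * b = b * a := by
    rintro a (rfl | rfl) b (rfl | rfl)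
    · rfl
    · exact hgx.symm
    · exact hgx
    · rfl
  have hRc : IsMulCommutative (closure ({x, g} : Set Y)) := Subgroup.isMulCommutative_closure hcomm
  have hR : IsPGroup 2 (closure ({x, g} : Set Y)) := by
    obtain ⟨n, hn⟩ := hg2
    intro ⟨r, hr⟩
    refine ⟨max n 2, ?_⟩
    apply Subtype.ext
    change r ^ (2 ^ max n 2) = 1
    induction hr using closure_induction with
    | mem y hy =>
      rcases hy with rfl | rfl
      · obtain ⟨m, hm⟩ : 2 ^ 2 ∣ 2 ^ max n 2 := pow_dvd_pow 2 (le_max_right _ _)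
        have h4 : y ^ (2 ^ 2) = 1 := by
          rw [show (2 : ℕ) ^ 2 = 2 * 2 by norm_num, pow_mul, pow_two y, h.sq y hx hx1 hxt, pow_two,
            h.t2]
        rw [hm, pow_mul, h4, one_pow]
      · obtain ⟨m, hm⟩ : 2 ^ n ∣ 2 ^ max n 2 := pow_dvd_pow 2 (le_max_left _ _)
        rw [hm, pow_mul, hn, one_pow]
    | one => exact one_pow _
    | mul a b ha hb h1 h2 =>
      have hab : a * b = b * a := congrArg Subtype.val (hRc.is_comm.comm ⟨a, ha⟩ ⟨b, hb⟩)
      rw [Commute.mul_pow hab, h1, h2, one_mul]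
    | inv a ha h1 => rw [inv_pow, h1, inv_one]
  obtain ⟨y, hy, hyR⟩ := exists_conj_mem h (closure ({x, g} : Set Y)) hR (by
    rw [closure_le]
    rintro a (rfl | rfl)
    · exact le_KX X hx
    · exact hg)
  have h1 := hyR x (subset_closure (by simp))
  have h2 := hyR g (subset_closure (by simp))
  have h3 : y * g * y⁻¹ = 1 ∨ y * g * y⁻¹ = t ∨ y * g * y⁻¹ = y * x * y⁻¹ ∨
      y * g * y⁻¹ = y * x * y⁻¹ * t := by
    apply h.eq_of_comm h1 _ _ h2
    · calc y * g * y⁻¹ * (y * x * y⁻¹) = y * (g * x) * y⁻¹ := by group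
        _ = y * (x * g) * y⁻¹ := by rw [hgx]
        _ = y * x * y⁻¹ * (y * g * y⁻¹) := by group
    · intro h0
      apply hx1
      have : x = y⁻¹ * (y * x * y⁻¹) * y := by group
      rw [this, h0]; group
    · intro h0
      apply hxt
      have : x = y⁻¹ * (y * x * y⁻¹) * y := by group
      rw [this, h0, mul_assoc, h.tc]; group
  have back : ∀ a b : Y, y * a * y⁻¹ = y * b * y⁻¹ → a = b := by
    intro a b hab
    have := congrArg (fun z => y⁻¹ * z * y) hab
    simpa [mul_assoc] using this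
  rcases h3 with h3 | h3 | h3 | h3
  · left; apply back; rw [h3]; group
  · right; left; apply back; rw [h3, mul_assoc, h.tc]; group
  · right; right; left; exact back _ _ h3
  · right; right; right; apply back; rw [h3, mul_assoc, mul_assoc, ← h.tc]; group

variable {α : D} (hα : ∀ d, (d ∈ FX D X ∧ d ∈ FX D P) ↔ d = α)
include hα

/-- A 2-element fixing `Fix X` and `Fix P` pointwise lies in `⟨t⟩`. -/
theorem two_mem_inf {g : Y} (hg : g ∈ KX D X) (hg' : g ∈ KX D P) (hg2 : ∃ n, g ^ (2 ^ n) = 1) :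
    g = 1 ∨ g = t := by
  have hR : IsPGroup 2 (zpowers g) := by
    obtain ⟨n, hn⟩ := hg2
    intro ⟨r, hr⟩
    refine ⟨n, ?_⟩
    apply Subtype.ext
    change r ^ (2 ^ n) = 1
    obtain ⟨k, rfl⟩ := mem_zpowers_iff.mp hr
    rw [← zpow_natCast, ← zpow_mul, mul_comm, zpow_mul, zpow_natCast, hn, one_zpow]
  obtain ⟨y, hy, hyR⟩ := exists_conj_mem h (zpowers g) hR (by rw [zpowers_le]; exact hg)
  have h1 := hyR g (mem_zpowers g)
  by_contra hcon
  push Not at hcon
  -- `y g y⁻¹` is of order 4 in `X` and fixes `y • Fix P` pointwise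
  have hne1 : y * g * y⁻¹ ≠ 1 := by
    intro h0
    apply hcon.1
    have : g = y⁻¹ * (y * g * y⁻¹) * y := by group
    rw [this, h0]; group
  have hnet : y * g * y⁻¹ ≠ t := by
    intro h0
    apply hcon.2
    have : g = y⁻¹ * (y * g * y⁻¹) * y := by group
    rw [this, h0, mul_assoc, h.tc]; group
  have hsub : ∀ d ∈ FX D P, d = α := by
    intro d hd
    have h2 : y • d ∈ FX D X := by
      apply h.fix _ h1 hne1 hnet
      rw [mul_smul, mul_smul, inv_smul_smul, hg' d hd]
    have h3 : d ∈ FX D X := by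
      have := (KX D X).inv_mem hy _ h2
      rw [inv_smul_smul] at this
      rw [this]; exact h2
    exact (hα d).1 ⟨h3, hd⟩
  have : (FX D P).ncard ≤ 1 := by
    have : FX D P ⊆ {α} := fun d hd => hsub d hd
    calc (FX D P).ncard ≤ ({α} : Set D).ncard := Set.ncard_le_ncard this (Set.toFinite _)
      _ = 1 := Set.ncard_singleton α
  rw [h.symm.five] at this
  norm_num at this

end Cfsg.Agent.TwoGenNine.Core

namespace Cfsg.Agent.TwoGenNine.Core

open Subgroup
open Cfsg.Agent.TwoGenNine.Setup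
open Cfsg.Agent.TwoGenNine.Basic

variable {Y : Type*} [Group Y] {D : Type*} [MulAction Y D]

variable (D) in
/-- `C(x) ∩ K_Φ`. -/
def CK (X : Subgroup Y) (x : Y) : Subgroup Y := centralizer {x} ⊓ KX D X

theorem mem_CK {X : Subgroup Y} {x g : Y} : g ∈ CK D X x ↔ g * x = x * g ∧ g ∈ KX D X := by
  rw [CK, mem_inf, mem_centralizer_singleton_iff]

variable (D) in
/-- the group generated by the elements of odd order of `C(x) ∩ K_Φ` -/
def Ox (X : Subgroup Y) (x : Y) : Subgroup Y := closure {g | g ∈ CK D X x ∧ Odd (orderOf g)}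

variable (D) in
/-- the group generated by all `O_x`, `x ∈ X` of order 4 -/
def Om (t : Y) (X : Subgroup Y) : Subgroup Y :=
  closure {g | ∃ x ∈ X, x ≠ 1 ∧ x ≠ t ∧ g ∈ CK D X x ∧ Odd (orderOf g)}

theorem Ox_le_CK (X : Subgroup Y) (x : Y) : Ox D X x ≤ CK D X x := by
  rw [Ox, closure_le]; exact fun g hg => hg.1

theorem Om_le_KX (t : Y) (X : Subgroup Y) : Om D t X ≤ KX D X := by
  rw [Om, closure_le]
  rintro g ⟨x, -, -, -, hg, -⟩
  exact (mem_CK.1 hg).2

variable {t : Y} {X P : Subgroup Y} {j : Y}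

/-- `CK` and the conjugation by an element which normalises `X`. -/
theorem conj_mem_KX {y : Y} (hy' : ∀ x ∈ X, y * x * y⁻¹ ∈ X)
    {g : Y} (hg : g ∈ KX D X) : y * g * y⁻¹ ∈ KX D X := by
  intro d hd
  have h1 : y⁻¹ • d ∈ FX D X := by
    apply smul_mem_FX _ hd
    simpa using hy'
  rw [mul_smul, mul_smul, hg _ h1, smul_inv_smul]

variable [Finite Y] (h : Hyp D t X P j)
include h

theorem odd_Ox {x : Y} (hx : x ∈ X) (hx1 : x ≠ 1) (hxt : x ≠ t) : Odd (Nat.card (Ox D X x)) := by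
  apply odd_closure'
  intro g hg hg2 y hy
  rw [mem_CK] at hg hy
  rcases two_mem h hx hx1 hxt hg.2 hg.1 hg2 with rfl | rfl | rfl | rfl
  · rw [one_mul, mul_one]
  · exact h.tc y
  · exact hy.1.symm
  · calc x * t * y = x * (t * y) := by group
      _ = x * y * t := by rw [h.tc]; group
      _ = y * (x * t) := by rw [← hy.1]; group

variable {α : D} (hα : ∀ d, (d ∈ FX D X ∧ d ∈ FX D P) ↔ d = α)
include hα

omit [Finite Y] in
/-- **Balance**: an element of odd order of `C(x) ∩ K_Φ` commuting with `k ∈ P` of order 4 is in `C(k) ∩ K_Φ'`. -/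
theorem mem_CK_of {x k c : Y} (hx : x ∈ X) (hx1 : x ≠ 1) (hxt : x ≠ t) (hk : k ∈ P) (hk1 : k ≠ 1)
    (hkt : k ≠ t) (hc : c ∈ CK D X x) (hodd : Odd (orderOf c)) (hck : c * k = k * c) :
    c ∈ CK D P k := by
  rw [mem_CK] at hc ⊢
  refine ⟨hck, fun d hd => ?_⟩
  exact odd_fix h hα hodd (hc.2 _ (alphaX hα)) hx hx1 hxt hk hk1 hkt hc.1 hck hd

theorem Ox_le {x : Y} (hx : x ∈ X) (hx1 : x ≠ 1) (hxt : x ≠ t) : Ox D X x ≤ Om D t P := by
  have hodd := odd_Ox h hx hx1 hxt
  obtain ⟨k, hk, hk1, hkt⟩ := h.symm.exists_mem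
  obtain ⟨l, hl, hl1, hlt, hlk⟩ := h.symm.exists_not_comm hk hk1 hkt
  have hanti := h.symm.anticomm hk hl hlk
  -- elements of `P` normalise `Ox`
  have hnorm : ∀ p ∈ P, ∀ g ∈ Ox D X x, p * g * p⁻¹ ∈ Ox D X x := by
    intro p hp g hg
    have hgen : ∀ g, (g ∈ CK D X x ∧ Odd (orderOf g)) → (p * g * p⁻¹ ∈ CK D X x ∧
        Odd (orderOf (p * g * p⁻¹))) := by
      rintro g ⟨hg, ho⟩
      rw [mem_CK] at hg ⊢
      have hpx : ∀ y ∈ X, y * p = p * y := fun y hy => h.comm y hy p hp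
      refine ⟨⟨?_, ?_⟩, ?_⟩
      · have e1 : p⁻¹ * x = x * p⁻¹ := by
          rw [inv_mul_eq_iff_eq_mul, ← mul_assoc, ← hpx x hx, mul_inv_cancel_right]
        calc p * g * p⁻¹ * x = p * g * (p⁻¹ * x) := by group
          _ = p * (g * x) * p⁻¹ := by rw [e1]; group
          _ = (p * x) * g * p⁻¹ := by rw [hg.1]; group
          _ = x * (p * g * p⁻¹) := by rw [← hpx x hx]; group
      · apply conj_mem_KX _ hg.2
        · intro y hy
          rw [← hpx y hy, mul_inv_cancel_right]; exact hy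
      · have : orderOf (p * g * p⁻¹) = orderOf g := by
          have := orderOf_injective (MulAut.conj p).toMonoidHom (MulAut.conj p).injective g
          simpa [MulAut.conj_apply] using this
        rw [this]; exact ho
    rw [Ox] at hg ⊢
    induction hg using closure_induction with
    | mem y hy => exact subset_closure (hgen y hy)
    | one => rw [mul_one, mul_inv_cancel]; exact one_mem _
    | mul a b ha hb h1 h2 =>
      have := mul_mem h1 h2
      rwa [show p * a * p⁻¹ * (p * b * p⁻¹) = p * (a * b) * p⁻¹ by group] at this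
    | inv a ha h1 =>
      have := inv_mem h1
      rwa [show (p * a * p⁻¹)⁻¹ = p * a⁻¹ * p⁻¹ by group] at this
  -- the automorphisms
  let cj (p : Y) (hp : p ∈ P) : Ox D X x →* Ox D X x :=
    { toFun := fun g => ⟨p * g * p⁻¹, hnorm p hp g g.2⟩
      map_one' := Subtype.ext (by simp)
      map_mul' := fun a b => Subtype.ext (by
        change p * (a * b : Y) * p⁻¹ = p * a * p⁻¹ * (p * b * p⁻¹)
        group) }
  have hcj : ∀ p (hp : p ∈ P) g, ((cj p hp g : Ox D X x) : Y) = p * g * p⁻¹ := fun _ _ _ => rfl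
  have hsq : ∀ p (hp : p ∈ P), p ≠ 1 → p ≠ t → ∀ g, cj p hp (cj p hp g) = g := by
    intro p hp hp1 hpt g
    apply Subtype.ext
    rw [hcj p hp, hcj p hp]
    have h2 := h.symm.sq p hp hp1 hpt
    calc p * (p * (g : Y) * p⁻¹) * p⁻¹ = (p * p) * g * (p * p)⁻¹ := by group
      _ = g := by rw [h2, h.tc]; group
  have hfix : ∀ p ∈ P, p ≠ 1 → p ≠ t → ∀ g ∈ Ox D X x, g * p = p * g → g ∈ Om D t P := by
    intro p hp hp1 hpt g hg hgp
    refine subset_closure ⟨p, hp, hp1, hpt, ?_, odd_of_mem hodd hg⟩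
    exact mem_CK_of h hα hx hx1 hxt hp hp1 hpt (Ox_le_CK X x hg) (odd_of_mem hodd hg) hgp
  have key := Cfsg.Agent.PermutationGroups.OddKlein.eq_top_of_fixed_le hodd (cj k hk) (cj l hl)
    (hsq k hk hk1 hkt) (hsq l hl hl1 hlt) (by
      intro g
      apply Subtype.ext
      rw [hcj k hk, hcj l hl, hcj l hl, hcj k hk]
      have e1 : l * k = k * l * t := hanti
      calc k * (l * (g : Y) * l⁻¹) * k⁻¹ = (k * l) * g * (k * l)⁻¹ := by group
        _ = (k * l * t) * g * (k * l * t)⁻¹ := by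
            rw [mul_inv_rev (k * l) t, mul_assoc (k * l) t, h.tc]; group
        _ = (l * k) * g * (l * k)⁻¹ := by rw [e1]
        _ = l * (k * (g : Y) * k⁻¹) * l⁻¹ := by group)
    ((Om D t P).subgroupOf (Ox D X x)) (by
      intro g hg
      rw [mem_subgroupOf]
      apply hfix k hk hk1 hkt g g.2
      have := congrArg Subtype.val hg
      rw [hcj k hk] at this
      rw [mul_inv_eq_iff_eq_mul] at this
      exact this.symm) (by
      intro g hg
      rw [mem_subgroupOf]
      apply hfix l hl hl1 hlt g g.2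
      have := congrArg Subtype.val hg
      rw [hcj l hl] at this
      rw [mul_inv_eq_iff_eq_mul] at this
      exact this.symm) (by
      intro g hg
      rw [mem_subgroupOf]
      have hkl1 : k * l ≠ 1 := by
        intro h0
        apply hlk
        rw [h0, eq_inv_of_mul_eq_one_left h0]; group
      have hklt : k * l ≠ t := by
        intro h0
        apply hlk
        have : l = k⁻¹ * t := by rw [← h0]; group
        rw [this, ← h.tc k⁻¹, ← mul_assoc, ← h.tc k]; group
      apply hfix (k * l) (P.mul_mem hk hl) hkl1 hklt g g.2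
      have := congrArg Subtype.val hg
      rw [hcj k hk, hcj l hl] at this
      have e2 : k * l * (g : Y) * (k * l)⁻¹ = g := by
        calc k * l * (g : Y) * (k * l)⁻¹ = k * (l * g * l⁻¹) * k⁻¹ := by group
          _ = g := this
      rw [mul_inv_eq_iff_eq_mul] at e2
      exact e2.symm)
  intro g hg
  have h1 : (⟨g, hg⟩ : Ox D X x) ∈ (Om D t P).subgroupOf (Ox D X x) := by rw [key]; trivial
  exact mem_subgroupOf.mp h1

theorem Om_le : Om D t X ≤ Om D t P := by
  rw [Om, closure_le]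
  rintro g ⟨x, hx, hx1, hxt, hg, ho⟩
  exact Ox_le h hα hx hx1 hxt (subset_closure ⟨hg, ho⟩)

theorem Om_eq : Om D t X = Om D t P :=
  le_antisymm (Om_le h hα) (Om_le h.symm (hα_symm hα))

theorem odd_Om : Odd (Nat.card (Om D t X)) := by
  have h1 : Om D t X ≤ closure {g : Y | g ∈ KX D X ⊓ KX D P ∧ Odd (orderOf g)} := by
    rw [Om, closure_le]
    rintro g ⟨x, hx, hx1, hxt, hg, ho⟩
    refine subset_closure ⟨⟨(mem_CK.1 hg).2, ?_⟩, ho⟩
    exact Om_le_KX t P (Om_le h hα (subset_closure ⟨x, hx, hx1, hxt, hg, ho⟩))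
  have h2 : Odd (Nat.card (closure {g : Y | g ∈ KX D X ⊓ KX D P ∧ Odd (orderOf g)})) := by
    apply odd_closure'
    intro g hg hg2 y _
    rcases two_mem_inf h hα hg.1 hg.2 hg2 with rfl | rfl
    · rw [one_mul, mul_one]
    · exact h.tc y
  exact h2.of_dvd_nat (card_dvd_of_le h1)

end Cfsg.Agent.TwoGenNine.Core
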