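import Cfsg.Agent.TwoGenNine.Parity
import Cfsg.Agent.TwoGenNine.CentQuot

/-!
# The last configuration of S1728: the core-free case

`C_Y(X)` fixes `Fix P ∖ α` pointwise.
-/

set_option autoImplicit false

open scoped Pointwise

namespace Cfsg.Agent.TwoGenNine.CoreFree

open Subgroup
open Cfsg.Agent.TwoGenNine.Setup
open Cfsg.Agent.TwoGenNine.Basic
open Cfsg.Agent.TwoGenNine.Core
open Cfsg.Agent.TwoGenNine.QuotHyp
open Cfsg.Agent.TwoGenNine.Labels
open Cfsg.Agent.TwoGenNine.Parity

variable {Y : Type*} [Group Y] {D : Type*} [MulAction Y D]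

variable {t : Y} {X P : Subgroup Y} {j : Y} {α β : D} {p q a k : Y}
  (A : AK D t X P j α β p q a k)
include A

/-- A map commuting with an element `r` of order 4 of `P` preserves `Fix P`. -/
theorem mem_FXP_of_comm {r z : Y} (hr : r ∈ P) (hr1 : r ≠ 1) (hrt : r ≠ t) (hz : z * r = r * z) {d : D}
    (hd : d ∈ FX D P) : z • d ∈ FX D P := by
  apply A.hyp.symm.fix r hr hr1 hrt
  rw [smul_smul, ← hz, mul_smul, hd r hr]

theorem hcent_aux {r z : Y} (hr : r ∈ P) (hr1 : r ≠ 1) (hrt : r ≠ t)
    (hzc : z * (j * a * j) = (j * a * j) * z) (hzr : z * r = r * z) (hzα : z • α = α) :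
    ∃ s ∈ P, ∃ i : ℤ, z = s * (j * a * j) ^ i := by
  have h := A.hyp
  obtain ⟨i, hi⟩ := exists_pow A hzc (fun d hd => mem_FXP_of_comm A hr hr1 hrt hzr hd) (Or.inl hzα)
  set c := j * a * j with hc
  have hcr : Commute c r := (cP A hr).symm
  have h1 : c ^ i * z ∈ P := by
    apply CF_symm h A.cf r hr hr1 hrt
    · intro d hd
      by_cases hdα : d = α
      · rw [hdα, mul_smul, hzα]
        have : c ∈ MulAction.stabilizer Y α := c_α A
        exact zpow_mem this i
      by_cases hdβ : d = j • β
      · rw [hdβ]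
        have h2 : z • j • β = j • β := by
          have h3 : c • z • j • β = z • j • β := by
            rw [smul_smul, ← hzc, mul_smul, hc, c_β A]
          rcases c_fixP A (mem_FXP_of_comm A hr hr1 hrt hzr (β'_mem A)) h3 with h4 | h4
          · exact absurd (MulAction.injective z (h4.trans hzα.symm)) (β'_ne A)
          · exact h4
        rw [mul_smul, h2]
        have : c ∈ MulAction.stabilizer Y (j • β) := c_β A
        exact zpow_mem this i
      · exact hi d hd hdα hdβ
    · exact ((hcr.zpow_left i).mul_left hzr).eq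
  refine ⟨c ^ i * z, h1, -i, ?_⟩
  have h2 : Commute (c ^ i * z) (c ^ (-i)) := by
    apply Commute.zpow_right
    exact ((Commute.refl c).zpow_left i).mul_left hzc
  rw [h2.eq, ← mul_assoc, ← zpow_add, neg_add_cancel, zpow_zero, one_mul]

theorem hcent {r z : Y} (hr : r ∈ P) (hr1 : r ≠ 1) (hrt : r ≠ t)
    (hzc : z * (j * a * j) = (j * a * j) * z) (hzr : z * r * z⁻¹ = r ∨ z * r * z⁻¹ = r * t)
    (hzα : z • α = α) : ∃ s ∈ P, ∃ i : ℤ, z = s * (j * a * j) ^ i := by
  have h := A.hyp
  rcases hzr with h1 | h1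
  · exact hcent_aux A hr hr1 hrt hzc (by rwa [mul_inv_eq_iff_eq_mul] at h1) hzα
  · obtain ⟨s, hs, hs1, hst, hsr⟩ := h.symm.exists_not_comm hr hr1 hrt
    have hsr' := h.symm.anticomm hr hs hsr
    have hsc := cP A hs
    obtain ⟨u, hu, i, hui⟩ := hcent_aux A (z := s * z) hr hr1 hrt
      (Commute.mul_left (show Commute s (j * a * j) from hsc) hzc).eq (by
        rw [mul_inv_eq_iff_eq_mul] at h1
        calc s * z * r = s * (z * r) := by group
          _ = (s * r) * (t * z) := by rw [h1]; group
          _ = r * s * (t * t) * z := by rw [hsr']; group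
          _ = r * (s * z) := by rw [h.t2]; group) (by
        rw [mul_smul, hzα]
        exact alphaP A.alpha s hs)
    refine ⟨s⁻¹ * u, P.mul_mem (P.inv_mem hs) hu, i, ?_⟩
    calc z = s⁻¹ * (s * z) := by group
      _ = _ := by rw [hui]; group

variable [Finite Y] [Finite D]

omit [Finite Y] in
/-- `a₂` has an even number of fixed points. -/
theorem even_La : Even (Nat.card (CentQuot.La D (j * a * j))) := by
  have h := A.hyp
  have hPZ : P ≤ CentQuot.Z2 (j * a * j) := fun r hr => (CentQuot.mem_Z2 _).2 (cP A hr)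
  let act : MulAction P (CentQuot.La D (j * a * j)) :=
    MulAction.compHom _ (Subgroup.inclusion hPZ)
  have hmod := (isPGroup_X h.symm).card_modEq_card_fixedPoints (CentQuot.La D (j * a * j))
  have hfix : MulAction.fixedPoints P (CentQuot.La D (j * a * j)) = {⟨α, c_α A⟩, ⟨j • β, c_β A⟩} := by
    ext d
    constructor
    · intro hd
      have hdP : (d : D) ∈ FX D P := fun r hr => congrArg Subtype.val (hd ⟨r, hr⟩)
      rcases c_fixP A hdP d.2 with h1 | h1
      · left; exact Subtype.ext h1
      · right; exact Subtype.ext h1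
    · rintro (rfl | rfl)
      · intro r
        exact Subtype.ext (alphaP A.alpha r r.2)
      · intro r
        exact Subtype.ext (β'_mem A r r.2)
  have h2 : Nat.card (MulAction.fixedPoints P (CentQuot.La D (j * a * j))) = 2 := by
    rw [Nat.card_coe_set_eq, hfix, Set.ncard_pair]
    intro h0
    exact β'_ne A (congrArg Subtype.val h0).symm
  rw [h2] at hmod
  exact Nat.even_iff.mpr hmod

/-- `t` is the only involution of `C(a₂)`. -/
theorem inv_unique {u : Y} (huc : u * (j * a * j) = (j * a * j) * u) (hu : u * u = 1) (hu1 : u ≠ 1) :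
    u = t := by
  classical
  have h := A.hyp
  by_contra hut
  obtain ⟨d, hd⟩ := h.one u hu hu1 hut
  have hdc : (j * a * j) • d = d := by
    apply (hd _).1
    rw [smul_smul, huc, mul_smul, (hd d).2 rfl]
  have hfin := Fintype.ofFinite (CentQuot.La D (j * a * j))
  have heven := even_La A
  rw [Nat.card_eq_fintype_card, even_iff_two_dvd] at heven
  obtain ⟨b, hb, hbd⟩ := Equiv.Perm.exists_fixed_point_of_prime' (p := 2) (n := 1) heven
    (σ := MulAction.toPermHom (CentQuot.Z2 (j * a * j)) (CentQuot.La D (j * a * j))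
      ⟨u, (CentQuot.mem_Z2 _).2 huc⟩) (by
      rw [pow_one, pow_two, ← map_mul]
      have : (⟨u, (CentQuot.mem_Z2 _).2 huc⟩ : CentQuot.Z2 (j * a * j)) *
        ⟨u, (CentQuot.mem_Z2 _).2 huc⟩ = 1 := Subtype.ext hu
      rw [this, map_one]) (a := ⟨d, hdc⟩) (Subtype.ext ((hd d).2 rfl))
  apply hbd
  apply Subtype.ext
  exact (hd _).1 (congrArg Subtype.val hb)

theorem hcentP {z : Y} (hzc : z * (j * a * j) = (j * a * j) * z)
    (hz : ∀ r ∈ P, z * r * z⁻¹ = r ∨ z * r * z⁻¹ = r * t) :
    ∃ s ∈ P, ∃ i : ℤ, z = s * (j * a * j) ^ i := by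
  have h := A.hyp
  set c := j * a * j with hc
  have hpq : p * q = q * p * t := by
    rw [A.hqp, mul_assoc, h.t2, mul_one]
  -- adjust by an element of `P`
  obtain ⟨s, hs, hsp, hsq⟩ : ∃ s ∈ P, (s * z) * p = p * (s * z) ∧ (s * z) * q = q * (s * z) := by
    have e1 : ∀ r, z * r * z⁻¹ = r → z * r = r * z := fun r hr => by
      rwa [mul_inv_eq_iff_eq_mul] at hr
    have e2 : ∀ r, z * r * z⁻¹ = r * t → z * r = r * t * z := fun r hr => by
      rwa [mul_inv_eq_iff_eq_mul] at hr
    rcases hz p A.hp with h1 | h1 <;> rcases hz q A.hq with h2 | h2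
    · exact ⟨1, P.one_mem, by rw [one_mul, e1 _ h1], by rw [one_mul, e1 _ h2]⟩
    · refine ⟨p, A.hp, by rw [mul_assoc, e1 _ h1], ?_⟩
      calc p * z * q = p * (z * q) := by group
        _ = (p * q) * (t * z) := by rw [e2 _ h2]; group
        _ = q * p * (t * t) * z := by rw [hpq]; group
        _ = q * (p * z) := by rw [h.t2]; group
    · refine ⟨q, A.hq, ?_, by rw [mul_assoc, e1 _ h2]⟩
      calc q * z * p = q * (z * p) := by group
        _ = (q * p) * (t * z) := by rw [e2 _ h1]; group
        _ = p * q * (t * t) * z := by rw [A.hqp]; group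
        _ = p * (q * z) := by rw [h.t2]; group
    · refine ⟨p * q, P.mul_mem A.hp A.hq, ?_, ?_⟩
      · calc p * q * z * p = p * q * (z * p) := by group
          _ = p * (q * p) * (t * z) := by rw [e2 _ h1]; group
          _ = p * p * q * (t * t) * z := by rw [A.hqp]; group
          _ = p * (p * q * z) := by rw [h.t2]; group
      · calc p * q * z * q = p * q * (z * q) := by group
          _ = (p * q) * q * (t * z) := by rw [e2 _ h2]; group
          _ = q * p * (t * q) * (t * z) := by rw [hpq]; group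
          _ = q * p * q * (t * t) * z := by rw [h.tc q]; group
          _ = q * (p * q * z) := by rw [h.t2]; group
  have hsc := cP A hs
  set w := s * z with hw
  have hwc : w * c = c * w := (Commute.mul_left (show Commute s c from hsc) hzc).eq
  -- it suffices to treat `w`
  suffices hmain : ∃ u ∈ P, ∃ i : ℤ, w = u * c ^ i by
    obtain ⟨u, hu, i, hui⟩ := hmain
    refine ⟨s⁻¹ * u, P.mul_mem (P.inv_mem hs) hu, i, ?_⟩
    calc z = s⁻¹ * (s * z) := by group
      _ = _ := by rw [← hw, hui]; group
  have hwP : ∀ d ∈ FX D P, w • d ∈ FX D P := fun d hd =>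
    mem_FXP_of_comm A A.hp A.hp1 A.hpt hsp hd
  have hwα : w • α = α ∨ w • α = j • β := by
    apply c_fixP A (hwP _ (alphaP A.alpha))
    rw [← hc, smul_smul, ← hwc, mul_smul, hc, c_α A]
  rcases hwα with hwα | hwα
  · exact hcent_aux A A.hp A.hp1 A.hpt hwc hsp hwα
  · exfalso
    have hwβ : w • j • β = α := by
      have h1 : w • j • β = α ∨ w • j • β = j • β := by
        apply c_fixP A (hwP _ (β'_mem A))
        rw [← hc, smul_smul, ← hwc, mul_smul, hc, c_β A]
      rcases h1 with h1 | h1
      · exact h1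
      · exact absurd (MulAction.injective w (h1.trans hwα.symm)) (β'_ne A)
    obtain ⟨i, hi⟩ := exists_pow A hwc hwP (Or.inr hwα)
    rw [← hc] at hi
    set v := c ^ i * w with hv
    have hci : ∀ d : D, c • d = d → c ^ i • d = d := by
      intro d hd
      have : c ∈ MulAction.stabilizer Y d := hd
      exact zpow_mem this i
    have hvα : v • α = j • β := by rw [hv, mul_smul, hwα, hci _ (c_β A)]
    have hvβ : v • j • β = α := by rw [hv, mul_smul, hwβ, hci _ (c_α A)]
    have hvv : ∀ d ∈ FX D P, (v * v) • d = d := by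
      intro d hd
      rw [mul_smul]
      by_cases hdα : d = α
      · rw [hdα, hvα, hvβ]
      by_cases hdβ : d = j • β
      · rw [hdβ, hvβ, hvα]
      · rw [hi d hd hdα hdβ, hi d hd hdα hdβ]
    have hcw : Commute c w := hwc.symm
    have hvp : Commute v p := by
      have h1 : Commute c p := (cP A A.hp).symm
      exact (h1.zpow_left i).mul_left hsp
    have hvq : Commute v q := by
      have h1 : Commute c q := (cP A A.hq).symm
      exact (h1.zpow_left i).mul_left hsq
    have hvc : Commute v c := ((Commute.refl c).zpow_left i).mul_left hwc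
    have hvP : ∀ r ∈ P, v * r = r * v := by
      intro r hr
      have h0 : ∀ u : Y, (u = 1 ∨ u = t ∨ u = p ∨ u = p * t) → Commute v u := by
        rintro u (rfl | rfl | rfl | rfl)
        · exact Commute.one_right v
        · exact (h.tc v).symm
        · exact hvp
        · exact hvp.mul_right (h.tc v).symm
      rcases A.mem_P hr with h1 | h1
      · exact h0 _ h1
      · have h2 := h0 _ h1
        have h3 : Commute v (q⁻¹ * (q * r)) := (hvq.inv_right).mul_right h2
        rwa [inv_mul_cancel_left] at h3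
    have hv2 : v * v = 1 ∨ v * v = t := by
      obtain ⟨p', q', L'⟩ := exists_lab' h.symm (hα_symm A.alpha) (β'_mem A) (β'_ne A)
      apply L'.eq_of_act (CF_symm h A.cf) _ hvv
      intro r hr
      exact ((show Commute v r from hvP r hr).mul_left (hvP r hr)).eq
    have hne : ∀ r ∈ P, r * v ≠ 1 ∧ r * v ≠ t := by
      intro r hr
      have h1 : (r * v) • α = j • β := by
        rw [mul_smul, hvα]
        exact β'_mem A r hr
      constructor
      · intro h0
        rw [h0, one_smul] at h1
        exact β'_ne A h1.symm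
      · intro h0
        rw [h0, h.tD] at h1
        exact β'_ne A h1.symm
    rcases hv2 with hv2 | hv2
    · have h1 := hne 1 P.one_mem
      rw [one_mul] at h1
      exact h1.2 (inv_unique A hvc.eq hv2 h1.1)
    · have h1 := hne p A.hp
      apply h1.2
      apply inv_unique A _ _ h1.1
      · exact (Commute.mul_left (show Commute p c from cP A A.hp) hvc).eq
      · calc p * v * (p * v) = p * (v * p) * v := by group
          _ = p * (p * v) * v := by rw [hvp.eq]
          _ = (p * p) * (v * v) := by group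
          _ = 1 := by rw [hv2, h.symm.sq p A.hp A.hp1 A.hpt, h.t2]

/-- **The core-free case.** -/
theorem triv {g : Y} (hg : ∀ x ∈ X, g * x = x * g) {d : D} (hd : d ∈ FX D P) (hdα : d ≠ α) :
    g • d = d := by
  have h := A.hyp
  obtain ⟨r, hrc, hrα, hrβ⟩ := exists_r A
  have hmain := CentQuot.main (c := j * a * j) (t := t) (α := α) (β := j • β) (P := P) h.tc h.tD h.t2
    (c3 A) (fun r hr => cP A hr) h.tP h.symm.card h.t1 (fun r hr h1 h2 => h.symm.sq r hr h1 h2)
    (c_α A) (c_β A) (β'_ne A).symm (by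
      intro r hr hr1 hrt d hdc
      constructor
      · intro hrd
        exact c_fixP A (h.symm.fix r hr hr1 hrt d hrd) hdc
      · rintro (rfl | rfl)
        · exact alphaP A.alpha r hr
        · exact β'_mem A r hr)
    (fun r hr hr1 hrt z hz hzr hzα => hcent A hr hr1 hrt hz hzr hzα)
    (fun z hz hzP => hcentP A hz hzP)
    ⟨r, hrc, hrα, hrβ⟩ ⟨k, c_A A A.kc, by rw [A.kα]; exact A.hβα⟩
  obtain ⟨h6, hβ'⟩ := hmain
  -- the orbit is `Fix X ∪ {β'}`
  have hβX : j • β ∉ FX D X := fun h0 => β'_ne A ((A.alpha _).1 ⟨h0, β'_mem A⟩)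
  have hXsub : ∀ e ∈ FX D X, ∃ z : Y, (∀ x ∈ X, z * x = x * z) ∧ z • α = e := by
    intro e he
    by_cases heα : e = α
    · exact ⟨1, fun x hx => by rw [one_mul, mul_one], by rw [one_smul, heα]⟩
    · by_cases heβ : e = β
      · exact ⟨k, A.kc, by rw [A.kα, heβ]⟩
      · obtain ⟨z, hz, z1, -, -, -⟩ := h.alt α (alphaX A.alpha) e he β A.hβ (Ne.symm heα) heβ
          A.hβα
        exact ⟨z, hz, z1⟩
  have hsub : insert (j • β) (FX D X) ⊆
      {d : D | ∃ z : Y, z * (j * a * j) = (j * a * j) * z ∧ z • α = d} := by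
    rintro e (rfl | he)
    · exact hβ'
    · obtain ⟨z, hz, hzα⟩ := hXsub e he
      exact ⟨z, c_A A hz, hzα⟩
  have heq := Set.eq_of_subset_of_ncard_le hsub (by
    rw [h6, Set.ncard_insert_of_notMem hβX (Set.toFinite _), h.five])
  have hgβ : g • j • β = j • β := by
    obtain ⟨z, hz, hzα⟩ := hβ'
    have h1 : g • j • β ∈ insert (j • β) (FX D X) := by
      rw [heq]
      refine ⟨g * z, ?_, by rw [mul_smul, hzα]⟩
      exact (Commute.mul_left (show Commute g (j * a * j) from c_A A hg) hz).eq
    rcases h1 with h1 | h1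
    · exact h1
    · exfalso
      apply hβX
      have h2 : g⁻¹ • g • j • β ∈ FX D X := by
        apply smul_mem_FX_of_comm _ h1
        intro x hx
        rw [inv_mul_eq_iff_eq_mul, ← mul_assoc, hg x hx, mul_inv_cancel_right]
      rwa [inv_smul_smul] at h2
  obtain ⟨x, hx, hxd⟩ := trans_P h.symm (hα_symm A.alpha) (β'_mem A) (β'_ne A) hd hdα
  rw [hxd, smul_smul, hg x hx, mul_smul, hgβ]

end Cfsg.Agent.TwoGenNine.CoreFree
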