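import Cfsg.Agent.J2Type.FourSelfCent
import Cfsg.Agent.TwoGenNine.Basic

/-!
# The last configuration of S1728: a count

`Z` acts on `Λ`, the four-group `V` has exactly the fixed points `α`, `β` (so has every `v ∈ V∖1`), `V`
contains the centralisers of its involutions in `Z_α`, `C(V) = V`, `Z_α` moves `β` and `Z` moves `α`:
then `α^Z` has exactly six points and contains `β`.
-/

set_option autoImplicit false

open scoped Pointwise

namespace Cfsg.Agent.TwoGenNine.Count

open Subgroup MulAction

variable {Z : Type*} [Group Z] {Λ : Type*} [MulAction Z Λ]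

/-- The hypotheses of the count. -/
structure CHyp (V : Subgroup Z) (α β : Λ) : Prop where
  card4 : Nat.card V = 4
  sq : ∀ v ∈ V, v * v = 1
  ne : α ≠ β
  fix : ∀ v ∈ V, v ≠ 1 → ∀ d : Λ, v • d = d ↔ d = α ∨ d = β
  cent : ∀ v ∈ V, v ≠ 1 → ∀ z, z * v = v * z → z • α = α → z ∈ V
  centV : ∀ z, (∀ v ∈ V, z * v = v * z) → z ∈ V
  moveβ : ∃ b : Z, b • α = α ∧ b • β ≠ β
  moveα : ∃ z : Z, z • α ≠ α

/-- `V` as a subgroup of `Z_α` -/
abbrev VB (V : Subgroup Z) (α : Λ) : Subgroup (stabilizer Z α) := V.subgroupOf (stabilizer Z α)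

/-- `N(V)` in `Z_α` -/
abbrev NB (V : Subgroup Z) (α : Λ) : Subgroup (stabilizer Z α) :=
  normalizer (VB V α : Set (stabilizer Z α))

theorem finset_card {A : Type*} (s : Finset A) : s.card = Nat.card s := by simp

namespace CHyp

variable {V : Subgroup Z} {α β : Λ} (h : CHyp V α β)
include h

theorem V_le : V ≤ stabilizer Z α := by
  intro v hv
  rw [mem_stabilizer_iff]
  by_cases h1 : v = 1
  · rw [h1, one_smul]
  · exact (h.fix v hv h1 α).2 (Or.inl rfl)

theorem V_le' : V ≤ stabilizer Z β := by
  intro v hv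
  rw [mem_stabilizer_iff]
  by_cases h1 : v = 1
  · rw [h1, one_smul]
  · exact (h.fix v hv h1 β).2 (Or.inr rfl)

theorem fsc : J2Type.FourSelfCent.Hyp (VB V α) where
  card4 := by
    rw [← h.card4]
    exact Nat.card_congr (subgroupOfEquivOfLe h.V_le).toEquiv
  sq := fun u hu => Subtype.ext (h.sq u hu)
  cent := by
    intro u hu hu1 x hx
    exact h.cent u hu (fun h0 => hu1 (Subtype.ext h0)) x (congrArg Subtype.val hx) x.2

theorem exists_ne : ∃ v ∈ V, v ≠ 1 := by
  by_contra hcon
  push Not at hcon
  have : V = ⊥ := by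
    rw [eq_bot_iff]; intro x hx; simpa using hcon x hx
  have h4 := h.card4
  rw [this] at h4
  simp at h4

/-- The normaliser of `V` in `Z_α` fixes `β`. -/
theorem normalizer_fix {b : stabilizer Z α}
    (hb : b ∈ NB V α) :
    (b : Z) • β = β := by
  obtain ⟨v, hv, hv1⟩ := h.exists_ne
  have h1 := (mem_normalizer_iff''.mp hb ⟨v, h.V_le hv⟩).mp hv
  have h2 : (b : Z)⁻¹ * v * b ∈ V := h1
  have h3 : (b : Z)⁻¹ * v * b ≠ 1 := by
    intro h0
    apply hv1
    calc v = b * ((b : Z)⁻¹ * v * b) * (b : Z)⁻¹ := by group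
      _ = 1 := by rw [h0]; group
  have h4 : ((b : Z)⁻¹ * v * b) • β = β := (h.fix _ h2 h3 β).2 (Or.inr rfl)
  have h5 : v • ((b : Z) • β) = (b : Z) • β := by
    rw [mul_smul, mul_smul] at h4
    have := congrArg (fun e => (b : Z) • e) h4
    simpa using this
  rcases (h.fix v hv hv1 _).1 h5 with h6 | h6
  · exfalso
    have h7 : (b : Z) • α = α := b.2
    exact h.ne (MulAction.injective (b : Z) (h6.trans h7.symm)).symm
  · exact h6

variable [Finite Z]

theorem card_stab : Nat.card (stabilizer Z α) = 60 := by
  obtain ⟨b, hb, hbβ⟩ := h.moveβ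
  rcases h.fsc.card_cases with hc | hc | hc
  · exfalso
    have : VB V α = ⊤ := by
      apply Subgroup.eq_top_of_card_eq
      rw [h.fsc.card4, hc]
    have hbV : b ∈ V := by
      have : (⟨b, hb⟩ : stabilizer Z α) ∈ VB V α := by rw [this]; trivial
      exact this
    exact hbβ (h.V_le' hbV)
  · exfalso
    have : NB V α = ⊤ := by
      apply Subgroup.eq_top_of_card_eq
      rcases h.fsc.card_normalizer with hN | hN
      · have := h.fsc.card_eq_four hN
        omega
      · rw [hN, hc]
    exact hbβ (h.normalizer_fix (b := ⟨b, hb⟩) (by rw [this]; trivial))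
  · exact hc

theorem card_NB : Nat.card (NB V α) = 12 :=
  h.fsc.card_normalizer_of_sixty h.card_stab

theorem stabβ : stabilizer (stabilizer Z α) β = NB V α := by
  symm
  have hle : NB V α ≤ stabilizer (stabilizer Z α) β := fun b hb => h.normalizer_fix hb
  apply Subgroup.eq_of_le_of_card_ge hle
  rw [h.card_NB]
  have h1 : 12 ∣ Nat.card (stabilizer (stabilizer Z α) β) := by
    rw [← h.card_NB]; exact card_dvd_of_le hle
  have h2 : Nat.card (stabilizer (stabilizer Z α) β) ∣ 60 := by
    rw [← h.card_stab]; exact card_subgroup_dvd_card _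
  have h3 : Nat.card (stabilizer (stabilizer Z α) β) ≠ 60 := by
    intro h0
    obtain ⟨b, hb, hbβ⟩ := h.moveβ
    have : stabilizer (stabilizer Z α) β = ⊤ := by
      apply Subgroup.eq_top_of_card_eq
      rw [h0, h.card_stab]
    apply hbβ
    have : (⟨b, hb⟩ : stabilizer Z α) ∈ stabilizer (stabilizer Z α) β := by rw [this]; trivial
    exact this
  obtain ⟨k, hk⟩ := h1
  rw [hk] at h2 h3 ⊢
  have h4 : k ∣ 5 := by
    have : 12 * k ∣ 12 * 5 := h2
    exact Nat.dvd_of_mul_dvd_mul_left (by norm_num) this
  rcases (Nat.dvd_prime (by norm_num)).1 h4 with rfl | rfl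
  · norm_num
  · exact absurd rfl h3

theorem card_orbitβ : (orbit (stabilizer Z α) β).ncard = 5 := by
  rw [← index_stabilizer, h.stabβ]
  have := card_mul_index (NB V α)
  rw [h.card_stab, h.card_NB] at this
  omega

/-- An element of order two interchanging `α` and `β` normalises `V`. -/
theorem swap_norm {u : Z} (hu : u * u = 1) (huα : u • α = β) {v : Z} (hv : v ∈ V) :
    u * v * u ∈ V := by
  have huβ : u • β = α := by rw [← huα, smul_smul, hu, one_smul]
  have hα : (u * v * u) • α = α := by
    rw [mul_smul, mul_smul, huα, h.V_le' hv, huβ]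
  have hβ : (u * v * u) • β = β := by
    rw [mul_smul, mul_smul, huβ, h.V_le hv, huα]
  have h1 : (⟨u * v * u, hα⟩ : stabilizer Z α) ∈ NB V α := by
    rw [← h.stabβ]; exact hβ
  refine h.fsc.mem_of_sq_of_mem_normalizer (Subtype.ext ?_) h1
  calc u * v * u * (u * v * u) = u * v * (u * u) * v * u := by group
    _ = u * (v * v) * u := by rw [hu]; group
    _ = 1 := by rw [h.sq v hv, mul_one, hu]

omit [Finite Z] in
theorem comm {u v : Z} (hu : u ∈ V) (hv : v ∈ V) : u * v = v * u := by
  have h1 := h.sq _ (V.mul_mem hu hv)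
  have h2 := h.sq _ hu
  have h3 := h.sq _ hv
  have : u * v = (u * v)⁻¹ := eq_inv_of_mul_eq_one_left h1
  rw [this, mul_inv_rev, ← eq_inv_of_mul_eq_one_left h2, ← eq_inv_of_mul_eq_one_left h3]

/-- The elements of order two interchanging `α` and `β`. -/
theorem card_swapβ (s : Finset Z) (hs : ∀ u ∈ s, u * u = 1 ∧ u • α = β) : s.card ≤ 6 := by
  classical
  -- the fixed element
  have hex : ∀ u ∈ s, ∃ w ∈ V, w ≠ 1 ∧ u * w * u = w ∧ ∀ v ∈ V, u * v * u = v → v = 1 ∨ v = w := by
    intro u hus
    obtain ⟨hu, huα⟩ := hs u hus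
    have hexv : ∃ v ∈ V, u * v * u ≠ v := by
      by_contra hcon
      push Not at hcon
      have : u ∈ V := h.centV u (by
        intro v hv
        calc u * v = u * v * (u * u) := by rw [hu, mul_one]
          _ = (u * v * u) * u := by group
          _ = v * u := by rw [hcon v hv])
      exact h.ne ((h.V_le this).symm.trans huα)
    obtain ⟨v, hv, hvu⟩ := hexv
    have hv' := h.swap_norm hu huα hv
    have hv1 : v ≠ 1 := by
      rintro rfl
      apply hvu
      rw [mul_one, hu]
    have hv'1 : u * v * u ≠ 1 := by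
      intro h0
      apply hv1
      calc v = (u * u) * v * (u * u) := by rw [hu]; group
        _ = u * (u * v * u) * u := by group
        _ = 1 := by rw [h0, mul_one, hu]
    have hw1 : v * (u * v * u) ≠ 1 := by
      intro h0
      apply hvu
      exact mul_left_cancel (h0.trans (h.sq v hv).symm)
    have hall : ∀ x ∈ V, x ∈ [1, v, u * v * u, v * (u * v * u)] := by
      intro x hx
      refine TwoGenNine.Basic.mem_list_of_ncard (S := (V : Set Z)) ?_ ?_ ?_ (by simp) hx
      · simp only [List.nodup_cons, List.mem_cons, List.not_mem_nil, or_false, not_or,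
          List.nodup_nil, not_false_eq_true, and_true]
        refine ⟨⟨hv1.symm, hv'1.symm, hw1.symm⟩, ⟨hvu.symm, ?_⟩, ?_⟩
        · intro h0
          apply hv'1
          exact (mul_left_cancel (a := v) (by rw [mul_one]; exact h0)).symm
        · intro h0
          apply hv1
          exact (mul_right_cancel (b := u * v * u) (by rw [one_mul]; exact h0)).symm
      · intro a ha
        simp only [List.mem_cons, List.not_mem_nil, or_false] at ha
        rcases ha with rfl | rfl | rfl | rfl
        · exact V.one_mem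
        · exact hv
        · exact hv'
        · exact V.mul_mem hv hv'
      · rw [← Nat.card_coe_set_eq]
        exact h.card4
    refine ⟨v * (u * v * u), V.mul_mem hv hv', hw1, ?_, ?_⟩
    · calc u * (v * (u * v * u)) * u = (u * v * u) * v * (u * u) := by group
        _ = v * (u * v * u) := by rw [hu, mul_one, h.comm hv' hv]
    · intro x hx hxu
      have := hall x hx
      simp only [List.mem_cons, List.not_mem_nil, or_false] at this
      rcases this with rfl | rfl | rfl | rfl
      · exact Or.inl rfl
      · exact absurd hxu hvu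
      · exfalso
        apply hvu
        rw [← hxu]
        calc u * (u * v * u) * u = (u * u) * v * (u * u) := by group
          _ = v := by rw [hu]; group
      · exact Or.inr rfl
  choose! f hfV hf1 hff hfu using hex
  have hmul : ∀ u ∈ s, ∀ x ∈ V, x ≠ 1 → x ≠ f u → u * x * u = x * f u := by
    intro u hu x hx hx1 hxw
    have hx' := h.swap_norm (hs u hu).1 (hs u hu).2 hx
    have h1 : u * (x * (u * x * u)) * u = x * (u * x * u) := by
      calc u * (x * (u * x * u)) * u = (u * x * u) * x * (u * u) := by group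
        _ = x * (u * x * u) := by rw [(hs u hu).1, mul_one, h.comm hx' hx]
    rcases hfu u hu _ (V.mul_mem hx hx') h1 with h2 | h2
    · exfalso
      have h3 : u * x * u = x := mul_left_cancel (h2.trans (h.sq x hx).symm)
      rcases hfu u hu x hx h3 with h4 | h4
      · exact hx1 h4
      · exact hxw h4
    · rw [← h2, ← mul_assoc, h.sq x hx, one_mul]
  have hfib : ∀ w ∈ s.image f, (s.filter (fun u => f u = w)).card ≤ 2 := by
    intro w hw
    obtain ⟨u0, hu0, rfl⟩ := Finset.mem_image.mp hw
    have hsub : s.filter (fun u => f u = f u0) ⊆ {u0, f u0 * u0} := by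
      intro u hu
      rw [Finset.mem_filter] at hu
      obtain ⟨hu, hfe⟩ := hu
      have huu := (hs u hu).1
      have huu0 := (hs u0 hu0).1
      have hyV : u * u0 ∈ V := by
        apply h.centV
        intro x hx
        -- both act in the same way
        have hsame : u * x * u = u0 * x * u0 := by
          by_cases hx1 : x = 1
          · rw [hx1, mul_one, mul_one, huu, huu0]
          by_cases hxw : x = f u0
          · rw [hxw, hff u0 hu0, ← hfe, hff u hu]
          · rw [hmul u hu x hx hx1 (by rw [hfe]; exact hxw), hmul u0 hu0 x hx hx1 hxw, hfe]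
        have h3 : u0 * (u0 * x * u0) * u0 = x := by
          calc u0 * (u0 * x * u0) * u0 = (u0 * u0) * x * (u0 * u0) := by group
            _ = x := by rw [huu0]; group
        have h4 : u * (u0 * x * u0) * u = x := by
          rw [← hsame]
          calc u * (u * x * u) * u = (u * u) * x * (u * u) := by group
            _ = x := by rw [huu]; group
        calc u * u0 * x = u * (u0 * x * (u0 * u0)) := by rw [huu0]; group
          _ = u * (u0 * x * u0) * (u * u) * u0 := by rw [huu]; group
          _ = (u * (u0 * x * u0) * u) * (u * u0) := by group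
          _ = x * (u * u0) := by rw [h4]
      have hfix : u0 * (u * u0) * u0 = u * u0 := by
        have h5 := h.sq _ hyV
        have h6 : u * u0 * u * u0 = 1 := by rw [← h5]; group
        calc u0 * (u * u0) * u0 = u0 * u * (u0 * u0) := by group
          _ = u0 * u := by rw [huu0, mul_one]
          _ = (u * u0)⁻¹ := by
              rw [mul_inv_rev, inv_eq_of_mul_eq_one_left huu, inv_eq_of_mul_eq_one_left huu0]
          _ = u * u0 := inv_eq_of_mul_eq_one_left h5
      rcases hfu u0 hu0 _ hyV hfix with h7 | h7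
      · rw [Finset.mem_insert]
        left
        calc u = u * (u0 * u0) := by rw [huu0, mul_one]
          _ = (u * u0) * u0 := by group
          _ = u0 := by rw [h7, one_mul]
      · rw [Finset.mem_insert, Finset.mem_singleton]
        right
        calc u = u * (u0 * u0) := by rw [huu0, mul_one]
          _ = (u * u0) * u0 := by group
          _ = _ := by rw [h7]
    exact (Finset.card_le_card hsub).trans Finset.card_le_two
  have h1 := Finset.card_le_mul_card_image s 2 hfib
  have h2 : (s.image f).card ≤ 3 := by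
    have hsub : insert 1 (s.image f) ⊆ (Set.toFinite (V : Set Z)).toFinset := by
      intro w hw
      rw [Finset.mem_insert, Finset.mem_image] at hw
      rw [Set.Finite.mem_toFinset]
      rcases hw with rfl | ⟨u, hu, rfl⟩
      · exact V.one_mem
      · exact hfV u hu
    have h3 := Finset.card_le_card hsub
    rw [Finset.card_insert_of_notMem, ← Set.ncard_eq_toFinset_card, ← Nat.card_coe_set_eq] at h3
    · have h4 : Nat.card ((V : Set Z)) = 4 := h.card4
      omega
    · intro h0
      obtain ⟨u, hu, h1⟩ := Finset.mem_image.mp h0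
      exact hf1 u hu h1
  omega

/-- No subgroup of order 15. -/
theorem card_ne_fifteen (C : Subgroup (stabilizer Z α)) : Nat.card C ≠ 15 := by
  intro hC
  obtain ⟨e⟩ := h.fsc.equiv_of_card_60 h.card_stab
  have hS : IsSimpleGroup (alternatingGroup (Fin 5)) := alternatingGroup.isSimpleGroup (by simp)
  have hS' : IsSimpleGroup (stabilizer Z α) := e.isSimpleGroup
  have hidx : C.index = 4 := by
    have := card_mul_index C
    rw [hC, h.card_stab] at this
    omega
  have hker : (toPermHom (stabilizer Z α) (stabilizer Z α ⧸ C)).ker = ⊥ := by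
    rcases hS'.eq_bot_or_eq_top_of_normal _ (MonoidHom.normal_ker
      (toPermHom (stabilizer Z α) (stabilizer Z α ⧸ C))) with h1 | h1
    · exact h1
    · exfalso
      have h2 : C = ⊤ := by
        rw [eq_top_iff]
        intro g _
        have h3 : g ∈ (toPermHom (stabilizer Z α) (stabilizer Z α ⧸ C)).ker := by rw [h1]; trivial
        have h4 := congrArg (fun σ => σ ((1 : stabilizer Z α) : stabilizer Z α ⧸ C))
          (MonoidHom.mem_ker.mp h3)
        have h5 : ((g : stabilizer Z α) : stabilizer Z α ⧸ C) = ((1 : stabilizer Z α) : stabilizer Z α ⧸ C) := by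
          have h6 : g • ((1 : stabilizer Z α) : stabilizer Z α ⧸ C) = ((1 : stabilizer Z α) : stabilizer Z α ⧸ C) := h4
          rw [MulAction.Quotient.smul_coe, smul_eq_mul, mul_one] at h6
          exact h6
        rw [QuotientGroup.eq, mul_one] at h5
        simpa using h5
      rw [h2, index_top] at hidx
      norm_num at hidx
  have hinj := (MonoidHom.ker_eq_bot_iff _).mp hker
  have h1 := Nat.card_le_card_of_injective _ hinj
  have h2 : Nat.card (stabilizer Z α ⧸ C) = 4 := hidx
  rw [h.card_stab] at h1
  have hfin := Fintype.ofFinite (stabilizer Z α ⧸ C)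
  rw [Nat.card_perm, h2] at h1
  revert h1
  decide

/-- A point which is not in the orbit of `β` under `Z_α`. -/
theorem card_swap {γ : Λ} (hγ : γ ≠ α) (hγβ : γ ∉ orbit (stabilizer Z α) β) :
    Nat.card (stabilizer (stabilizer Z α) γ) ≤ 5 := by
  have hodd : Odd (Nat.card (stabilizer (stabilizer Z α) γ)) := by
    by_contra hcon
    rw [Nat.not_odd_iff_even, even_iff_two_dvd] at hcon
    obtain ⟨u, hu⟩ := exists_prime_orderOf_dvd_card' 2 hcon
    have hu2 : (u : stabilizer Z α) * u = 1 := by
      have := pow_orderOf_eq_one u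
      rw [hu, pow_two] at this
      exact congrArg Subtype.val this
    have hu1 : ((u : stabilizer Z α) : Z) ≠ 1 := by
      intro h0
      have : u = 1 := Subtype.ext (Subtype.ext h0)
      rw [this, orderOf_one] at hu
      norm_num at hu
    obtain ⟨g, hg⟩ := h.fsc.exists_conj_mem hu2
    have h1 : (g : Z)⁻¹ * ((u : stabilizer Z α) : Z) * g ∈ V := hg
    have h2 : ((g : Z)⁻¹ * ((u : stabilizer Z α) : Z) * g) • ((g : Z)⁻¹ • γ) = (g : Z)⁻¹ • γ := by
      rw [mul_smul, mul_smul, smul_inv_smul]
      congr 1
      exact u.2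
    rcases (h.fix _ h1 (by
      intro h0
      apply hu1
      calc ((u : stabilizer Z α) : Z) = g * ((g : Z)⁻¹ * ((u : stabilizer Z α) : Z) * g) * (g : Z)⁻¹ := by
            group
        _ = 1 := by rw [h0]; group) _).1 h2 with h3 | h3
    · apply hγ
      rw [inv_smul_eq_iff] at h3
      rw [h3]
      exact g.2
    · apply hγβ
      rw [inv_smul_eq_iff] at h3
      exact ⟨g, h3.symm⟩
  have hdvd : Nat.card (stabilizer (stabilizer Z α) γ) ∣ 60 := by
    rw [← h.card_stab]; exact card_subgroup_dvd_card _
  have h15 := h.card_ne_fifteen (stabilizer (stabilizer Z α) γ)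
  generalize Nat.card (stabilizer (stabilizer Z α) γ) = n at *
  have hn : n ≤ 60 := Nat.le_of_dvd (by norm_num) hdvd
  by_contra hcon
  push Not at hcon
  interval_cases n <;> revert hodd hdvd h15 <;> decide

/-- The centraliser of `v` has order at most 8. -/
theorem card_cent {v : Z} (hv : v ∈ V) (hv1 : v ≠ 1) : Nat.card (centralizer {v}) ≤ 8 := by
  have h1 : (orbit (centralizer {v} : Subgroup Z) α).ncard ≤ 2 := by
    have hsub : orbit (centralizer {v} : Subgroup Z) α ⊆ {α, β} := by
      rintro _ ⟨c, rfl⟩
      have hc := mem_centralizer_singleton_iff.mp c.2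
      have h2 : v • ((c : Z) • α) = (c : Z) • α := by
        rw [smul_smul, ← hc, mul_smul, h.V_le hv]
      exact (h.fix v hv hv1 _).1 h2
    refine (Set.ncard_le_ncard hsub (Set.toFinite _)).trans ((Set.ncard_insert_le _ _).trans ?_)
    rw [Set.ncard_singleton]
  have h2 : Nat.card (stabilizer (centralizer {v} : Subgroup Z) α) ≤ 4 := by
    rw [← h.card4]
    apply Nat.card_le_card_of_injective (fun c => ⟨((c : (centralizer {v} : Subgroup Z)) : Z), by
      apply h.cent v hv hv1
      · exact mem_centralizer_singleton_iff.mp (c : (centralizer {v} : Subgroup Z)).2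
      · exact c.2⟩)
    intro c c' hcc
    have hcc' : ((c : (centralizer {v} : Subgroup Z)) : Z) = ((c' : (centralizer {v} : Subgroup Z)) : Z) :=
      congrArg (fun x : V => (x : Z)) hcc
    exact Subtype.ext (Subtype.ext hcc')
  rw [← card_mul_index (stabilizer (centralizer {v} : Subgroup Z) α), index_stabilizer]
  calc _ ≤ 4 * 2 := Nat.mul_le_mul h2 h1
    _ = 8 := by norm_num

theorem card_inv_B (s : Finset Z) (hs : ∀ u ∈ s, u * u = 1 ∧ u ≠ 1 ∧ u • α = α) : s.card ≤ 15 := by
  classical
  have h1 := h.fsc.card_involutions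
  have h2 : Nat.card (stabilizer Z α ⧸ NB V α) = 5 := by
    have := card_mul_index (NB V α)
    rw [h.card_stab, h.card_NB] at this
    change (NB V α).index = 5
    omega
  rw [h2] at h1
  have h3 : s.card = Nat.card s := by simp
  rw [h3, show 15 = 3 * 5 by norm_num, ← h1]
  apply Nat.card_le_card_of_injective (fun u : s => (⟨⟨u, (hs u u.2).2.2⟩, fun h0 =>
    (hs u u.2).2.1 (congrArg Subtype.val h0), Subtype.ext (hs u u.2).1⟩ :
    {s : stabilizer Z α // s ≠ 1 ∧ s * s = 1}))
  intro u u' huu
  exact Subtype.ext (congrArg (fun x : {s : stabilizer Z α // s ≠ 1 ∧ s * s = 1} => ((x : stabilizer Z α) : Z)) huu)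

omit h in
/-- Involutions interchanging `α` and `γ`. -/
theorem card_swap_le {γ : Λ} (s : Finset Z) (hs : ∀ u ∈ s, u * u = 1 ∧ u • α = γ) :
    s.card ≤ Nat.card (stabilizer (stabilizer Z α) γ) := by
  classical
  rcases s.eq_empty_or_nonempty with rfl | ⟨u0, hu0⟩
  · simp
  have h3 : s.card = Nat.card s := by simp
  rw [h3]
  have hγ : ∀ u ∈ s, u • γ = α := by
    intro u hu
    rw [← (hs u hu).2, smul_smul, (hs u hu).1, one_smul]
  apply Nat.card_le_card_of_injective (fun u : s => (⟨⟨u * u0, by
    rw [mem_stabilizer_iff, mul_smul, (hs u0 hu0).2, hγ u u.2]⟩, by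
    change (u * u0 : Z) • γ = γ
    rw [mul_smul, hγ u0 hu0, (hs u u.2).2]⟩ : stabilizer (stabilizer Z α) γ))
  intro u u' huu
  have : (u : Z) * u0 = u' * u0 := congrArg (fun x : stabilizer (stabilizer Z α) γ =>
    ((x : stabilizer Z α) : Z)) huu
  exact Subtype.ext (mul_right_cancel this)

theorem main : (orbit Z α).ncard = 6 ∧ β ∈ orbit Z α := by
  classical
  have hZ := Fintype.ofFinite Z
  obtain ⟨v, hv, hv1⟩ := h.exists_ne
  have hvv := h.sq v hv
  -- the conjugates of `v`
  let T : Finset Z := Finset.univ.image (fun g => g * v * g⁻¹)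
  have hT : ∀ u ∈ T, u * u = 1 ∧ u ≠ 1 := by
    intro u hu
    obtain ⟨g, -, rfl⟩ := Finset.mem_image.mp hu
    constructor
    · calc g * v * g⁻¹ * (g * v * g⁻¹) = g * (v * v) * g⁻¹ := by group
        _ = 1 := by rw [hvv]; group
    · intro h0
      apply hv1
      calc v = g⁻¹ * (g * v * g⁻¹) * g := by group
        _ = 1 := by rw [h0]; group
  have hcT : Nat.card Z ≤ 8 * T.card := by
    rw [Nat.card_eq_fintype_card, ← Finset.card_univ]
    apply Finset.card_le_mul_card_image
    intro u hu
    obtain ⟨g, -, rfl⟩ := Finset.mem_image.mp hu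
    refine le_trans ?_ (h.card_cent hv hv1)
    have h3 : (Finset.univ.filter (fun x : Z => x * v * x⁻¹ = g * v * g⁻¹)).card =
        Nat.card (Finset.univ.filter (fun x : Z => x * v * x⁻¹ = g * v * g⁻¹)) := finset_card _
    rw [h3]
    apply Nat.card_le_card_of_injective (fun x : (Finset.univ.filter
      (fun x : Z => x * v * x⁻¹ = g * v * g⁻¹)) => (⟨g⁻¹ * x, by
        rw [mem_centralizer_singleton_iff]
        have hx := (Finset.mem_filter.mp x.2).2
        calc g⁻¹ * x * v = g⁻¹ * (x * v * (x : Z)⁻¹) * x := by group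
          _ = v * (g⁻¹ * x) := by rw [hx]; group⟩ : (centralizer {v} : Subgroup Z)))
    intro x x' hxx
    have : g⁻¹ * (x : Z) = g⁻¹ * x' := congrArg Subtype.val hxx
    exact Subtype.ext (mul_left_cancel this)
  have hfin : (orbit Z α).Finite := Set.finite_range _
  let O : Finset Λ := hfin.toFinset
  have hO : ∀ d, d ∈ O ↔ d ∈ orbit Z α := fun d => hfin.mem_toFinset
  have hcO : (orbit Z α).ncard = O.card := Set.ncard_eq_toFinset_card _ hfin
  have hcZ : Nat.card Z = 60 * O.card := by
    rw [← hcO, ← index_stabilizer, ← h.card_stab, card_mul_index]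
  -- the decomposition of `O`
  let E : Finset Λ := O.filter (fun d => d ∈ orbit (stabilizer Z α) β)
  let M : Finset Λ := O.filter (fun d => d ≠ α ∧ d ∉ orbit (stabilizer Z α) β)
  have hαE : α ∉ orbit (stabilizer Z α) β := by
    rintro ⟨b, hb⟩
    have h1 : (b : Z) • β = α := hb
    have h2 : (b : Z) • α = α := b.2
    exact h.ne (MulAction.injective (b : Z) (h1.trans h2.symm)).symm
  have hOdec : O = insert α (E ∪ M) := by
    ext d
    simp only [Finset.mem_insert, Finset.mem_union, E, M, Finset.mem_filter]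
    constructor
    · intro hd
      by_cases h1 : d = α
      · exact Or.inl h1
      · by_cases h2 : d ∈ orbit (stabilizer Z α) β
        · exact Or.inr (Or.inl ⟨hd, h2⟩)
        · exact Or.inr (Or.inr ⟨hd, h1, h2⟩)
    · rintro (rfl | h1 | h1)
      · exact (hO _).2 (mem_orbit_self _)
      · exact h1.1
      · exact h1.1
  have hdisj : Disjoint E M := by
    rw [Finset.disjoint_left]
    intro d h1 h2
    exact (Finset.mem_filter.mp h2).2.2 (Finset.mem_filter.mp h1).2
  have hαEM : α ∉ E ∪ M := by
    rw [Finset.mem_union, Finset.mem_filter, Finset.mem_filter]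
    rintro (h1 | h1)
    · exact hαE h1.2
    · exact h1.2.1 rfl
  have hcOdec : O.card = E.card + M.card + 1 := by
    rw [hOdec, Finset.card_insert_of_notMem hαEM, Finset.card_union_of_disjoint hdisj]
  -- the decomposition of `T`
  have hTsum : T.card = ∑ d ∈ O, (T.filter (fun u => u • α = d)).card :=
    Finset.card_eq_sum_card_fiberwise (fun u _ => by
      change u • α ∈ O
      rw [hO]; exact ⟨u, rfl⟩)
  have hTα : (T.filter (fun u => u • α = α)).card ≤ 15 :=
    h.card_inv_B _ (fun u hu => by
      rw [Finset.mem_filter] at hu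
      exact ⟨(hT u hu.1).1, (hT u hu.1).2, hu.2⟩)
  have hTE : ∀ d ∈ E, (T.filter (fun u => u • α = d)).card ≤ 6 := by
    intro d hd
    obtain ⟨b, hb⟩ := (Finset.mem_filter.mp hd).2
    have hb' : (b : Z) • β = d := hb
    have hbα : (b : Z) • α = α := b.2
    have h1 := h.card_swapβ ((T.filter (fun u => u • α = d)).image (fun u => (b : Z)⁻¹ * u * b)) (by
      intro u hu
      obtain ⟨u', hu', rfl⟩ := Finset.mem_image.mp hu
      rw [Finset.mem_filter] at hu'
      constructor
      · calc (b : Z)⁻¹ * u' * b * ((b : Z)⁻¹ * u' * b) = (b : Z)⁻¹ * (u' * u') * b := by group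
          _ = 1 := by rw [(hT u' hu'.1).1]; group
      · rw [mul_smul, mul_smul, hbα, hu'.2, ← hb', inv_smul_smul])
    rwa [Finset.card_image_of_injective] at h1
    intro x y hxy
    have hxy' : (b : Z)⁻¹ * x * b = (b : Z)⁻¹ * y * b := hxy
    exact mul_left_cancel (mul_right_cancel hxy')
  have hTM : ∀ d ∈ M, (T.filter (fun u => u • α = d)).card ≤ 5 := by
    intro d hd
    have hd' := (Finset.mem_filter.mp hd).2
    refine (card_swap_le _ ?_).trans (h.card_swap hd'.1 hd'.2)
    intro u hu
    rw [Finset.mem_filter] at hu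
    exact ⟨(hT u hu.1).1, hu.2⟩
  have hTle : T.card ≤ 15 + 6 * E.card + 5 * M.card := by
    rw [hTsum, hOdec, Finset.sum_insert hαEM, Finset.sum_union hdisj]
    have h1 := Finset.sum_le_card_nsmul E _ 6 hTE
    have h2 := Finset.sum_le_card_nsmul M _ 5 hTM
    simp only [smul_eq_mul] at h1 h2
    omega
  by_cases hβ : β ∈ orbit Z α
  · refine ⟨?_, hβ⟩
    have hE : E.card = 5 := by
      rw [← h.card_orbitβ, ← Set.ncard_coe_finset]
      congr 1
      ext d
      simp only [E, Finset.coe_filter, Set.mem_ofPred_eq, hO]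
      constructor
      · exact fun h1 => h1.2
      · rintro ⟨b, rfl⟩
        refine ⟨?_, ⟨b, rfl⟩⟩
        obtain ⟨g, hg⟩ := hβ
        exact ⟨b * g, by
          change ((b : Z) * g) • α = (b : Z) • β
          rw [mul_smul]
          exact congrArg _ hg⟩
    rw [hcO]
    omega
  · exfalso
    have hE : E.card = 0 := by
      rw [Finset.card_eq_zero, Finset.eq_empty_iff_forall_notMem]
      intro d hd
      rw [Finset.mem_filter, hO] at hd
      obtain ⟨⟨g, hg⟩, ⟨b, hb⟩⟩ := hd
      apply hβ
      refine ⟨(b : Z)⁻¹ * g, ?_⟩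
      have hg' : g • α = d := hg
      have hb' : (b : Z) • β = d := hb
      change ((b : Z)⁻¹ * g) • α = β
      rw [mul_smul, hg', ← hb', inv_smul_smul]
    have hM3 : M.card ≤ 3 := by omega
    obtain ⟨z, hz⟩ := h.moveα
    have hzM : z • α ∈ M := by
      rw [Finset.mem_filter, hO]
      refine ⟨⟨z, rfl⟩, hz, ?_⟩
      rintro ⟨b, hb⟩
      apply hβ
      refine ⟨(b : Z)⁻¹ * z, ?_⟩
      have hb' : (b : Z) • β = z • α := hb
      change ((b : Z)⁻¹ * z) • α = β
      rw [mul_smul, ← hb', inv_smul_smul]
    have hzM' := (Finset.mem_filter.mp hzM).2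
    have h5 := h.card_swap hzM'.1 hzM'.2
    have h6 := card_mul_index (stabilizer (stabilizer Z α) (z • α))
    rw [h.card_stab, index_stabilizer] at h6
    have h7 : (orbit (stabilizer Z α) (z • α)).ncard ≤ M.card := by
      rw [← Set.ncard_coe_finset]
      refine Set.ncard_le_ncard ?_ (Finset.finite_toSet _)
      rintro _ ⟨b, rfl⟩
      simp only [M, Finset.coe_filter, Set.mem_ofPred_eq, hO]
      refine ⟨⟨b * z, ?_⟩, ?_, ?_⟩
      · change ((b : Z) * z) • α = (b : Z) • z • α
        rw [mul_smul]
      · intro h0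
        apply hz
        have hbα : (b : Z) • α = α := b.2
        have h0' : (b : Z) • z • α = α := h0
        exact MulAction.injective (b : Z) (h0'.trans hbα.symm)
      · rintro ⟨b', hb'⟩
        apply hzM'.2
        refine ⟨b⁻¹ * b', ?_⟩
        have hb'' : (b' : Z) • β = (b : Z) • z • α := hb'
        change ((b : Z)⁻¹ * b') • β = z • α
        rw [mul_smul, hb'', inv_smul_smul]
    have h8 : 60 ≤ 5 * 3 := by
      rw [← h6]
      exact Nat.mul_le_mul h5 (h7.trans hM3)
    norm_num at h8

end CHyp

end Cfsg.Agent.TwoGenNine.Count
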