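import Cfsg.Agent.TwoGenNine.Close
import Cfsg.Agent.TwoGenNine.FullMain
import Cfsg.Agent.TwoGenNine.SylIn

/-!
# The configuration `Hyp` does not occur in the centraliser of an involution of a simple group
-/

set_option autoImplicit false
set_option linter.unusedSectionVars false

namespace Cfsg.Agent.TwoGenNine.HypFalse

open Subgroup Cfsg
open Cfsg.Agent.NineCore.Proj Cfsg.Agent.NineCore.NoTarget
open Cfsg.Agent.TwoGenNine.Setup
open Cfsg.Agent.TwoGenNine.SylIn

universe u v

/-- `Hyp` for the centraliser of an involution of a simple group is impossible (given the odd order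
theorem); the Sylow clause is the one of `SwapMain.exists_hyp`. -/
theorem false_of_hyp (ft : FTStatement.{u}) {G : Type u} [Group G] [Finite G] [IsSimpleGroup G] {z : G}
    (hz : orderOf z = 2) {D : Type v} [Finite D] [MulAction (centralizer ({z} : Set G)) D]
    {X P : Subgroup (centralizer ({z} : Set G))} {j : centralizer ({z} : Set G)}
    (h : Hyp D ⟨z, mem_self z⟩ X P j)
    (hS : ∃ S : Sylow 2 (centralizer ({z} : Set G)), X ≤ S ∧ P ≤ S ∧ j ∈ S ∧
      ∀ s ∈ S, (cj s X = X ∧ cj s P = P) ∨ (cj s X = P ∧ cj s P = X)) : False := by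
  obtain ⟨S, -, -, hj, hS⟩ := hS
  obtain ⟨α, F⟩ := FullMain.full h
  refine Close.false_of_full ft hz F S hj ?_
  intro s hs
  rcases hS s hs with ⟨h1, -⟩ | ⟨h1, -⟩
  · left
    intro x hx
    have := conj_mem_cj (g := s) hx
    rwa [h1] at this
  · right
    intro x hx
    have := conj_mem_cj (g := s) hx
    rwa [h1] at this

end Cfsg.Agent.TwoGenNine.HypFalse
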