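import Cfsg.Agent.TwoGenNine.QuotHyp

/-!
# The last configuration of S1728: labels and special elements in the core-free case
-/

set_option autoImplicit false

open scoped Pointwise

namespace Cfsg.Agent.TwoGenNine.Labels

open Subgroup
open Cfsg.Agent.TwoGenNine.Setup
open Cfsg.Agent.TwoGenNine.Basic
open Cfsg.Agent.TwoGenNine.Core
open Cfsg.Agent.TwoGenNine.QuotHyp

variable {Y : Type*} [Group Y] {D : Type*} [MulAction Y D]

/-- Core-freeness passes to `P`. -/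
theorem CF_symm {t : Y} {X P : Subgroup Y} {j : Y} (h : Hyp D t X P j) (hc : CF D t X) :
    CF D t P := by
  intro k hk hk1 hkt g hg hgk
  rw [h.memP]
  apply hc (j * k * j) ((h.memP k).1 hk)
  · intro h0
    apply hk1
    have := h.jj k
    rw [h0, mul_one, h.j2] at this
    exact this.symm
  · intro h0
    apply hkt
    have := h.jj k
    rw [h0, h.jtj] at this
    exact this.symm
  · intro d hd
    have h1 := hg (j • d) ((h.FXX d).1 hd)
    rw [mul_smul, mul_smul, h1, h.jsmul]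
  · calc j * g * j * (j * k * j) = j * g * (j * j) * k * j := by group
      _ = j * (g * k) * j := by rw [h.j2]; group
      _ = j * k * (j * j) * g * j := by rw [hgk, h.j2]; group
      _ = j * k * j * (j * g * j) := by group

/-- The labels. -/
structure Lab (D : Type*) [MulAction Y D] (t : Y) (X P : Subgroup Y) (j : Y) (α β : D) (p q : Y) :
    Prop where
  hyp : Hyp D t X P j
  alpha : ∀ d, (d ∈ FX D X ∧ d ∈ FX D P) ↔ d = α
  hp : p ∈ P
  hp1 : p ≠ 1
  hpt : p ≠ t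
  hq : q ∈ P
  hq1 : q ≠ 1
  hqt : q ≠ t
  hqp : q * p = p * q * t
  hβ : β ∈ FX D X
  hβα : β ≠ α

theorem exists_lab' {t : Y} {X P : Subgroup Y} {j : Y} (h : Hyp D t X P j) {α : D}
    (hα : ∀ d, (d ∈ FX D X ∧ d ∈ FX D P) ↔ d = α) {β : D} (hβ : β ∈ FX D X) (hβα : β ≠ α) :
    ∃ p q, Lab D t X P j α β p q := by
  obtain ⟨p, hp, hp1, hpt⟩ := h.symm.exists_mem
  obtain ⟨q, hq, hq1, hqt, hqp⟩ := h.symm.exists_not_comm hp hp1 hpt
  exact ⟨p, q, h, hα, hp, hp1, hpt, hq, hq1, hqt, h.symm.anticomm hp hq hqp, hβ, hβα⟩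

theorem exists_lab {t : Y} {X P : Subgroup Y} {j : Y} (h : Hyp D t X P j) {α : D}
    (hα : ∀ d, (d ∈ FX D X ∧ d ∈ FX D P) ↔ d = α) : ∃ β p q, Lab D t X P j α β p q := by
  obtain ⟨β, hβ, hβα⟩ : ∃ β ∈ FX D X, β ≠ α := by
    by_contra hcon
    push Not at hcon
    have : (FX D X).ncard ≤ 1 := by
      calc (FX D X).ncard ≤ ({α} : Set D).ncard :=
            Set.ncard_le_ncard (fun d hd => hcon d hd) (Set.toFinite _)
        _ = 1 := Set.ncard_singleton α
    rw [h.five] at this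
    norm_num at this
  obtain ⟨p, q, L⟩ := exists_lab' h hα hβ hβα
  exact ⟨β, p, q, L⟩

namespace Lab

variable {t : Y} {X P : Subgroup Y} {j : Y} {α β : D} {p q : Y} (L : Lab D t X P j α β p q)
include L

theorem pp (e : D) : p • p • e = e := by
  rw [smul_smul, L.hyp.symm.sq p L.hp L.hp1 L.hpt, L.hyp.tD]

theorem qq (e : D) : q • q • e = e := by
  rw [smul_smul, L.hyp.symm.sq q L.hq L.hq1 L.hqt, L.hyp.tD]

theorem qp (e : D) : q • p • e = p • q • e := by
  rw [smul_smul, L.hqp, mul_smul, L.hyp.tD, mul_smul]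

theorem pα : p • α = α := alphaP L.alpha p L.hp

theorem qα : q • α = α := alphaP L.alpha q L.hq

theorem eα {r : Y} (hr : r ∈ P) (hr1 : r ≠ 1) (hrt : r ≠ t) {d : D} (hd : d ∈ FX D X)
    (h : r • d = d) : d = α := eq_alpha L.hyp.symm (hα_symm L.alpha) hr hr1 hrt hd h

theorem nodup : [α, β, p • β, q • β, p • q • β].Nodup := by
  have h := L.hyp
  have hinj : ∀ (g : Y) (d e : D), g • d = g • e → d = e := fun g d e he => MulAction.injective g he
  have hpβ : p • β ≠ β := fun h0 => L.hβα (L.eα L.hp L.hp1 L.hpt L.hβ h0)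
  have hqβ : q • β ≠ β := fun h0 => L.hβα (L.eα L.hq L.hq1 L.hqt L.hβ h0)
  have hqp1 : q * p ≠ 1 := by
    intro h0
    have h1 : p * q = 1 := by
      rw [eq_inv_of_mul_eq_one_left h0, mul_inv_cancel]
    have := L.hqp
    rw [h0, h1, one_mul] at this
    exact h.t1 this.symm
  have hqpt : q * p ≠ t := by
    intro h0
    have h1 : q = t * p⁻¹ := by rw [← h0]; group
    have h2 : p * q = t := by rw [h1, ← mul_assoc, ← h.tc, mul_inv_cancel_right]
    have := L.hqp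
    rw [h0, h2, h.t2] at this
    exact h.t1 this
  have hqpβ : q • p • β ≠ β := by
    intro h0
    rw [smul_smul] at h0
    exact L.hβα (L.eα (P.mul_mem L.hq L.hp) hqp1 hqpt L.hβ h0)
  have hpα : p • β ≠ α := by
    intro h0; exact L.hβα (hinj p _ _ (h0.trans L.pα.symm))
  have hqα : q • β ≠ α := by
    intro h0; exact L.hβα (hinj q _ _ (h0.trans L.qα.symm))
  have hpqα : p • q • β ≠ α := by
    intro h0; exact hqα (hinj p _ _ (h0.trans L.pα.symm))
  have hpqβ : p • q • β ≠ β := by rw [← L.qp]; exact hqpβ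
  have h1 : p • β ≠ q • β := by
    intro h0
    apply hqpβ
    rw [h0, L.qq]
  have h2 : p • β ≠ p • q • β := fun h0 => hqβ (hinj p _ _ h0).symm
  have h3 : q • β ≠ p • q • β := by
    rw [← L.qp]
    exact fun h0 => hpβ (hinj q _ _ h0).symm
  simp only [List.nodup_cons, List.mem_cons, List.not_mem_nil, or_false, not_or,
    List.nodup_nil, and_true, not_false_eq_true]
  exact ⟨⟨L.hβα.symm, hpα.symm, hqα.symm, hpqα.symm⟩, ⟨hpβ.symm, hqβ.symm, hpqβ.symm⟩,
    ⟨h1, h2⟩, h3⟩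

theorem smul_mem {r : Y} (hr : r ∈ P) {e : D} (he : e ∈ FX D X) : r • e ∈ FX D X :=
  smul_mem_FX_of_comm (fun x hx => (L.hyp.comm x hx r hr).symm) he

theorem mem_list {e : D} (he : e ∈ FX D X) : e = α ∨ e = β ∨ e = p • β ∨ e = q • β ∨
    e = p • q • β := by
  have := mem_list_of_ncard (S := FX D X) (l := [α, β, p • β, q • β, p • q • β]) L.nodup (by
    intro a ha
    simp only [List.mem_cons, List.not_mem_nil, or_false] at ha
    rcases ha with rfl | rfl | rfl | rfl | rfl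
    · exact alphaX L.alpha
    · exact L.hβ
    · exact L.smul_mem L.hp L.hβ
    · exact L.smul_mem L.hq L.hβ
    · exact L.smul_mem L.hp (L.smul_mem L.hq L.hβ)) (by rw [L.hyp.five]; rfl) (by simp) he
  simpa using this

/-- `P` is transitive on `Fix X ∖ α`. -/
theorem exists_smul {e : D} (he : e ∈ FX D X) (heα : e ≠ α) : ∃ r ∈ P, e = r • β := by
  rcases L.mem_list he with h1 | h1 | h1 | h1 | h1
  · exact absurd h1 heα
  · exact ⟨1, P.one_mem, by rw [one_smul, h1]⟩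
  · exact ⟨p, L.hp, h1⟩
  · exact ⟨q, L.hq, h1⟩
  · exact ⟨p * q, P.mul_mem L.hp L.hq, by rw [mul_smul, h1]⟩

/-- The elements of `P`. -/
theorem mem_P {r : Y} (hr : r ∈ P) : (r = 1 ∨ r = t ∨ r = p ∨ r = p * t) ∨
    (q * r = 1 ∨ q * r = t ∨ q * r = p ∨ q * r = p * t) := by
  by_cases hrp : r * p = p * r
  · left
    exact L.hyp.symm.eq_of_comm L.hp L.hp1 L.hpt hr hrp
  · right
    apply L.hyp.symm.eq_of_comm L.hp L.hp1 L.hpt (P.mul_mem L.hq hr)
    have h1 := L.hyp.symm.anticomm L.hp hr hrp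
    calc q * r * p = q * (r * p) := by group
      _ = q * p * r * t := by rw [h1]; group
      _ = p * q * (t * r) * t := by rw [L.hqp]; group
      _ = p * (q * r) * (t * t) := by rw [L.hyp.tc r]; group
      _ = p * (q * r) := by rw [L.hyp.t2, mul_one]

theorem norm_of {g : Y} (h1 : g * p * g⁻¹ ∈ P) (h2 : g * q * g⁻¹ ∈ P) {r : Y} (hr : r ∈ P) :
    g * r * g⁻¹ ∈ P := by
  have h := L.hyp
  have h3 : ∀ u : Y, (u = 1 ∨ u = t ∨ u = p ∨ u = p * t) → g * u * g⁻¹ ∈ P := by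
    rintro u (rfl | rfl | rfl | rfl)
    · rw [mul_one, mul_inv_cancel]; exact P.one_mem
    · rw [← h.tc, mul_inv_cancel_right]; exact h.tP
    · exact h1
    · have : g * (p * t) * g⁻¹ = g * p * g⁻¹ * t := by
        rw [mul_assoc g, mul_assoc p, h.tc]; group
      rw [this]; exact P.mul_mem h1 h.tP
  rcases L.mem_P hr with h4 | h4
  · exact h3 r h4
  · have h5 := h3 _ h4
    have : g * r * g⁻¹ = (g * q * g⁻¹)⁻¹ * (g * (q * r) * g⁻¹) := by group
    rw [this]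
    exact P.mul_mem (P.inv_mem h2) h5

/-- An element commuting with `X` is determined by its action on the five points, up to `t`. -/
theorem eq_of_act (hc : CF D t X) {g : Y} (hg : ∀ x ∈ X, g * x = x * g)
    (h1 : ∀ e ∈ FX D X, g • e = e) : g = 1 ∨ g = t := by
  have h := L.hyp
  obtain ⟨x, hx, hx1, hxt⟩ := h.exists_mem
  have hgX := hc x hx hx1 hxt g h1 (hg x hx)
  by_cases hg1 : g = 1
  · exact Or.inl hg1
  by_cases hgt : g = t
  · exact Or.inr hgt
  exfalso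
  obtain ⟨y, hy, -, -, hyg⟩ := h.exists_not_comm hgX hg1 hgt
  exact hyg (hg y hy).symm

theorem conj_of_act (hc : CF D t X) {g u v : Y} (hg : ∀ x ∈ X, g * x = x * g)
    (hu : ∀ x ∈ X, u * x = x * u) (hv : ∀ x ∈ X, v * x = x * v)
    (h1 : ∀ e ∈ FX D X, g • u • e = v • g • e) : g * u * g⁻¹ = v ∨ g * u * g⁻¹ = v * t := by
  have h2 : ∀ y : Y, (∀ x ∈ X, y * x = x * y) → ∀ x ∈ X, y⁻¹ * x = x * y⁻¹ := by
    intro y hy x hx
    rw [inv_mul_eq_iff_eq_mul, ← mul_assoc, hy x hx, mul_inv_cancel_right]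
  have h3 : v⁻¹ * (g * u * g⁻¹) = 1 ∨ v⁻¹ * (g * u * g⁻¹) = t := by
    apply L.eq_of_act hc
    · intro x hx
      calc v⁻¹ * (g * u * g⁻¹) * x = v⁻¹ * (g * u * (g⁻¹ * x)) := by group
        _ = v⁻¹ * (g * (u * x) * g⁻¹) := by rw [h2 g hg x hx]; group
        _ = v⁻¹ * ((g * x) * u * g⁻¹) := by rw [hu x hx]; group
        _ = (v⁻¹ * x) * (g * u * g⁻¹) := by rw [hg x hx]; group
        _ = x * (v⁻¹ * (g * u * g⁻¹)) := by rw [h2 v hv x hx]; group
    · intro e he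
      have he' : g⁻¹ • e ∈ FX D X := smul_mem_FX_of_comm (h2 g hg) he
      have h4 := h1 _ he'
      rw [mul_smul, mul_smul, mul_smul, h4, smul_inv_smul, inv_smul_smul]
  rcases h3 with h3 | h3
  · left
    rw [inv_mul_eq_one] at h3
    exact h3.symm
  · right
    rw [inv_mul_eq_iff_eq_mul] at h3
    exact h3

theorem commP {r : Y} (hr : r ∈ P) : ∀ x ∈ X, r * x = x * r :=
  fun x hx => (L.hyp.comm x hx r hr).symm

/-- `k = k₁`. -/
theorem exists_k : ∃ k : Y, (∀ x ∈ X, k * x = x * k) ∧ k * k = t ∧ k • α = β ∧ k • β = α ∧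
    k • p • β = p • β ∧ k • q • β = p • q • β ∧ k • p • q • β = q • β := by
  have hnd := L.nodup
  simp only [List.nodup_cons, List.mem_cons, List.not_mem_nil, or_false, not_or,
    List.nodup_nil, and_true, not_false_eq_true] at hnd
  obtain ⟨⟨n1, n2, n3, n4⟩, ⟨n5, n6, n7⟩, ⟨n8, n9⟩, n10⟩ := hnd
  obtain ⟨g, hg, g1, g2, g3, g4⟩ := L.hyp.alt α (alphaX L.alpha) β L.hβ (p • β)
    (L.smul_mem L.hp L.hβ) n1 n5 (Ne.symm n2)
  have g5 := g4 _ (L.smul_mem L.hq L.hβ) (Ne.symm n3) (Ne.symm n6) (Ne.symm n8)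
  have g6 := g4 _ (L.smul_mem L.hp (L.smul_mem L.hq L.hβ)) (Ne.symm n4) (Ne.symm n7) (Ne.symm n9)
  have i1 : g⁻¹ • β = α := by rw [inv_smul_eq_iff, g1]
  have i2 : g⁻¹ • p • β = β := by rw [inv_smul_eq_iff, g2]
  have i3 : g⁻¹ • α = p • β := by rw [inv_smul_eq_iff, g3]
  have i4 : g⁻¹ • q • β = q • β := by rw [inv_smul_eq_iff, g5]
  have i5 : g⁻¹ • p • q • β = p • q • β := by rw [inv_smul_eq_iff, g6]
  refine ⟨g⁻¹ * p * g, ?_, ?_, ?_, ?_, ?_, ?_, ?_⟩
  · intro x hx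
    have h2 : g⁻¹ * x = x * g⁻¹ := by
      rw [inv_mul_eq_iff_eq_mul, ← mul_assoc, hg x hx, mul_inv_cancel_right]
    calc g⁻¹ * p * g * x = g⁻¹ * p * (g * x) := by group
      _ = g⁻¹ * (p * x) * g := by rw [hg x hx]; group
      _ = (g⁻¹ * x) * p * g := by rw [L.commP L.hp x hx]; group
      _ = x * (g⁻¹ * p * g) := by rw [h2]; group
  · calc g⁻¹ * p * g * (g⁻¹ * p * g) = g⁻¹ * (p * p) * g := by group
      _ = g⁻¹ * (t * g) := by rw [L.hyp.symm.sq p L.hp L.hp1 L.hpt]; group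
      _ = t := by rw [L.hyp.tc]; group
  · rw [mul_smul, mul_smul, g1, i2]
  · rw [mul_smul, mul_smul, g2, L.pp, i1]
  · rw [mul_smul, mul_smul, g3, L.pα, i3]
  · rw [mul_smul, mul_smul, g5, i5]
  · rw [mul_smul, mul_smul, g6, L.pp, i4]

/-- `a = a₁`. -/
theorem exists_a (hc : CF D t X) : ∃ a : Y, (∀ x ∈ X, a * x = x * a) ∧ a * a * a = 1 ∧ a • α = α ∧ a • β = β ∧
    a • p • β = q • β ∧ a • q • β = p • q • β ∧ a • p • q • β = p • β := by
  have hnd := L.nodup
  simp only [List.nodup_cons, List.mem_cons, List.not_mem_nil, or_false, not_or,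
    List.nodup_nil, and_true, not_false_eq_true] at hnd
  obtain ⟨⟨n1, n2, n3, n4⟩, ⟨n5, n6, n7⟩, ⟨n8, n9⟩, n10⟩ := hnd
  obtain ⟨g, hg, g1, g2, g3, g4⟩ := L.hyp.alt (p • β) (L.smul_mem L.hp L.hβ) (q • β)
    (L.smul_mem L.hq L.hβ) (p • q • β) (L.smul_mem L.hp (L.smul_mem L.hq L.hβ)) n8 n10 (Ne.symm n9)
  have g5 := g4 _ (alphaX L.alpha) n2 n3 n4
  have g6 := g4 _ L.hβ n5 n6 n7
  have hg3 : g * g * g = 1 ∨ g * g * g = t := by
    apply L.eq_of_act hc
    · intro x hx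
      have hc : Commute g x := hg x hx
      exact ((hc.mul_left hc).mul_left hc).eq
    · intro e he
      rw [mul_smul, mul_smul]
      rcases L.mem_list he with rfl | rfl | rfl | rfl | rfl
      · rw [g5, g5, g5]
      · rw [g6, g6, g6]
      · rw [g1, g2, g3]
      · rw [g2, g3, g1]
      · rw [g3, g1, g2]
  have h4 : ∀ e : D, (g * g * g * g) • e = g • e := by
    intro e
    rcases hg3 with h3 | h3
    · rw [h3, one_mul]
    · rw [h3, mul_smul, L.hyp.tD]
  refine ⟨g * g * g * g, ?_, ?_, ?_, ?_, ?_, ?_, ?_⟩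
  · intro x hx
    have hc : Commute g x := hg x hx
    exact (((hc.mul_left hc).mul_left hc).mul_left hc).eq
  · calc g * g * g * g * (g * g * g * g) * (g * g * g * g) =
        (g * g * g) * (g * g * g) * ((g * g * g) * (g * g * g)) := by group
      _ = 1 := by
        rcases hg3 with h3 | h3
        · rw [h3]; group
        · rw [h3, L.hyp.t2]; group
  · rw [h4, g5]
  · rw [h4, g6]
  · rw [h4, g1]
  · rw [h4, g2]
  · rw [h4, g3]

end Lab

/-- `P` is transitive on `Fix X ∖ α`. -/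
theorem trans_P {t : Y} {X P : Subgroup Y} {j : Y} (h : Hyp D t X P j) {α : D}
    (hα : ∀ d, (d ∈ FX D X ∧ d ∈ FX D P) ↔ d = α) {d e : D} (hd : d ∈ FX D X) (hdα : d ≠ α)
    (he : e ∈ FX D X) (heα : e ≠ α) : ∃ r ∈ P, e = r • d := by
  obtain ⟨p, q, L⟩ := exists_lab' h hα hd hdα
  exact L.exists_smul he heα

/-- All data of the core-free case. -/
structure AK (D : Type*) [MulAction Y D] (t : Y) (X P : Subgroup Y) (j : Y) (α β : D)
    (p q a k : Y) : Prop extends Lab D t X P j α β p q where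
  cf : CF D t X
  ac : ∀ x ∈ X, a * x = x * a
  a3 : a * a * a = 1
  aα : a • α = α
  aβ : a • β = β
  ap : a • p • β = q • β
  aq : a • q • β = p • q • β
  apq : a • p • q • β = p • β
  kc : ∀ x ∈ X, k * x = x * k
  kk : k * k = t
  kα : k • α = β
  kβ : k • β = α
  kp : k • p • β = p • β
  kq : k • q • β = p • q • β
  kpq : k • p • q • β = q • β

theorem exists_AK {t : Y} {X P : Subgroup Y} {j : Y} (h : Hyp D t X P j) (hc : CF D t X) {α : D}
    (hα : ∀ d, (d ∈ FX D X ∧ d ∈ FX D P) ↔ d = α) : ∃ β p q a k, AK D t X P j α β p q a k := by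
  obtain ⟨β, p, q, L⟩ := exists_lab h hα
  obtain ⟨a, h1, h2, h3, h4, h5, h6, h7⟩ := L.exists_a hc
  obtain ⟨k, k1, k2, k3, k4, k5, k6, k7⟩ := L.exists_k
  exact ⟨β, p, q, a, k, L, hc, h1, h2, h3, h4, h5, h6, h7, k1, k2, k3, k4, k5, k6, k7⟩

namespace AK

variable {t : Y} {X P : Subgroup Y} {j : Y} {α β : D} {p q a k : Y}
  (A : AK D t X P j α β p q a k)
include A

theorem ainv : a⁻¹ = a * a := by
  rw [inv_eq_iff_mul_eq_one, ← mul_assoc, A.a3]

theorem a_p : a * p * a⁻¹ = q ∨ a * p * a⁻¹ = q * t := by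
  apply A.conj_of_act A.cf A.ac (A.commP A.hp) (A.commP A.hq)
  intro e he
  rcases A.mem_list he with rfl | rfl | rfl | rfl | rfl
  · rw [A.pα, A.aα, A.qα]
  · rw [A.ap, A.aβ]
  · rw [A.pp, A.ap, A.qq, A.aβ]
  · rw [A.apq, A.aq, A.qp, A.qq]
  · rw [A.pp, A.apq, A.aq, A.qp]

theorem a_q : a * q * a⁻¹ = p * q ∨ a * q * a⁻¹ = p * q * t := by
  apply A.conj_of_act A.cf A.ac (A.commP A.hq) (A.commP (P.mul_mem A.hp A.hq))
  intro e he
  rcases A.mem_list he with rfl | rfl | rfl | rfl | rfl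
  · rw [A.qα, A.aα, mul_smul, A.qα, A.pα]
  · rw [A.aq, A.aβ, mul_smul]
  · rw [A.qp, A.apq, A.ap, mul_smul, A.qq]
  · rw [A.qq, A.aq, mul_smul, A.aβ, A.qp, A.pp, A.qq]
  · rw [A.qp, A.qq, A.ap, A.apq, mul_smul, A.qp, A.pp]

theorem a_norm {r : Y} (hr : r ∈ P) : a * r * a⁻¹ ∈ P := by
  apply A.norm_of _ _ hr
  · rcases A.a_p with h1 | h1
    · rw [h1]; exact A.hq
    · rw [h1]; exact P.mul_mem A.hq A.hyp.tP
  · rcases A.a_q with h1 | h1
    · rw [h1]; exact P.mul_mem A.hp A.hq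
    · rw [h1]; exact P.mul_mem (P.mul_mem A.hp A.hq) A.hyp.tP

theorem a_norm' {r : Y} (hr : r ∈ P) : a⁻¹ * r * a ∈ P := by
  have h1 := A.a_norm (A.a_norm hr)
  have : a⁻¹ * r * a = a * (a * r * a⁻¹) * a⁻¹ := by
    have h2 : a = a⁻¹ * a⁻¹ := by
      rw [← mul_inv_rev, ← A.ainv, inv_inv]
    calc a⁻¹ * r * a = (a * a) * r * (a⁻¹ * a⁻¹) := by rw [← A.ainv, ← h2]
      _ = _ := by group
  rw [this]; exact h1

/-- `a₁` acts trivially on `Fix P`. -/
theorem a_FXP {d : D} (hd : d ∈ FX D P) : a • d = d := by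
  have h := A.hyp
  by_cases hdα : d = α
  · rw [hdα, A.aα]
  have h1 : a • d ∈ FX D P := smul_mem_FX (fun r hr => A.a_norm' hr) hd
  have h2 : a • d ≠ α := by
    intro h0
    exact hdα (MulAction.injective a (h0.trans A.aα.symm))
  obtain ⟨x, hx, hxd⟩ := trans_P h.symm (hα_symm A.alpha) hd hdα h1 h2
  have hxx : x • x • d = d := by
    by_cases hx1 : x = 1
    · rw [hx1, one_smul, one_smul]
    by_cases hxt : x = t
    · rw [hxt, h.tD, h.tD]
    · rw [smul_smul, h.sq x hx hx1 hxt, h.tD]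
  have h3 : a • a • d = d := by
    rw [hxd, smul_smul, A.ac x hx, mul_smul, hxd, hxx]
  have h4 : a • a • a • d = d := by
    rw [smul_smul, smul_smul, A.a3, one_smul]
  rw [h3] at h4
  exact h4

/-- `k₁` inverts `a₁`. -/
theorem k_a : k * a * k⁻¹ = a⁻¹ := by
  have h := A.hyp
  have h1 : k * a * k⁻¹ = a⁻¹ ∨ k * a * k⁻¹ = a⁻¹ * t := by
    apply A.conj_of_act A.cf A.kc A.ac
    · intro x hx
      rw [inv_mul_eq_iff_eq_mul, ← mul_assoc, A.ac x hx, mul_inv_cancel_right]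
    · intro e he
      rw [eq_comm, inv_smul_eq_iff]
      rcases A.mem_list he with rfl | rfl | rfl | rfl | rfl
      · rw [A.aα, A.kα, A.aβ]
      · rw [A.aβ, A.kβ, A.aα]
      · rw [A.ap, A.kp, A.kq, A.apq]
      · rw [A.aq, A.kq, A.kpq, A.aq]
      · rw [A.apq, A.kp, A.kpq, A.ap]
  rcases h1 with h1 | h1
  · exact h1
  · exfalso
    have h2 : (k * a * k⁻¹) * (k * a * k⁻¹) * (k * a * k⁻¹) = 1 := by
      calc _ = k * (a * a * a) * k⁻¹ := by group
        _ = 1 := by rw [A.a3]; group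
    rw [h1] at h2
    have h3 : Commute a⁻¹ t := (h.tc _).symm
    have h4 : (a⁻¹ * t) * (a⁻¹ * t) * (a⁻¹ * t) = (a * a * a)⁻¹ * (t * t * t) := by
      have : (a⁻¹ * t) ^ 3 = a⁻¹ ^ 3 * t ^ 3 := h3.mul_pow 3
      calc _ = (a⁻¹ * t) ^ 3 := by rw [pow_succ, pow_two]
        _ = a⁻¹ ^ 3 * t ^ 3 := this
        _ = _ := by
          rw [pow_succ, pow_two, pow_succ, pow_two]; group
    rw [h4, A.a3, h.t2] at h2
    apply h.t1
    simpa using h2

theorem a_fix {e : D} (he : e ∈ FX D X) (h1 : a • e = e) : e = α ∨ e = β := by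
  have hnd := A.nodup
  simp only [List.nodup_cons, List.mem_cons, List.not_mem_nil, or_false, not_or,
    List.nodup_nil, and_true, not_false_eq_true] at hnd
  obtain ⟨⟨n1, n2, n3, n4⟩, ⟨n5, n6, n7⟩, ⟨n8, n9⟩, n10⟩ := hnd
  rcases A.mem_list he with rfl | rfl | rfl | rfl | rfl
  · exact Or.inl rfl
  · exact Or.inr rfl
  · rw [A.ap] at h1; exact absurd h1.symm n8
  · rw [A.aq] at h1; exact absurd h1.symm n10
  · rw [A.apq] at h1; exact absurd h1 n9

end AK


end Cfsg.Agent.TwoGenNine.Labels
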