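import Cfsg.Agent.TwoGenNine.Labels

/-!
# The last configuration of S1728: the parity argument
-/

set_option autoImplicit false

open scoped Pointwise

namespace Cfsg.Agent.TwoGenNine.Parity

open Subgroup
open Cfsg.Agent.TwoGenNine.Setup
open Cfsg.Agent.TwoGenNine.Basic
open Cfsg.Agent.TwoGenNine.Core
open Cfsg.Agent.TwoGenNine.QuotHyp
open Cfsg.Agent.TwoGenNine.Labels

variable {Y : Type*} [Group Y] {D : Type*} [MulAction Y D]

variable {t : Y} {X P : Subgroup Y} {j : Y} {α β : D} {p q a k : Y}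
  (A : AK D t X P j α β p q a k)
include A

theorem c3 : j * a * j * (j * a * j) * (j * a * j) = 1 := by
  have h := A.hyp
  calc j * a * j * (j * a * j) * (j * a * j) = j * a * (j * j) * a * (j * j) * a * j := by group
    _ = j * (a * a * a) * j := by rw [h.j2]; group
    _ = 1 := by rw [A.a3, mul_one, h.j2]

theorem cP {r : Y} (hr : r ∈ P) : r * (j * a * j) = (j * a * j) * r := by
  have h := A.hyp
  have h1 := A.ac _ ((h.memP r).1 hr)
  calc r * (j * a * j) = j * ((j * r * j) * a) * j := by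
        calc _ = (j * j) * r * (j * a * j) := by rw [h.j2, one_mul]
          _ = _ := by group
    _ = j * (a * (j * r * j)) * j := by rw [h1]
    _ = (j * a * j) * r * (j * j) := by group
    _ = _ := by rw [h.j2, mul_one]

theorem c_j (d : D) : (j * a * j) • j • d = j • a • d := by
  rw [mul_smul, mul_smul, A.hyp.jsmul]

theorem c_X {d : D} (hd : d ∈ FX D X) : (j * a * j) • d = d := by
  have h := A.hyp
  rw [mul_smul, mul_smul, A.a_FXP ((h.FXX d).1 hd), h.jsmul]

theorem c_normX {x : Y} (hx : x ∈ X) : (j * a * j)⁻¹ * x * (j * a * j) ∈ X := by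
  have h := A.hyp
  have h1 := A.a_norm' ((h.memX x).1 hx)
  have h2 := (h.memP _).1 h1
  have : (j * a * j)⁻¹ * x * (j * a * j) = j * (a⁻¹ * (j * x * j) * a) * j := by
    rw [mul_inv_rev, mul_inv_rev, h.jinv]; group
  rw [this]; exact h2

/-- The centraliser of `X` centralises `a₂`. -/
theorem c_A {g : Y} (hg : ∀ x ∈ X, g * x = x * g) : g * (j * a * j) = (j * a * j) * g := by
  have h := A.hyp
  have hg' : ∀ x ∈ X, g⁻¹ * x = x * g⁻¹ := by
    intro x hx
    rw [inv_mul_eq_iff_eq_mul, ← mul_assoc, hg x hx, mul_inv_cancel_right]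
  have h1 : g * (j * a * j) * g⁻¹ * (j * a * j)⁻¹ = 1 ∨
      g * (j * a * j) * g⁻¹ * (j * a * j)⁻¹ = t := by
    apply A.eq_of_act A.cf
    · intro x hx
      have h2 := c_normX A hx
      set c := j * a * j
      calc g * c * g⁻¹ * c⁻¹ * x = g * c * (g⁻¹ * (c⁻¹ * x * c)) * c⁻¹ := by group
        _ = g * c * ((c⁻¹ * x * c) * g⁻¹) * c⁻¹ := by rw [hg' _ h2]
        _ = (g * x) * c * g⁻¹ * c⁻¹ := by group
        _ = x * (g * c * g⁻¹ * c⁻¹) := by rw [hg x hx]; group
    · intro e he
      have h3 : (j * a * j)⁻¹ • e = e := by rw [inv_smul_eq_iff, c_X A he]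
      have h4 : g⁻¹ • e ∈ FX D X := smul_mem_FX_of_comm hg' he
      rw [mul_smul _ (j * a * j)⁻¹, h3, mul_smul, mul_smul, c_X A h4, smul_inv_smul]
  rcases h1 with h1 | h1
  · rw [mul_inv_eq_one, mul_inv_eq_iff_eq_mul] at h1
    exact h1
  · exfalso
    rw [mul_inv_eq_iff_eq_mul] at h1
    have h2 : (g * (j * a * j) * g⁻¹) * (g * (j * a * j) * g⁻¹) * (g * (j * a * j) * g⁻¹) = 1 := by
      calc _ = g * (j * a * j * (j * a * j) * (j * a * j)) * g⁻¹ := by group
        _ = 1 := by rw [c3 A]; group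
    rw [h1] at h2
    have h3 : Commute t (j * a * j) := h.tc _
    have h4 : t * (j * a * j) * (t * (j * a * j)) * (t * (j * a * j)) = t * t * t * (j * a * j * (j * a * j) * (j * a * j)) := by
      have := h3.mul_pow 3
      simpa only [pow_succ, pow_zero, one_mul] using this
    rw [h4, c3 A, h.t2] at h2
    apply h.t1
    simpa using h2

theorem kinv : k⁻¹ = k * t := by
  rw [inv_eq_iff_mul_eq_one, ← mul_assoc, A.kk, A.hyp.t2]

theorem kinv_smul (e : D) : k⁻¹ • e = k • e := by
  rw [kinv A, mul_smul, A.hyp.tD]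

theorem k2_sq : (j * k * j) * (j * k * j) = t := by
  have h := A.hyp
  calc (j * k * j) * (j * k * j) = j * k * (j * j) * k * j := by group
    _ = j * (k * k) * j := by rw [h.j2]; group
    _ = t := by rw [A.kk, h.jtj]

theorem k2_inv : (j * k * j)⁻¹ = j * k * j * t := by
  rw [inv_eq_iff_mul_eq_one, ← mul_assoc, k2_sq A, A.hyp.t2]

theorem k2_α : (j * k * j) • α = j • β := by
  rw [mul_smul, mul_smul, smul_j A.hyp A.alpha, A.kα]

theorem k2_β : (j * k * j) • j • β = α := by
  rw [mul_smul, mul_smul, A.hyp.jsmul, A.kβ, smul_j A.hyp A.alpha]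

theorem k2_c : (j * k * j) * (j * a * j) * (j * k * j)⁻¹ = (j * a * j)⁻¹ := by
  have h := A.hyp
  have h1 : (j * a * j)⁻¹ = j * a⁻¹ * j := by
    rw [mul_inv_rev, mul_inv_rev, h.jinv]; group
  have h2 : (j * k * j)⁻¹ = j * k⁻¹ * j := by
    rw [mul_inv_rev, mul_inv_rev, h.jinv]; group
  rw [h1, h2, ← A.k_a]
  calc j * k * j * (j * a * j) * (j * k⁻¹ * j) = j * k * (j * j) * a * (j * j) * k⁻¹ * j := by group
    _ = j * (k * a * k⁻¹) * j := by rw [h.j2]; group

/-- `ρ = k₁ k₂` inverts `a₂`. -/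
theorem rho_c : (k * (j * k * j)) * (j * a * j) * (k * (j * k * j))⁻¹ = (j * a * j)⁻¹ := by
  have h1 := k2_c A
  have h2 := c_A A A.kc
  have h3 : k * (j * a * j)⁻¹ = (j * a * j)⁻¹ * k := by
    rw [eq_inv_mul_iff_mul_eq, ← mul_assoc, ← h2, mul_inv_cancel_right]
  calc (k * (j * k * j)) * (j * a * j) * (k * (j * k * j))⁻¹
      = k * ((j * k * j) * (j * a * j) * (j * k * j)⁻¹) * k⁻¹ := by group
    _ = (j * a * j)⁻¹ := by rw [h1, h3]; group

theorem rho_inv : (k * (j * k * j))⁻¹ = (j * k * j) * k := by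
  have h := A.hyp
  rw [mul_inv_rev, k2_inv A, kinv A]
  calc j * k * j * t * (k * t) = j * k * j * (t * k) * t := by group
    _ = j * k * j * k * (t * t) := by rw [h.tc k]; group
    _ = _ := by rw [h.t2, mul_one]

theorem j_rho : j * (k * (j * k * j)) * j = (k * (j * k * j))⁻¹ := by
  rw [rho_inv A]
  calc j * (k * (j * k * j)) * j = j * k * j * k * (j * j) := by group
    _ = _ := by rw [A.hyp.j2, mul_one]

theorem k_rho : k * (k * (j * k * j)) * k⁻¹ = (k * (j * k * j))⁻¹ := by
  rw [rho_inv A, ← mul_assoc, A.kk, kinv A]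
  calc t * (j * k * j) * (k * t) = (t * (j * k * j)) * k * t := by group
    _ = (j * k * j) * (t * k) * t := by rw [A.hyp.tc]; group
    _ = (j * k * j) * k * (t * t) := by rw [A.hyp.tc]; group
    _ = _ := by rw [A.hyp.t2, mul_one]

theorem j_rho_pow (n : ℤ) (d : D) : j • (k * (j * k * j)) ^ n • j • d = (k * (j * k * j)) ^ (-n) • d := by
  have h := A.hyp
  have h1 : (j * (k * (j * k * j)) * j) ^ n = j * (k * (j * k * j)) ^ n * j := by
    have := conj_zpow (i := n) (a := j) (b := k * (j * k * j))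
    rwa [h.jinv] at this
  rw [zpow_neg, ← inv_zpow, ← j_rho A, h1, mul_smul, mul_smul]

theorem k_rho_pow (n : ℤ) (d : D) : k • (k * (j * k * j)) ^ n • d = (k * (j * k * j)) ^ (-n) • k • d := by
  rw [zpow_neg, ← inv_zpow, ← k_rho A, conj_zpow, mul_smul, mul_smul, inv_smul_smul]

variable [Finite Y]

omit [Finite Y] in
theorem j_unique {e : D} (he : j • e = e) : e = α := by
  obtain ⟨d, hd⟩ := A.hyp.one j A.hyp.j2 A.hyp.j1 A.hyp.jt
  rw [(hd e).1 he, (hd α).1 (smul_j A.hyp A.alpha)]

theorem period_odd : Odd (MulAction.period (k * (j * k * j)) α) := by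
  have h := A.hyp
  by_contra hcon
  rw [Nat.not_odd_iff_even] at hcon
  obtain ⟨n, hn⟩ := hcon
  have hpos : 0 < MulAction.period (k * (j * k * j)) α :=
    MulAction.period_pos_of_orderOf_pos (orderOf_pos _) α
  have h1 : (k * (j * k * j)) ^ ((n : ℤ) + n) • α = α := by
    rw [MulAction.zpow_smul_eq_iff_period_dvd, hn]
    push_cast; rfl
  have h2 : (k * (j * k * j)) ^ (-(n : ℤ)) • α = (k * (j * k * j)) ^ (n : ℤ) • α := by
    rw [zpow_neg, inv_smul_eq_iff, smul_smul, ← zpow_add, h1]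
  have h3 : j • (k * (j * k * j)) ^ (n : ℤ) • α = (k * (j * k * j)) ^ (n : ℤ) • α := by
    have := j_rho_pow A n α
    rw [smul_j h A.alpha] at this
    rw [this, h2]
  have h4 := j_unique A h3
  rw [zpow_natCast, MulAction.pow_smul_eq_iff_period_dvd] at h4
  have := Nat.le_of_dvd (by omega) h4
  omega

/-- `r₁` -/
theorem exists_r : ∃ r : Y, r * (j * a * j) = (j * a * j) * r ∧ r • α = α ∧ r • j • β ≠ j • β := by
  have h := A.hyp
  obtain ⟨l, hl⟩ := period_odd A
  set ρ := k * (j * k * j) with hρ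
  set m := MulAction.period ρ α with hm
  have hper : ∀ i : ℤ, ((m : ℕ) : ℤ) ∣ i → ρ ^ i • α = α := by
    intro i hi
    rw [MulAction.zpow_smul_eq_iff_period_dvd]
    exact hi
  let n : ℤ := 2 * (l + 1) ^ 2
  have hmz : (m : ℤ) = 2 * l + 1 := by rw [hl]; push_cast; ring
  have h2n : ρ ^ (2 * n - 1) • α = α := by
    apply hper
    refine ⟨m + 2, ?_⟩
    rw [hmz]; ring
  have h1n : ρ ^ (1 - n) • α = ρ ^ n • α := by
    have : ρ ^ (1 - n) • α = ρ ^ (1 - n) • ρ ^ (2 * n - 1) • α := by rw [h2n]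
    rw [this, smul_smul, ← zpow_add]
    congr 2; ring
  have hk2 : ∀ e : D, (j * k * j) • e = k • ρ • e := by
    intro e
    rw [← kinv_smul A (ρ • e), smul_smul, hρ, inv_mul_cancel_left]
  have hjα := smul_j h A.alpha
  -- `k ρ^n` fixes `α`
  have hr : k • ρ ^ n • α = α := by
    apply j_unique A
    have h3 : j • k • ρ ^ n • α = (j * k * j) • (j • ρ ^ n • j • α) := by
      rw [mul_smul, mul_smul, h.jsmul, hjα]
    rw [h3, j_rho_pow A, hk2, ← hρ]
    have h4 : ρ • ρ ^ (-n) • α = ρ ^ (1 - n) • α := by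
      rw [smul_smul]; congr 1
      rw [sub_eq_add_neg, zpow_add, zpow_one]
    rw [h4, h1n]
  refine ⟨k * ρ ^ n, ?_, ?_, ?_⟩
  · have h3 := c_A A A.kc
    have h4 := rho_c A
    rw [← hρ] at h4
    set c := j * a * j
    have h5 : ρ * c = c⁻¹ * ρ := by
      rw [← h4]; group
    have h6 : ρ * c⁻¹ = c * ρ := by
      have : ρ * c⁻¹ * ρ⁻¹ = c := by
        calc ρ * c⁻¹ * ρ⁻¹ = (ρ * c * ρ⁻¹)⁻¹ := by group
          _ = c := by rw [h4, inv_inv]
      rw [mul_inv_eq_iff_eq_mul] at this
      exact this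
    have h7 : Commute (ρ ^ (2 : ℤ)) c := by
      have : ρ ^ (2 : ℤ) = ρ * ρ := zpow_two ρ
      rw [this]
      change ρ * ρ * c = c * (ρ * ρ)
      rw [mul_assoc, h5, ← mul_assoc, h6, mul_assoc]
    have h8 : Commute (ρ ^ n) c := by
      change Commute (ρ ^ (2 * ((l : ℤ) + 1) ^ 2)) c
      rw [zpow_mul]
      exact h7.zpow_left _
    exact (Commute.mul_left h3 h8).eq
  · rw [mul_smul, hr]
  · intro h0
    -- `k₂ r k₂` fixes `α`
    have h3 : (j * k * j) • (k * ρ ^ n) • (j * k * j) • α = α := by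
      rw [k2_α A, h0, k2_β A]
    have h4 : ρ ^ n • k • ρ • α = k • ρ ^ (1 - n) • α := by
      rw [k_rho_pow A, ← hρ]
      have h5 : k • ρ • α = ρ ^ (-1 : ℤ) • k • α := by
        have := k_rho_pow A 1 α
        rw [← hρ, zpow_one] at this
        exact this
      rw [h5, smul_smul, ← zpow_add]
      congr 2; ring
    have h5 : k • k • ρ ^ (1 - n) • α = ρ ^ (1 - n) • α := by
      rw [smul_smul k k, A.kk, h.tD]
    have h6 : (j * k * j) • ρ ^ (1 - n) • α = α := by
      rw [hk2 α, mul_smul k (ρ ^ n), h4, h5] at h3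
      exact h3
    have h7 : k • ρ ^ (2 - n) • α = α := by
      rw [hk2] at h6
      have : ρ ^ (2 - n) • α = ρ • ρ ^ (1 - n) • α := by
        rw [smul_smul]; congr 1
        rw [show 2 - n = 1 + (1 - n) by ring, zpow_add, zpow_one]
      rw [this]; exact h6
    have h8 : ρ ^ (2 - n) • α = ρ ^ n • α := by
      apply MulAction.injective k
      change k • ρ ^ (2 - n) • α = k • ρ ^ n • α
      rw [h7, hr]
    have h9 : ρ ^ (2 * n - 2) • α = α := by
      have h10 : ρ ^ (n - 2) • ρ ^ (2 - n) • α = ρ ^ (n - 2) • ρ ^ n • α := by rw [h8]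
      rw [smul_smul, smul_smul, ← zpow_add, ← zpow_add, show n - 2 + (2 - n) = 0 by ring, zpow_zero,
        one_smul, show n - 2 + n = 2 * n - 2 by ring] at h10
      exact h10.symm
    have h10 : ρ • α = α := by
      have : ρ ^ (2 * n - 1) • α = ρ • ρ ^ (2 * n - 2) • α := by
        rw [smul_smul]; congr 1
        rw [show 2 * n - 1 = 1 + (2 * n - 2) by ring, zpow_add, zpow_one]
      rw [h9] at this
      rw [← this, h2n]
    have h11 : j • β = β := by
      have h12 := hk2 α
      rw [h10, k2_α A, A.kα] at h12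
      exact h12
    exact A.hβα (j_unique A h11)


omit [Finite Y] in
theorem c_fixP {d : D} (hd : d ∈ FX D P) (h1 : (j * a * j) • d = d) : d = α ∨ d = j • β := by
  have h := A.hyp
  have h2 : (j * a * j) • j • j • d = j • a • j • d := c_j A (j • d)
  rw [h.jsmul, h1] at h2
  have h3 : a • j • d = j • d := by
    have := congrArg (fun e => j • e) h2
    simp only [h.jsmul] at this
    exact this.symm
  rcases A.a_fix ((h.FXP d).1 hd) h3 with h4 | h4
  · left
    have := congrArg (fun e => j • e) h4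
    simp only [h.jsmul] at this
    rw [this, smul_j h A.alpha]
  · right
    have := congrArg (fun e => j • e) h4
    simp only [h.jsmul] at this
    exact this

omit [Finite Y] in
theorem c_α : (j * a * j) • α = α := by
  rw [mul_smul, mul_smul, smul_j A.hyp A.alpha, A.aα, smul_j A.hyp A.alpha]

omit [Finite Y] in
theorem c_β : (j * a * j) • j • β = j • β := by
  rw [c_j A, A.aβ]

omit [Finite Y] in
theorem β'_mem : j • β ∈ FX D P := (A.hyp.FXX β).1 A.hβ

omit [Finite Y] in
theorem β'_ne : j • β ≠ α := fun h0 => A.hβα (MulAction.injective j (h0.trans (smul_j A.hyp A.alpha).symm))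

omit [Finite Y] in
/-- An element commuting with `a₂`, preserving `Fix P` and `{α, β'}` acts on the three other points of
`Fix P` as a power of `a₂`. -/
theorem exists_pow {z : Y} (hz : z * (j * a * j) = (j * a * j) * z)
    (hzP : ∀ d ∈ FX D P, z • d ∈ FX D P) (hzα : z • α = α ∨ z • α = j • β) :
    ∃ i : ℤ, ∀ d ∈ FX D P, d ≠ α → d ≠ j • β → ((j * a * j) ^ i * z) • d = d := by
  have h := A.hyp
  set c := j * a * j with hc
  have hnd := A.nodup
  simp only [List.nodup_cons, List.mem_cons, List.not_mem_nil, or_false, not_or,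
    List.nodup_nil, and_true, not_false_eq_true] at hnd
  obtain ⟨⟨n1, n2, n3, n4⟩, ⟨n5, n6, n7⟩, ⟨n8, n9⟩, n10⟩ := hnd
  have e1 : c • j • p • β = j • q • β := by rw [hc, c_j A, A.ap]
  have e2 : c • j • q • β = j • p • q • β := by rw [hc, c_j A, A.aq]
  have e3 : c • j • p • q • β = j • p • β := by rw [hc, c_j A, A.apq]
  have hlist : ∀ d ∈ FX D P, d = α ∨ d = j • β ∨ d = j • p • β ∨ d = j • q • β ∨
      d = j • p • q • β := by
    intro d hd
    have hj : ∀ e : D, j • d = e → d = j • e := by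
      rintro e rfl; rw [h.jsmul]
    rcases A.mem_list ((h.FXP d).1 hd) with h1 | h1 | h1 | h1 | h1
    · left; rw [hj _ h1, smul_j h A.alpha]
    · right; left; exact hj _ h1
    · right; right; left; exact hj _ h1
    · right; right; right; left; exact hj _ h1
    · right; right; right; right; exact hj _ h1
  have m1 : j • p • β ∈ FX D P := (h.FXX _).1 (A.smul_mem A.hp A.hβ)
  have hz1 := hzP _ m1
  -- the image is again one of the three points
  have hzβ : z • j • β = α ∨ z • j • β = j • β := by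
    have h1 : c • z • j • β = z • j • β := by
      rw [smul_smul, ← hz, mul_smul, hc, c_β A]
    exact c_fixP A (hzP _ (β'_mem A)) h1
  have hne1 : z • j • p • β ≠ α ∧ z • j • p • β ≠ j • β := by
    have g1 : j • p • β ≠ α := fun h0 => n2.elim
      (MulAction.injective j (h0.trans (smul_j h A.alpha).symm)).symm
    have g2 : j • p • β ≠ j • β := fun h0 => n5.elim (MulAction.injective j h0).symm
    have hinj := MulAction.injective (β := D) z
    rcases hzα with h1 | h1
    · rcases hzβ with h2 | h2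
      · exact absurd (hinj (h2.trans h1.symm)) (β'_ne A)
      · exact ⟨fun h0 => g1 (hinj (h0.trans h1.symm)), fun h0 => g2 (hinj (h0.trans h2.symm))⟩
    · rcases hzβ with h2 | h2
      · exact ⟨fun h0 => g2 (hinj (h0.trans h2.symm)), fun h0 => g1 (hinj (h0.trans h1.symm))⟩
      · exact absurd (hinj (h2.trans h1.symm)) (β'_ne A)
  -- choose the power
  obtain ⟨i, hi⟩ : ∃ i : ℤ, c ^ i • z • j • p • β = j • p • β := by
    rcases hlist _ hz1 with h1 | h1 | h1 | h1 | h1
    · exact absurd h1 hne1.1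
    · exact absurd h1 hne1.2
    · exact ⟨0, by rw [zpow_zero, one_smul, h1]⟩
    · exact ⟨2, by rw [h1, zpow_two, mul_smul, e2, e3]⟩
    · exact ⟨1, by rw [h1, zpow_one, e3]⟩
  have hcz : ∀ d : D, c ^ i • z • c • d = c • c ^ i • z • d := by
    intro d
    rw [smul_smul, smul_smul, smul_smul, smul_smul]
    congr 1
    calc c ^ i * z * c = c ^ i * (z * c) := by group
      _ = c ^ i * (c * z) := by rw [hz]
      _ = c * c ^ i * z := by
        rw [← mul_assoc, ((Commute.refl c).zpow_left i).eq]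
  refine ⟨i, ?_⟩
  intro d hd hdα hdβ
  rw [mul_smul]
  rcases hlist d hd with h1 | h1 | h1 | h1 | h1
  · exact absurd h1 hdα
  · exact absurd h1 hdβ
  · rw [h1, hi]
  · rw [h1, ← e1, hcz, hi]
  · rw [h1, ← e2, hcz, ← e1, hcz, hi]

end Cfsg.Agent.TwoGenNine.Parity
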