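import Cfsg.Agent.TwoGenNine.Core
import Cfsg.Agent.PLocal.CoprimeLift

/-!
# The last configuration of S1728: factoring out the core

`N(O)/O` acts on `Fix O`; for `O = Om D t X` the hypotheses `Hyp` are inherited, and the quotient is
core-free.
-/

set_option autoImplicit false

open scoped Pointwise

namespace Cfsg.Agent.TwoGenNine.Quot

open Subgroup
open Cfsg.Agent.TwoGenNine.Setup
open Cfsg.Agent.TwoGenNine.Basic
open Cfsg.Agent.TwoGenNine.Core

variable {Y : Type*} [Group Y] {D : Type*} [MulAction Y D]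

/-- the normaliser -/
abbrev NO (O : Subgroup Y) : Subgroup Y := normalizer (O : Set Y)

/-- the quotient `N(O)/O` -/
abbrev QO (O : Subgroup Y) : Type _ := NO O ⧸ O.subgroupOf (NO O)

theorem NO_smul_mem {O : Subgroup Y} (n : NO O) {d : D} (hd : d ∈ FX D O) : (n : Y) • d ∈ FX D O := by
  apply smul_mem_FX _ hd
  intro x hx
  have := (mem_normalizer_iff.mp ((NO O).inv_mem n.2) x).mp hx
  rwa [inv_inv] at this

/-- The action of `N(O)` on `Fix O`. -/
instance actN (O : Subgroup Y) : MulAction (NO O) (FX D O) where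
  smul n d := ⟨(n : Y) • (d : D), NO_smul_mem n d.2⟩
  one_smul d := Subtype.ext (one_smul Y (d : D))
  mul_smul a b d := Subtype.ext (mul_smul (a : Y) (b : Y) (d : D))

theorem coe_smulN {O : Subgroup Y} (n : NO O) (d : FX D O) : ((n • d : FX D O) : D) = (n : Y) • (d : D) :=
  rfl

/-- The action of `N(O)/O` on `Fix O`. -/
instance actQ (O : Subgroup Y) : MulAction (QO O) (FX D O) :=
  MulAction.compHom _ (QuotientGroup.lift (O.subgroupOf (NO O)) (MulAction.toPermHom (NO O) (FX D O)) (by
    intro n hn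
    ext d
    exact d.2 (n : Y) (mem_subgroupOf.mp hn)))

theorem coe_smulQ {O : Subgroup Y} (n : NO O) (d : FX D O) :
    (((QuotientGroup.mk n : QO O) • d : FX D O) : D) = (n : Y) • (d : D) := rfl

/-- The image in `N(O)/O` of a subgroup. -/
def bar (O X : Subgroup Y) : Subgroup (QO O) :=
  (X.subgroupOf (NO O)).map (QuotientGroup.mk' (O.subgroupOf (NO O)))

theorem mem_bar {O X : Subgroup Y} {q : QO O} :
    q ∈ bar O X ↔ ∃ n : NO O, (n : Y) ∈ X ∧ (QuotientGroup.mk n : QO O) = q := Iff.rfl

theorem mk_eq_mk {O : Subgroup Y} {a b : NO O} :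
    (QuotientGroup.mk a : QO O) = QuotientGroup.mk b ↔ (a : Y)⁻¹ * b ∈ O := by
  rw [QuotientGroup.eq]
  rfl

theorem mk_eq_one {O : Subgroup Y} {a : NO O} :
    (QuotientGroup.mk a : QO O) = 1 ↔ (a : Y) ∈ O := by
  rw [QuotientGroup.eq_one_iff]
  rfl

/-- Fixed points of the image. -/
theorem mem_FX_bar {O X : Subgroup Y} (hX : X ≤ NO O) {d : FX D O} :
    d ∈ FX (FX D O) (bar O X) ↔ (d : D) ∈ FX D X := by
  constructor
  · intro hd x hx
    have := hd (QuotientGroup.mk ⟨x, hX hx⟩) (mem_bar.2 ⟨⟨x, hX hx⟩, hx, rfl⟩)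
    exact congrArg Subtype.val this
  · rintro hd q hq
    obtain ⟨n, hn, rfl⟩ := mem_bar.1 hq
    exact Subtype.ext (hd n hn)

variable {t : Y} {X P : Subgroup Y} {j : Y}

theorem mem_NO_of_normalizes {y : Y} (hy : ∀ x ∈ X, y * x * y⁻¹ ∈ X) (hy' : ∀ x ∈ X, y⁻¹ * x * y ∈ X)
    (ht : y * t * y⁻¹ = t) : y ∈ NO (Om D t X) := by
  have key : ∀ y : Y, (∀ x ∈ X, y * x * y⁻¹ ∈ X) → (∀ x ∈ X, y⁻¹ * x * y ∈ X) →
      y * t * y⁻¹ = t → ∀ g ∈ Om D t X, y * g * y⁻¹ ∈ Om D t X := by
    intro y hy hy' ht g hg
    rw [Om] at hg ⊢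
    induction hg using closure_induction with
    | mem g hg =>
      obtain ⟨x, hx, hx1, hxt, hgx, ho⟩ := hg
      refine subset_closure ⟨y * x * y⁻¹, hy x hx, ?_, ?_, ?_, ?_⟩
      · intro h0
        apply hx1
        have : x = y⁻¹ * (y * x * y⁻¹) * y := by group
        rw [this, h0]; group
      · intro h0
        apply hxt
        calc x = y⁻¹ * (y * x * y⁻¹) * y := by group
          _ = y⁻¹ * (y * t * y⁻¹) * y := by rw [h0, ht]
          _ = t := by group
      · rw [mem_CK] at hgx ⊢
        refine ⟨?_, conj_mem_KX hy hgx.2⟩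
        calc y * g * y⁻¹ * (y * x * y⁻¹) = y * (g * x) * y⁻¹ := by group
          _ = y * (x * g) * y⁻¹ := by rw [hgx.1]
          _ = y * x * y⁻¹ * (y * g * y⁻¹) := by group
      · have : orderOf (y * g * y⁻¹) = orderOf g := by
          have := orderOf_injective (MulAut.conj y).toMonoidHom (MulAut.conj y).injective g
          simpa [MulAut.conj_apply] using this
        rw [this]; exact ho
    | one => rw [mul_one, mul_inv_cancel]; exact one_mem _
    | mul a b ha hb h1 h2 =>
      have := mul_mem h1 h2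
      rwa [show y * a * y⁻¹ * (y * b * y⁻¹) = y * (a * b) * y⁻¹ by group] at this
    | inv a ha h1 =>
      have := inv_mem h1
      rwa [show (y * a * y⁻¹)⁻¹ = y * a⁻¹ * y⁻¹ by group] at this
  rw [mem_normalizer_iff]
  intro g
  constructor
  · exact key y hy hy' ht g
  · intro hg
    have := key y⁻¹ (by simpa using hy') (by simpa using hy) (by
      nth_rewrite 1 [← ht]; group) _ hg
    simpa [mul_assoc] using this

variable (h : Hyp D t X P j)
include h

theorem comm_mem_NO {y : Y} (hy : ∀ x ∈ X, y * x = x * y) : y ∈ NO (Om D t X) := by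
  apply mem_NO_of_normalizes
  · intro x hx
    rw [hy x hx, mul_inv_cancel_right]; exact hx
  · intro x hx
    rw [mul_assoc, ← hy x hx, ← mul_assoc, inv_mul_cancel, one_mul]; exact hx
  · rw [← h.tc, mul_inv_cancel_right]

theorem X_le_NO : X ≤ NO (Om D t X) := by
  intro y hy
  apply mem_NO_of_normalizes
  · intro x hx; exact X.mul_mem (X.mul_mem hy hx) (X.inv_mem hy)
  · intro x hx; exact X.mul_mem (X.mul_mem (X.inv_mem hy) hx) hy
  · rw [← h.tc, mul_inv_cancel_right]

theorem P_le_NO : P ≤ NO (Om D t X) := by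
  intro y hy
  exact comm_mem_NO h (fun x hx => (h.comm x hx y hy).symm)

theorem t_mem_NO : t ∈ NO (Om D t X) := X_le_NO h h.tX

omit h in
theorem FX_le : FX D X ⊆ FX D (Om D t X) := fun d hd _ hg => Om_le_KX t X hg d hd

variable [Finite Y] {α : D} (hα : ∀ d, (d ∈ FX D X ∧ d ∈ FX D P) ↔ d = α)
include hα

theorem j_mem_NO : j ∈ NO (Om D t X) := by
  have key : ∀ g ∈ Om D t X, j * g * j⁻¹ ∈ Om D t X := by
    intro g hg
    rw [Om_eq h hα]
    rw [Om] at hg ⊢
    induction hg using closure_induction with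
    | mem g hg =>
      obtain ⟨x, hx, hx1, hxt, hgx, ho⟩ := hg
      refine subset_closure ⟨j * x * j, (h.memX x).1 hx, ?_, ?_, ?_, ?_⟩
      · intro h0
        apply hx1
        have := h.jj x
        rw [h0, mul_one, h.j2] at this
        exact this.symm
      · intro h0
        apply hxt
        have := h.jj x
        rw [h0, h.jtj] at this
        exact this.symm
      · rw [mem_CK] at hgx ⊢
        refine ⟨?_, ?_⟩
        · rw [h.jinv]
          calc j * g * j * (j * x * j) = j * (g * ((j * j) * x)) * j := by group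
            _ = j * (x * g) * j := by rw [h.j2, one_mul, hgx.1]
            _ = j * (x * ((j * j) * g)) * j := by rw [h.j2, one_mul]
            _ = j * x * j * (j * g * j) := by group
        · intro d hd
          have h1 := hgx.2 (j • d) ((h.FXP d).1 hd)
          rw [h.jinv, mul_smul, mul_smul, h1, h.jsmul]
      · have : orderOf (j * g * j⁻¹) = orderOf g := by
          have := orderOf_injective (MulAut.conj j).toMonoidHom (MulAut.conj j).injective g
          simpa [MulAut.conj_apply] using this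
        rw [this]; exact ho
    | one => rw [mul_one, mul_inv_cancel]; exact one_mem _
    | mul a b ha hb h1 h2 =>
      have := mul_mem h1 h2
      rwa [show j * a * j⁻¹ * (j * b * j⁻¹) = j * (a * b) * j⁻¹ by group] at this
    | inv a ha h1 =>
      have := inv_mem h1
      rwa [show (j * a * j⁻¹)⁻¹ = j * a⁻¹ * j⁻¹ by group] at this
  rw [mem_normalizer_iff]
  intro g
  constructor
  · exact key g
  · intro hg
    have := key _ hg
    rw [h.jinv, h.jj] at this
    exact this

end Cfsg.Agent.TwoGenNine.Quot
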