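import Mathlib

/-!
# The alternating group is generated by the three-cycles of two subsets sharing one point
-/

set_option autoImplicit false

namespace Cfsg.Agent.TwoGenNine.StabAlt

open Equiv

variable {S : Type*} [Fintype S] [DecidableEq S]

/-- The three-cycle `a → b → c → a`. -/
def tc (a b c : S) : Perm S := swap a b * swap b c

omit [Fintype S] in
theorem tc_apply {a b c : S} (hab : a ≠ b) (hbc : b ≠ c) (hca : c ≠ a) (x : S) :
    tc a b c x = if x = a then b else if x = b then c else if x = c then a else x := by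
  rw [tc, Perm.mul_apply]
  split_ifs with h1 h2 h3
  · rw [h1, swap_apply_of_ne_of_ne hab hca.symm, swap_apply_left]
  · rw [h2, swap_apply_left, swap_apply_of_ne_of_ne hca hbc.symm]
  · rw [h3, swap_apply_right, swap_apply_right]
  · rw [swap_apply_of_ne_of_ne h2 h3, swap_apply_of_ne_of_ne h1 h2]

omit [Fintype S] in
theorem tc_rot {a b c : S} (hab : a ≠ b) (hbc : b ≠ c) (hca : c ≠ a) : tc a b c = tc b c a := by
  ext x
  rw [tc_apply hab hbc hca, tc_apply hbc hca hab]
  split_ifs <;> simp_all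

omit [Fintype S] in
theorem tc_conj (σ : Perm S) (a b c : S) : σ * tc a b c * σ⁻¹ = tc (σ a) (σ b) (σ c) := by
  have h : ∀ a b : S, σ * swap a b * σ⁻¹ = swap (σ a) (σ b) := by
    intro a b
    rw [mul_inv_eq_iff_eq_mul]
    exact mul_swap_eq_swap_mul σ a b
  rw [tc, tc, ← h, ← h]
  group

/-- Many elements. -/
def Many (A : Set S) : Prop := ∀ x y z : S, ∃ w ∈ A, w ≠ x ∧ w ≠ y ∧ w ≠ z

omit [Fintype S] [DecidableEq S] in
theorem many_of_ncard {A : Set S} (hA : 4 ≤ A.ncard) : Many A := by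
  intro x y z
  by_contra h
  push Not at h
  have h1 : A ⊆ ({x, y, z} : Set S) := by
    intro w hw
    by_cases h2 : w = x
    · left; exact h2
    by_cases h3 : w = y
    · right; left; exact h3
    right; right; exact h w hw h2 h3
  have h2 := Set.ncard_le_ncard h1 (Set.toFinite _)
  have h3 : ({x, y, z} : Set S).ncard ≤ 3 := by
    refine (Set.ncard_insert_le _ _).trans (Nat.succ_le_succ ((Set.ncard_insert_le _ _).trans ?_))
    rw [Set.ncard_singleton]
  omega

section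

variable {H : Subgroup (Perm S)} {A B : Set S} {α : S} (hAB : ∀ x, x ∈ A ∧ x ∈ B ↔ x = α)
  (hA : ∀ a ∈ A, ∀ b ∈ A, ∀ c ∈ A, a ≠ b → b ≠ c → c ≠ a → tc a b c ∈ H)
  (hB : ∀ a ∈ B, ∀ b ∈ B, ∀ c ∈ B, a ≠ b → b ≠ c → c ≠ a → tc a b c ∈ H)
  (mA : Many A) (mB : Many B)

include hAB hA hB mB in
omit [Fintype S] in
theorem key1 {x x' y : S} (hx : x ∈ A) (hxα : x ≠ α) (hx' : x' ∈ A) (hxα' : x' ≠ α) (hxx : x ≠ x') (hy : y ∈ B)
    (hyα : y ≠ α) : tc y x x' ∈ H := by
  have hα := (hAB α).2 rfl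
  obtain ⟨y', hy', h1, h2, -⟩ := mB α y y
  have hc := hA α hα.1 x hx x' hx' hxα.symm hxx hxα'
  have hs := hB α hα.2 y hy y' hy' hyα.symm h2.symm h1
  have h3 := H.mul_mem (H.mul_mem hs hc) (H.inv_mem hs)
  rw [tc_conj] at h3
  have hxB : x ∉ B := fun h => hxα ((hAB x).1 ⟨hx, h⟩)
  have hxB' : x' ∉ B := fun h => hxα' ((hAB x').1 ⟨hx', h⟩)
  have e1 : tc α y y' α = y := by rw [tc_apply hyα.symm h2.symm h1, if_pos rfl]
  have e2 : tc α y y' x = x := by
    rw [tc_apply hyα.symm h2.symm h1, if_neg hxα, if_neg, if_neg]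
    · rintro rfl; exact hxB hy'
    · rintro rfl; exact hxB hy
  have e3 : tc α y y' x' = x' := by
    rw [tc_apply hyα.symm h2.symm h1, if_neg hxα', if_neg, if_neg]
    · rintro rfl; exact hxB' hy'
    · rintro rfl; exact hxB' hy
  rwa [e1, e2, e3] at h3

include hAB hA hB mA mB in
omit [Fintype S] in
theorem key2 {x y : S} (hx : x ∈ A) (hxα : x ≠ α) (hy : y ∈ B) (hyα : y ≠ α) : tc y x α ∈ H := by
  have hα := (hAB α).2 rfl
  obtain ⟨x', hx', h1, h2, -⟩ := mA α x x
  obtain ⟨x'', hx'', h4, h5, h6⟩ := mA α x x'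
  have hc := key1 hAB hA hB mB hx hxα hx' h1 h2.symm hy hyα
  have hs := hA x' hx' α hα.1 x'' hx'' h1 h4.symm h6
  have h3 := H.mul_mem (H.mul_mem hs hc) (H.inv_mem hs)
  rw [tc_conj] at h3
  have hyA : y ∉ A := fun h => hyα ((hAB y).1 ⟨h, hy⟩)
  have e1 : tc x' α x'' x' = α := by rw [tc_apply h1 h4.symm h6, if_pos rfl]
  have e2 : tc x' α x'' x = x := by
    rw [tc_apply h1 h4.symm h6, if_neg h2.symm, if_neg hxα, if_neg h5.symm]
  have e3 : tc x' α x'' y = y := by
    rw [tc_apply h1 h4.symm h6, if_neg, if_neg hyα, if_neg]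
    · rintro rfl; exact hyA hx''
    · rintro rfl; exact hyA hx'
  rwa [e1, e2, e3] at h3

include hAB hA hB mA mB in
omit [Fintype S] in
theorem tc_mem (hU : ∀ x, x ∈ A ∨ x ∈ B) {a b c : S} (hab : a ≠ b) (hbc : b ≠ c) (hca : c ≠ a) : tc a b c ∈ H := by
  have hBA : ∀ x, x ∈ B ∧ x ∈ A ↔ x = α := fun x => by rw [and_comm]; exact hAB x
  have hα := (hAB α).2 rfl
  -- the case `c = α`
  have caseα : ∀ a b : S, a ≠ b → b ≠ α → α ≠ a → tc a b α ∈ H := by
    intro a b hab hb ha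
    rcases hU a with h1 | h1 <;> rcases hU b with h2 | h2
    · exact hA a h1 b h2 α hα.1 hab hb ha
    · exact key2 hBA hB hA mB mA h2 hb h1 ha.symm
    · exact key2 hAB hA hB mA mB h2 hb h1 ha.symm
    · exact hB a h1 b h2 α hα.2 hab hb ha
  by_cases h1 : c = α
  · subst h1; exact caseα a b hab hbc hca
  by_cases h2 : b = α
  · subst h2
    rw [tc_rot hab hbc hca, tc_rot hbc hca hab]
    exact caseα c a hca hab hbc
  by_cases h3 : a = α
  · subst h3
    rw [tc_rot hab hbc hca]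
    exact caseα b c hbc hca hab
  rcases hU a with ha | ha <;> rcases hU b with hb | hb <;> rcases hU c with hc | hc
  · exact hA a ha b hb c hc hab hbc hca
  · -- `a, b ∈ A`, `c ∈ B`
    rw [tc_rot hab hbc hca, tc_rot hbc hca hab]
    exact key1 hAB hA hB mB ha h3 hb h2 hab hc h1
  · rw [tc_rot hab hbc hca]
    exact key1 hAB hA hB mB hc h1 ha h3 hca hb h2
  · -- `a ∈ A`, `b, c ∈ B`
    exact key1 hBA hB hA mA hb h2 hc h1 hbc ha h3
  · exact key1 hAB hA hB mB hb h2 hc h1 hbc ha h3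
  · rw [tc_rot hab hbc hca]
    exact key1 hBA hB hA mA hc h1 ha h3 hca hb h2
  · rw [tc_rot hab hbc hca, tc_rot hbc hca hab]
    exact key1 hBA hB hA mA ha h3 hb h2 hab hc h1
  · exact hB a ha b hb c hc hab hbc hca

include hAB hA hB mA mB in
theorem alternating_le (hU : ∀ x, x ∈ A ∨ x ∈ B) : alternatingGroup S ≤ H := by
  rw [← Perm.closure_three_cycles_eq_alternating, Subgroup.closure_le]
  intro σ hσ
  have hσ' : σ.IsThreeCycle := hσ
  obtain ⟨a, ha⟩ : σ.support.Nonempty := by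
    rw [← Finset.card_pos, hσ'.card_support]; norm_num
  have h1 := hσ'.eq_swap_mul_swap_iff_mem_support.2 ha
  have h3 : σ ^ 3 = 1 := by rw [← hσ'.orderOf, pow_orderOf_eq_one]
  have hab : a ≠ σ a := fun h => (Perm.mem_support.1 ha) h.symm
  have hbc : σ a ≠ σ (σ a) := fun h => hab (σ.injective h)
  have hca : σ (σ a) ≠ a := by
    intro h
    have h4 : σ (σ (σ a)) = a := by
      have := congrArg (fun f : Perm S => f a) h3
      simpa [pow_succ] using this
    rw [h] at h4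
    exact hab h4.symm
  have h5 : tc a (σ a) (σ (σ a)) ∈ H := tc_mem hAB hA hB mA mB hU hab hbc hca
  rw [tc, ← h1] at h5
  exact h5

end

end Cfsg.Agent.TwoGenNine.StabAlt
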