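import Cfsg.Agent.TwoGenNine.StabAlt
import Cfsg.Agent.TwoGenNine.StabDef
import Cfsg.Agent.TwoGenNine.QuotHyp
import Cfsg.Agent.TwoGenNineE.Glue

/-!
# The stabiliser of the nine points is a double cover of `A₉` modulo its core
-/

set_option autoImplicit false
set_option linter.unusedSectionVars false

namespace Cfsg.Agent.TwoGenNine.StabCover

open Subgroup Equiv
open Cfsg.Agent.TwoGenNine.Setup
open Cfsg.Agent.TwoGenNine.Basic
open Cfsg.Agent.TwoGenNine.Core
open Cfsg.Agent.TwoGenNine.StabDef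
open Cfsg.Agent.TwoGenNine.StabAlt
open Cfsg.Agent.SporRec.TwoAn

universe u v

variable {Y : Type u} [Group Y] {D : Type v} [MulAction Y D]

variable (D) in
/-- The action on the nine points. -/
def rho (X P : Subgroup Y) : N0 D X P →* Perm ↥(Sg D X P) where
  toFun n :=
    { toFun := fun d => ⟨(n : Y) • (d : D), (n.2 d).2 d.2⟩
      invFun := fun d => ⟨(n : Y)⁻¹ • (d : D), ((N0 D X P).inv_mem n.2 d).2 d.2⟩
      left_inv := fun d => Subtype.ext (inv_smul_smul _ _)
      right_inv := fun d => Subtype.ext (smul_inv_smul _ _) }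
  map_one' := by
    ext d
    exact congrArg Subtype.val (Subtype.ext (one_smul Y (d : D)) : (⟨(1 : Y) • (d : D), _⟩ : ↥(Sg D X P)) = d)
  map_mul' m n := by
    ext d
    exact mul_smul (m : Y) (n : Y) (d : D)

theorem rho_apply (X P : Subgroup Y) (n : N0 D X P) (d : ↥(Sg D X P)) :
    ((rho D X P n d : ↥(Sg D X P)) : D) = (n : Y) • (d : D) := rfl

variable {t : Y} {X P : Subgroup Y} {j : Y} {α : D}

theorem finite_FX (h : Hyp D t X P j) : (FX D X).Finite := Set.finite_of_ncard_ne_zero (by rw [h.five]; norm_num)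

theorem ncard_Sg (F : Full D t X P j α) : (Sg D X P).ncard = 9 := by
  have h1 := Set.ncard_union_add_ncard_inter (FX D X) (FX D P) (finite_FX F.hyp) (finite_FX F.hyp.symm)
  have h2 : FX D X ∩ FX D P = {α} := by
    ext d
    exact F.alpha d
  rw [h2, Set.ncard_singleton, F.hyp.five, F.hyp.symm.five] at h1
  have h3 : (Sg D X P).ncard + 1 = 5 + 5 := h1
  omega

/-- Elements realising three-cycles. -/
theorem exists_three [Finite Y] (F : Full D t X P j α) {a b c : D} (ha : a ∈ FX D X) (hb : b ∈ FX D X)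
    (hc : c ∈ FX D X) (hab : a ≠ b) (hbc : b ≠ c) (hca : c ≠ a) :
    ∃ g ∈ N0 D X P, g • a = b ∧ g • b = c ∧ g • c = a ∧ ∀ d ∈ Sg D X P, d ≠ a → d ≠ b → d ≠ c → g • d = d := by
  obtain ⟨g, hg, h1, h2, h3, h4⟩ := F.hyp.alt a ha b hb c hc hab hbc hca
  have hfix : ∀ d ∈ Sg D X P, d ≠ a → d ≠ b → d ≠ c → g • d = d := by
    rintro d (hd | hd) da db dc
    · exact h4 d hd da db dc
    · by_cases hdα : d = α
      · rw [hdα]
        exact h4 α ((F.alpha α).2 rfl).1 (hdα ▸ da) (hdα ▸ db) (hdα ▸ dc)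
      · exact F.triv g hg d hd hdα
  refine ⟨g, mem_N0_of ?_, h1, h2, h3, hfix⟩
  intro d hd
  by_cases da : d = a
  · rw [da, h1]; exact Or.inl hb
  by_cases db : d = b
  · rw [db, h2]; exact Or.inl hc
  by_cases dc : d = c
  · rw [dc, h3]; exact Or.inl ha
  rw [hfix d hd da db dc]; exact hd

section Image

open Classical in
theorem tc_mem_range [Finite Y] (F : Full D t X P j α) {a b c : ↥(Sg D X P)} (ha : (a : D) ∈ FX D X)
    (hb : (b : D) ∈ FX D X) (hc : (c : D) ∈ FX D X) (hab : a ≠ b) (hbc : b ≠ c) (hca : c ≠ a) :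
    tc a b c ∈ (rho D X P).range := by
  obtain ⟨g, hg, h1, h2, h3, h4⟩ := exists_three F ha hb hc (fun h => hab (Subtype.ext h))
    (fun h => hbc (Subtype.ext h)) (fun h => hca (Subtype.ext h))
  refine ⟨⟨g, hg⟩, ?_⟩
  refine Equiv.ext fun d => ?_
  rw [tc_apply hab hbc hca]
  apply Subtype.ext
  rw [rho_apply]
  split_ifs with e1 e2 e3
  · rw [e1]; exact h1
  · rw [e2]; exact h2
  · rw [e3]; exact h3
  · exact h4 d d.2 (fun h => e1 (Subtype.ext h)) (fun h => e2 (Subtype.ext h)) (fun h => e3 (Subtype.ext h))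

theorem Sg_symm (X P : Subgroup Y) : Sg D P X = Sg D X P := Set.union_comm _ _

theorem N0_symm (X P : Subgroup Y) : N0 D P X = N0 D X P := by
  ext y
  rw [mem_N0, mem_N0, Sg_symm]

open Classical in
theorem tc_mem_range' [Finite Y] (F : Full D t X P j α) {a b c : ↥(Sg D X P)} (ha : (a : D) ∈ FX D P)
    (hb : (b : D) ∈ FX D P) (hc : (c : D) ∈ FX D P) (hab : a ≠ b) (hbc : b ≠ c) (hca : c ≠ a) :
    tc a b c ∈ (rho D X P).range := by
  obtain ⟨g, hg, h1, h2, h3, h4⟩ := exists_three F.symm ha hb hc (fun h => hab (Subtype.ext h))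
    (fun h => hbc (Subtype.ext h)) (fun h => hca (Subtype.ext h))
  rw [N0_symm] at hg
  rw [Sg_symm] at h4
  refine ⟨⟨g, hg⟩, ?_⟩
  refine Equiv.ext fun d => ?_
  rw [tc_apply hab hbc hca]
  apply Subtype.ext
  rw [rho_apply]
  split_ifs with e1 e2 e3
  · rw [e1]; exact h1
  · rw [e2]; exact h2
  · rw [e3]; exact h3
  · exact h4 d d.2 (fun h => e1 (Subtype.ext h)) (fun h => e2 (Subtype.ext h)) (fun h => e3 (Subtype.ext h))

end Image

section Main

theorem ncard_preimage {A : Set D} {S : Set D} (hA : A ⊆ S) : ((fun x : S => (x : D)) ⁻¹' A).ncard = A.ncard := by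
  rw [← Set.ncard_image_of_injective _ (Subtype.val_injective (p := fun x => x ∈ S))]
  congr 1
  ext x
  constructor
  · rintro ⟨y, hy, rfl⟩; exact hy
  · intro hx; exact ⟨⟨x, hA hx⟩, hx, rfl⟩

open Classical in
theorem alternating_le_range [Finite Y] [Fintype ↥(Sg D X P)] (F : Full D t X P j α) :
    alternatingGroup ↥(Sg D X P) ≤ (rho D X P).range := by
  have hαX := ((F.alpha α).2 rfl).1
  refine alternating_le (H := (rho D X P).range) (A := (fun x : ↥(Sg D X P) => (x : D)) ⁻¹' FX D X)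
    (B := (fun x : ↥(Sg D X P) => (x : D)) ⁻¹' FX D P) (α := ⟨α, Or.inl hαX⟩) ?_ ?_ ?_ ?_ ?_ ?_
  · intro x
    rw [Subtype.ext_iff]
    exact F.alpha x
  · intro a ha b hb c hc hab hbc hca
    exact tc_mem_range F ha hb hc hab hbc hca
  · intro a ha b hb c hc hab hbc hca
    exact tc_mem_range' F ha hb hc hab hbc hca
  · apply many_of_ncard
    refine le_of_le_of_eq ?_ (ncard_preimage (A := FX D X) (S := Sg D X P) Set.subset_union_left).symm
    rw [F.hyp.five]; norm_num
  · apply many_of_ncard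
    refine le_of_le_of_eq ?_ (ncard_preimage (A := FX D P) (S := Sg D X P) Set.subset_union_right).symm
    rw [F.hyp.symm.five]; norm_num
  · intro x; exact x.2

theorem exists_two_points (h : Hyp D t X P j) (α : D) : ∃ a ∈ FX D X, ∃ b ∈ FX D X, ∃ c ∈ FX D X,
    a ≠ α ∧ b ≠ α ∧ c ≠ α ∧ a ≠ b ∧ a ≠ c ∧ b ≠ c := by
  have hm : ∀ x y z : D, ∃ w ∈ FX D X, w ≠ x ∧ w ≠ y ∧ w ≠ z := many_of_ncard (by rw [h.five]; norm_num)
  obtain ⟨a, ha, h1, -, -⟩ := hm α α α
  obtain ⟨b, hb, h2, h3, -⟩ := hm α a a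
  obtain ⟨c, hc, h4, h5, h6⟩ := hm α a b
  exact ⟨a, ha, b, hb, c, hc, h1, h2, h4, h3.symm, h5.symm, h6.symm⟩

/-- No element acts as a transposition of two points of `Fix P` different from `α`. -/
theorem no_swap [Finite Y] (F : Full D t X P j α) {a b c : D} (ha : a ∈ FX D P) (hb : b ∈ FX D P)
    (hc : c ∈ FX D P) (hcα : c ≠ α) (hab : a ≠ b) (hca : c ≠ a) (hcb : c ≠ b) {g : Y} (h1 : g • a = b)
    (h2 : g • b = a) (h3 : ∀ d ∈ Sg D X P, d ≠ a → d ≠ b → g • d = d) (haα : a ≠ α) (hbα : b ≠ α) : False := by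
  have h := F.hyp
  -- the two-part
  obtain ⟨g₂, g', hg₂, hg', hgg, hk, ho⟩ := QuotHyp.exists_two_odd g
  have hsq : ∀ d ∈ Sg D X P, g • g • d = d := by
    intro d hd
    by_cases da : d = a
    · rw [da, h1, h2]
    by_cases db : d = b
    · rw [db, h2, h1]
    rw [h3 d hd da db, h3 d hd da db]
  have hgS : ∀ d ∈ Sg D X P, g • d ∈ Sg D X P := by
    intro d hd
    by_cases da : d = a
    · rw [da, h1]; exact Or.inr hb
    by_cases db : d = b
    · rw [db, h2]; exact Or.inr ha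
    rw [h3 d hd da db]; exact hd
  have hg2S : ∀ d ∈ Sg D X P, g ^ 2 • d = d := fun d hd => by rw [pow_two, mul_smul]; exact hsq d hd
  -- `g'` acts trivially: it is a power of `g` of odd order
  have hpow : ∀ n : ℤ, ∀ d ∈ Sg D X P, (g ^ n • d = d) ∨ (g ^ n • d = g • d) := by
    intro n d hd
    have h2z : ∀ m : ℤ, (g ^ (2 : ℕ)) ^ m • d = d := by
      have hst : g ^ (2 : ℕ) ∈ MulAction.stabilizer Y d := hg2S d hd
      intro m
      exact (MulAction.stabilizer Y d).zpow_mem hst m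
    rcases Int.even_or_odd' n with ⟨m, rfl | rfl⟩
    · left
      rw [zpow_mul, zpow_ofNat]
      exact h2z m
    · right
      rw [add_comm, zpow_add, zpow_one, mul_smul, zpow_mul, zpow_ofNat, h2z m]
  obtain ⟨m, rfl⟩ := mem_zpowers_iff.1 hg'
  have hg'triv : ∀ d ∈ Sg D X P, g ^ m • d = d := by
    intro d hd
    -- the square acts trivially and the order is odd
    have hst : (g ^ m) ^ 2 ∈ MulAction.stabilizer Y d := by
      rw [MulAction.mem_stabilizer_iff, ← zpow_natCast, ← zpow_mul, mul_comm, zpow_mul, zpow_natCast]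
      have hst : g ^ (2 : ℕ) ∈ MulAction.stabilizer Y d := hg2S d hd
      exact (MulAction.stabilizer Y d).zpow_mem hst m
    obtain ⟨l, hl⟩ := ho
    have h5 : (g ^ m) = ((g ^ m) ^ 2) ^ (l + 1) := by
      rw [← pow_mul, show 2 * (l + 1) = (2 * l + 1) + 1 by ring, ← hl, pow_succ, pow_orderOf_eq_one, one_mul]
    have h6 := (MulAction.stabilizer Y d).pow_mem hst (l + 1)
    rw [← h5] at h6
    exact h6
  have hg₂act : ∀ d ∈ Sg D X P, g₂ • d = g • d := by
    intro d hd
    conv_rhs => rw [hgg, mul_smul, hg'triv d hd]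
  -- `g₂` fixes `Fix X`
  have hg₂K : g₂ ∈ KX D X := by
    intro d hd
    have hda : d ≠ a := by rintro rfl; exact haα ((F.alpha _).1 ⟨hd, ha⟩)
    have hdb : d ≠ b := by rintro rfl; exact hbα ((F.alpha _).1 ⟨hd, hb⟩)
    rw [hg₂act d (Or.inl hd), h3 d (Or.inl hd) hda hdb]
  have hR : IsPGroup 2 (zpowers g₂) := by
    obtain ⟨k, hk⟩ := hk
    rw [IsPGroup.iff_card]
    have h7 : orderOf g₂ ∣ 2 ^ k := orderOf_dvd_of_pow_eq_one hk
    obtain ⟨i, -, hi⟩ := (Nat.dvd_prime_pow Nat.prime_two).1 h7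
    exact ⟨i, by rw [Nat.card_zpowers, hi]⟩
  obtain ⟨k, hkK, hkX⟩ := exists_conj_mem h (zpowers g₂) hR (by rw [zpowers_le]; exact hg₂K)
  have hx := hkX g₂ (mem_zpowers g₂)
  by_cases hx1 : k * g₂ * k⁻¹ = 1
  · have h8 : g₂ = 1 := by
      calc g₂ = k⁻¹ * (k * g₂ * k⁻¹) * k := by group
        _ = 1 := by rw [hx1]; group
    have h9 := hg₂act a (Or.inr ha)
    rw [h8, one_smul, h1] at h9
    exact hab h9
  by_cases hxt : k * g₂ * k⁻¹ = t
  · have h8 : g₂ = t := by
      calc g₂ = k⁻¹ * (k * g₂ * k⁻¹) * k := by group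
        _ = t := by rw [hxt, mul_assoc, h.tc k]; group
    have h9 := hg₂act a (Or.inr ha)
    rw [h8, h.tD, h1] at h9
    exact hab h9
  · -- the fixed point `c`
    have h8 : g₂ • c = c := by rw [hg₂act c (Or.inr hc), h3 c (Or.inr hc) hca hcb]
    have h9 : (k * g₂ * k⁻¹) • (k • c) = k • c := by
      rw [mul_smul, mul_smul, inv_smul_smul, h8]
    have h10 : k • c ∈ FX D X := h.fix _ hx hx1 hxt _ h9
    have h11 : k⁻¹ • (k • c) = k • c := (KX D X).inv_mem hkK _ h10
    rw [inv_smul_smul] at h11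
    rw [← h11] at h10
    exact hcα ((F.alpha c).1 ⟨h10, hc⟩)

open Classical in
theorem range_eq [Finite Y] [Fintype ↥(Sg D X P)] (F : Full D t X P j α) :
    (rho D X P).range = alternatingGroup ↥(Sg D X P) := by
  refine le_antisymm ?_ (alternating_le_range F)
  rintro _ ⟨n, rfl⟩
  rw [Perm.mem_alternatingGroup]
  by_contra hs
  have hs' : Perm.sign (rho D X P n) = -1 := (Int.units_eq_one_or _).resolve_left hs
  obtain ⟨a, ha, b, hb, c, hc, haα, hbα, hcα, hab, hac, hbc⟩ := exists_two_points F.hyp.symm α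
  have hne : (⟨a, Or.inr ha⟩ : ↥(Sg D X P)) ≠ ⟨b, Or.inr hb⟩ := fun h => hab (congrArg Subtype.val h)
  have h1 : (rho D X P n)⁻¹ * swap ⟨a, Or.inr ha⟩ ⟨b, Or.inr hb⟩ ∈ (rho D X P).range := by
    apply alternating_le_range F
    rw [Perm.mem_alternatingGroup, map_mul, map_inv, hs', Perm.sign_swap hne]
    decide
  have h2 : swap ⟨a, Or.inr ha⟩ ⟨b, Or.inr hb⟩ ∈ (rho D X P).range := by
    have := (rho D X P).range.mul_mem ⟨n, rfl⟩ h1
    rwa [mul_inv_cancel_left] at this
  obtain ⟨g, hg⟩ := h2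
  have hact : ∀ d : ↥(Sg D X P), (g : Y) • (d : D) = ((swap ⟨a, Or.inr ha⟩ ⟨b, Or.inr hb⟩ d : ↥(Sg D X P)) : D) := by
    intro d
    rw [← hg, rho_apply]
  refine no_swap F ha hb hc hcα hab hac.symm hbc.symm (g := (g : Y)) ?_ ?_ ?_ haα hbα
  · rw [hact ⟨a, Or.inr ha⟩, swap_apply_left]
  · rw [hact ⟨b, Or.inr hb⟩, swap_apply_right]
  · intro d hd hda hdb
    rw [hact ⟨d, hd⟩, swap_apply_of_ne_of_ne (fun h => hda (congrArg Subtype.val h))
      (fun h => hdb (congrArg Subtype.val h))]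

/-! ### The kernel -/

variable (D) in
/-- The kernel of the action on the nine points. -/
def K0 (X P : Subgroup Y) : Subgroup Y := KX D X ⊓ KX D P

theorem mem_K0 {X P : Subgroup Y} {g : Y} : g ∈ K0 D X P ↔ ∀ d ∈ Sg D X P, g • d = d := by
  constructor
  · rintro ⟨h1, h2⟩ d (hd | hd)
    · exact h1 d hd
    · exact h2 d hd
  · intro h
    exact ⟨fun d hd => h d (Or.inl hd), fun d hd => h d (Or.inr hd)⟩

theorem K0_le [Finite Y] : K0 D X P ≤ N0 D X P := fun g hg => mem_N0_of fun d hd => by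
  rw [mem_K0.1 hg d hd]; exact hd

theorem conj_mem_K0 {n g : Y} (hn : n ∈ N0 D X P) (hg : g ∈ K0 D X P) : n * g * n⁻¹ ∈ K0 D X P := by
  rw [mem_K0] at hg ⊢
  intro d hd
  have h1 : n⁻¹ • d ∈ Sg D X P := ((N0 D X P).inv_mem hn d).2 hd
  rw [mul_smul, mul_smul, hg _ h1, smul_inv_smul]

variable (D) in
/-- The odd part of the kernel. -/
def O0 (X P : Subgroup Y) : Subgroup Y := closure {g : Y | g ∈ K0 D X P ∧ Odd (orderOf g)}

theorem O0_le : O0 D X P ≤ K0 D X P := by
  rw [O0, closure_le]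
  exact fun g hg => hg.1

theorem odd_O0 [Finite Y] (F : Full D t X P j α) : Odd (Nat.card (O0 D X P)) := by
  have h := F.hyp
  apply odd_closure'
  intro g hg hg2 y _
  rcases two_mem_inf h F.alpha hg.1 hg.2 hg2 with rfl | rfl
  · rw [one_mul, mul_one]
  · exact h.tc y

theorem conj_mem_O0 {n g : Y} (hn : n ∈ N0 D X P) (hg : g ∈ O0 D X P) : n * g * n⁻¹ ∈ O0 D X P := by
  have h1 : O0 D X P ≤ (O0 D X P).comap (MulAut.conj n).toMonoidHom := by
    conv_lhs => rw [O0]
    rw [closure_le]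
    rintro g ⟨hg1, hg2⟩
    refine subset_closure ⟨?_, ?_⟩
    · rw [MulEquiv.coe_toMonoidHom, MulAut.conj_apply]
      exact conj_mem_K0 hn hg1
    · rw [MulEquiv.coe_toMonoidHom, MulEquiv.orderOf_eq]
      exact hg2
  exact h1 hg

theorem rho_eq_one_iff {n : N0 D X P} : rho D X P n = 1 ↔ (n : Y) ∈ K0 D X P := by
  rw [mem_K0]
  constructor
  · intro h d hd
    have h1 := congrArg (fun f : Perm ↥(Sg D X P) => ((f ⟨d, hd⟩ : ↥(Sg D X P)) : D)) h
    exact h1
  · intro h
    refine Equiv.ext fun d => Subtype.ext ?_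
    exact h d d.2

theorem t_mem_K0 (h : Hyp D t X P j) : t ∈ K0 D X P := mem_K0.2 fun d _ => h.tD d

theorem mem_K0_iff [Finite Y] (F : Full D t X P j α) {n : Y} : n ∈ K0 D X P ↔ n ∈ O0 D X P ∨ n * t ∈ O0 D X P := by
  have h := F.hyp
  constructor
  · intro hn
    obtain ⟨a, b, ha, hb, hab, hk, ho⟩ := QuotHyp.exists_two_odd n
    have haK : a ∈ K0 D X P := (zpowers_le.2 hn) ha
    have hbO : b ∈ O0 D X P := subset_closure ⟨(zpowers_le.2 hn) hb, ho⟩
    rcases two_mem_inf h F.alpha haK.1 haK.2 hk with rfl | rfl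
    · left; rw [hab, one_mul]; exact hbO
    · right
      have : n * a = b := by rw [hab, h.tc b, mul_assoc, h.t2, mul_one]
      rw [this]; exact hbO
  · rintro (hn | hn)
    · exact O0_le hn
    · have h1 := (K0 D X P).mul_mem (O0_le hn) (t_mem_K0 h)
      rwa [mul_assoc, h.t2, mul_one] at h1

open Classical in
/-- An element of order 4 of `P` is a double transposition of the nine points. -/
theorem rho_k [Finite Y] (F : Full D t X P j α) {k : Y} (hk : k ∈ P) (hk1 : k ≠ 1) (hkt : k ≠ t) (hkN : k ∈ N0 D X P) :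
    ∃ a b c d : ↥(Sg D X P), a ≠ b ∧ a ≠ c ∧ a ≠ d ∧ b ≠ c ∧ b ≠ d ∧ c ≠ d ∧
      rho D X P ⟨k, hkN⟩ = swap a b * swap c d := by
  have h := F.hyp
  have hm : ∀ x y z : D, ∃ w ∈ FX D X, w ≠ x ∧ w ≠ y ∧ w ≠ z := many_of_ncard (by rw [h.five]; norm_num)
  have hkX : ∀ d ∈ FX D X, k • d ∈ FX D X := fun d hd => smul_mem_FX_of_comm (fun x hx => (h.comm x hx k hk).symm) hd
  have hkk : ∀ d : D, k • k • d = d := fun d => by rw [smul_smul, h.symm.sq k hk hk1 hkt, h.tD]
  have hne : ∀ d ∈ FX D X, d ≠ α → k • d ≠ d := fun d hd hdα he =>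
    hdα (eq_alpha h.symm (hα_symm F.alpha) hk hk1 hkt hd he)
  have hkα : k • α = α := ((F.alpha α).2 rfl).2 k hk
  obtain ⟨a, ha, haα, -, -⟩ := hm α α α
  obtain ⟨c, hc, hcα, hca, hcb⟩ := hm α a (k • a)
  have hbα : k • a ≠ α := fun e => haα (MulAction.injective k (e.trans hkα.symm))
  have hdα : k • c ≠ α := fun e => hcα (MulAction.injective k (e.trans hkα.symm))
  have hab : a ≠ k • a := (hne a ha haα).symm
  have hcd : c ≠ k • c := (hne c hc hcα).symm
  have had : a ≠ k • c := fun e => hcb (by rw [e, hkk])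
  have hbd : k • a ≠ k • c := fun e => hca (MulAction.injective k e).symm
  have hall : ∀ e ∈ FX D X, e ∈ [α, a, k • a, c, k • c] := by
    intro e he
    refine mem_list_of_ncard (S := FX D X) ?_ ?_ (by rw [h.five]; rfl) (by simp) he
    · simp only [List.nodup_cons, List.mem_cons, List.not_mem_nil, or_false, not_or, List.nodup_nil, and_true,
        not_false_eq_true]
      exact ⟨⟨haα.symm, hbα.symm, hcα.symm, hdα.symm⟩, ⟨hab, hca.symm, had⟩, ⟨hcb.symm, hbd⟩, hcd⟩
    · intro e he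
      simp only [List.mem_cons, List.not_mem_nil, or_false] at he
      rcases he with rfl | rfl | rfl | rfl | rfl
      · exact ((F.alpha _).2 rfl).1
      · exact ha
      · exact hkX _ ha
      · exact hc
      · exact hkX _ hc
  obtain ⟨a', ea⟩ : ∃ a' : ↥(Sg D X P), (a' : D) = a := ⟨⟨a, Or.inl ha⟩, rfl⟩
  obtain ⟨b', eb⟩ : ∃ b' : ↥(Sg D X P), (b' : D) = k • a := ⟨⟨k • a, Or.inl (hkX a ha)⟩, rfl⟩
  obtain ⟨c', ec⟩ : ∃ c' : ↥(Sg D X P), (c' : D) = c := ⟨⟨c, Or.inl hc⟩, rfl⟩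
  obtain ⟨d', ed⟩ : ∃ d' : ↥(Sg D X P), (d' : D) = k • c := ⟨⟨k • c, Or.inl (hkX c hc)⟩, rfl⟩
  have nab : a' ≠ b' := fun e => hab (ea.symm.trans ((congrArg Subtype.val e).trans eb))
  have nac : a' ≠ c' := fun e => hca (ea.symm.trans ((congrArg Subtype.val e).trans ec)).symm
  have nad : a' ≠ d' := fun e => had (ea.symm.trans ((congrArg Subtype.val e).trans ed))
  have nbc : b' ≠ c' := fun e => hcb (eb.symm.trans ((congrArg Subtype.val e).trans ec)).symm
  have nbd : b' ≠ d' := fun e => hbd (eb.symm.trans ((congrArg Subtype.val e).trans ed))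
  have ncd : c' ≠ d' := fun e => hcd (ec.symm.trans ((congrArg Subtype.val e).trans ed))
  refine ⟨a', b', c', d', nab, nac, nad, nbc, nbd, ncd, ?_⟩
  refine Equiv.ext fun e => Subtype.ext ?_
  rw [rho_apply, Perm.mul_apply]
  change k • (e : D) = _
  by_cases e1 : e = a'
  · rw [e1, swap_apply_of_ne_of_ne (a := c') (b := d') nac nad, swap_apply_left, ea, eb]
  by_cases e2 : e = b'
  · rw [e2, swap_apply_of_ne_of_ne (a := c') (b := d') nbc nbd, swap_apply_right, ea, eb]
    exact hkk a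
  by_cases e3 : e = c'
  · rw [e3, swap_apply_left, swap_apply_of_ne_of_ne (a := a') (b := b') nad.symm nbd.symm, ec, ed]
  by_cases e4 : e = d'
  · rw [e4, swap_apply_right, swap_apply_of_ne_of_ne (a := a') (b := b') nac.symm nbc.symm, ec, ed]
    exact hkk c
  have hfix : k • (e : D) = e := by
    rcases e.2 with he | he
    · have h1 := hall e he
      simp only [List.mem_cons, List.not_mem_nil, or_false] at h1
      rcases h1 with h1 | h1 | h1 | h1 | h1
      · rw [h1]; exact hkα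
      · exact absurd (Subtype.ext (h1.trans ea.symm)) e1
      · exact absurd (Subtype.ext (h1.trans eb.symm)) e2
      · exact absurd (Subtype.ext (h1.trans ec.symm)) e3
      · exact absurd (Subtype.ext (h1.trans ed.symm)) e4
    · exact he k hk
  rw [hfix, swap_apply_of_ne_of_ne (a := c') (b := d') e3 e4, swap_apply_of_ne_of_ne (a := a') (b := b') e1 e2]

/-- **The stabiliser of the nine points is a cover of `A₉` modulo its core.** -/
theorem exists_cover [Finite Y] (F : Full D t X P j α) (htN : t ∈ N0 D X P) :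
    ∃ (C : Type u) (_ : Group C) (K : Cover (Fin 9) C) (f : N0 D X P →* C), Function.Surjective f ∧
      Odd (Nat.card f.ker) ∧ f ⟨t, htN⟩ = K.z := by
  classical
  have h := F.hyp
  have hfinS : (Sg D X P).Finite := Set.finite_of_ncard_ne_zero (by rw [ncard_Sg F]; norm_num)
  let _ : Fintype ↥(Sg D X P) := hfinS.fintype
  have hcard : Fintype.card ↥(Sg D X P) = 9 := by
    rw [← Nat.card_eq_fintype_card]
    have := ncard_Sg F
    rw [← Nat.card_coe_set_eq] at this
    exact this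
  let O : Subgroup (N0 D X P) := (O0 D X P).subgroupOf (N0 D X P)
  have hO0N : O0 D X P ≤ N0 D X P := O0_le.trans K0_le
  have hOn : O.Normal := by
    refine ⟨fun g hg n => ?_⟩
    exact conj_mem_O0 n.2 hg
  have hOodd : Odd (Nat.card O) := by
    rw [Nat.card_congr (Subgroup.subgroupOfEquivOfLe hO0N).toEquiv]
    exact odd_O0 F
  obtain ⟨k, hk, hk1, hkt⟩ := h.symm.exists_mem
  have hkN : k ∈ N0 D X P := mem_N0_of fun d hd => by
    rcases hd with hd | hd
    · exact Or.inl (smul_mem_FX_of_comm (fun x hx => (h.comm x hx k hk).symm) hd)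
    · rw [hd k hk]; exact Or.inr hd
  obtain ⟨a, b, c, d, hab, hac, had, hbc, hbd, hcd, hρ⟩ := rho_k F hk hk1 hkt hkN
  obtain ⟨K, hK⟩ := Cfsg.Agent.TwoGenNineE.Glue.exists_cover (rho D X P) (range_eq F) (t := ⟨t, htN⟩)
    (Subtype.ext h.t2) (fun e => h.t1 (congrArg Subtype.val e)) (fun y => Subtype.ext (h.tc y).symm) O hOodd (by
      intro n
      rw [rho_eq_one_iff, mem_K0_iff F]
      exact Iff.rfl) (x := ⟨k, hkN⟩) (Subtype.ext (h.symm.sq k hk hk1 hkt)) hab hac had hbc hbd hcd hρ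
  refine ⟨N0 D X P ⧸ O, inferInstance, K.congr (Fintype.equivOfCardEq (by rw [hcard, Fintype.card_fin])),
    QuotientGroup.mk' O, QuotientGroup.mk'_surjective O, ?_, ?_⟩
  · rw [QuotientGroup.ker_mk']; exact hOodd
  · exact hK.symm

end Main

end Cfsg.Agent.TwoGenNine.StabCover
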